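import Cfsg.Agent.U5.B
import Cfsg.Agent.H1.Frattini

/-! Quadratic offenders on an essential subgroup. -/

set_option autoImplicit false
set_option linter.unusedSectionVars false
set_option linter.style.haveILetI false

open Equiv
open scoped commutatorElement

namespace Cfsg.Agent.Uf.E0

open Cfsg.Fus Cfsg.FusionSystem

section Abs

variable {Γ V : Type*} [Group Γ] [AddCommGroup V] [DistribMulAction Γ V]

/-- Vectors fixed by the `p'`-elements of `L`. -/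
def fx (p : ℕ) (L : Subgroup Γ) (V : Type*) [AddCommGroup V] [DistribMulAction Γ V] :
    AddSubgroup V where
  carrier := {v | ∀ l ∈ L, ∀ n : ℕ, n.Coprime p → l ^ n = 1 → l • v = v}
  zero_mem' := fun _ _ _ _ _ => smul_zero _
  add_mem' := fun a b l hl n h1 h2 => by rw [smul_add, a l hl n h1 h2, b l hl n h1 h2]
  neg_mem' := fun a l hl n h1 h2 => by rw [smul_neg, a l hl n h1 h2]

variable {p : ℕ} {L : Subgroup Γ}

theorem fx_smul {g : Γ} (hg : g ∈ L) {v : V} (hv : v ∈ fx p L V) : g • v ∈ fx p L V :=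
  fun l hl n h1 h2 => by
    have := hv (g⁻¹ * l * g) (L.mul_mem (L.mul_mem (L.inv_mem hg) hl) hg) n h1 (by
      have := conj_pow (i := n) (a := g⁻¹) (b := l)
      rw [inv_inv] at this
      rw [this, h2, mul_one, inv_mul_cancel])
    rw [mul_smul, mul_smul, inv_smul_eq_iff] at this
    exact this

theorem mem_fx (hV : ∀ v : V, ∃ k, p ^ k • v = 0) {v : V} (h : ∀ l ∈ L, l • v - v ∈ fx p L V) :
    v ∈ fx p L V := fun l hl n h1 h2 => by
  have h3 := h l hl l hl n h1 h2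
  have h4 : ∀ j : ℕ, l ^ j • v = v + j • (l • v - v) := fun j => by
    induction j with
    | zero => simp
    | succ j ih =>
      rw [pow_succ', mul_smul, ih, smul_add, smul_comm l j, h3, succ_nsmul]; abel
  have h5 := h4 n
  rw [h2, one_smul, left_eq_add] at h5
  obtain ⟨k, hk⟩ := hV (l • v - v)
  have := Nat.dvd_gcd (addOrderOf_dvd_of_nsmul_eq_zero h5) (addOrderOf_dvd_of_nsmul_eq_zero hk)
  rw [(h1.pow_right k).gcd_eq_one, Nat.dvd_one, AddMonoid.addOrderOf_eq_one_iff] at this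
  exact sub_eq_zero.1 this

/-- The stabiliser in `L` of a vector modulo `fx`. -/
def st (p : ℕ) (L : Subgroup Γ) (v : V) : Subgroup Γ where
  carrier := {l | l ∈ L ∧ l • v - v ∈ fx p L V}
  one_mem' := ⟨L.one_mem, by simp⟩
  mul_mem' := fun {a b} ha hb => ⟨L.mul_mem ha.1 hb.1, by
    have := (fx p L V).add_mem (fx_smul ha.1 hb.2) ha.2
    rwa [smul_sub, sub_add_sub_cancel, ← mul_smul] at this⟩
  inv_mem' := fun {a} ha => ⟨L.inv_mem ha.1, by
    have := (fx p L V).neg_mem (fx_smul (L.inv_mem ha.1) ha.2)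
    rwa [smul_sub, inv_smul_smul, neg_sub] at this⟩

theorem qo_abs [Finite Γ] [hp : Fact p.Prime] (P : Sylow p Γ) {N : Set Γ} {M : Subgroup Γ}
    (hPM : (P : Subgroup Γ) ≤ M) (hM : M ≠ ⊤)
    (hm : ∀ s ∈ (P : Subgroup Γ), s ∉ N → ∀ g, g * s * g⁻¹ ∈ M → g ∈ M)
    (hk : ∀ (a : Γ) (n : ℕ), n.Coprime p → a ^ n = 1 → (∀ v : V, a • v = v) → a = 1)
    (hV : ∀ v : V, ∃ k, p ^ k • v = 0) {B : Set Γ} (hB : ∀ g ∈ B, g ∈ (P : Subgroup Γ))
    (hq : ∀ g ∈ B, ∀ h ∈ B, ∀ v : V, h • (g • v - v) = g • v - v) {b : Γ} (hb : b ∈ B)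
    (hbN : b ∉ N) {X Y : Type*} [Finite X] (f : V → X)
    (hf : ∀ v w, f v = f w → b • (v - w) = v - w) (g : Y → Γ) (hg : ∀ y, g y ∈ B)
    (hi : ∀ y y', (g y')⁻¹ * g y ∈ N → y = y') : Nat.card Y ≤ Nat.card X := by
  obtain ⟨L, ⟨hL, hLM⟩, hmin⟩ := (wellFounded_lt (α := Subgroup Γ)).has_min
    {L | (∀ g ∈ B, g ∈ L) ∧ ¬ L ≤ M} ⟨⊤, fun _ _ => trivial, fun h => hM (top_le_iff.1 h)⟩
  obtain ⟨x, hx, hxM⟩ := SetLike.not_le_iff_exists.1 hLM
  have key : ∀ v : V, (∀ g ∈ B, g • v - v ∈ fx p L V) → ∀ l ∈ L, l ∉ M → l • v - v ∈ fx p L V →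
      v ∈ fx p L V := fun v h1 l hl h2 h3 => by
    have e : st p L v = L := by
      by_contra hne
      exact hmin (st p L v) ⟨fun g hg => ⟨hL g hg, h1 g hg⟩, fun h => h2 (h ⟨hl, h3⟩)⟩
        (lt_of_le_of_ne (fun _ h => h.1) hne)
    exact mem_fx hV fun l hl => (e.ge hl).2
  have hxb : x⁻¹ * b * x ∉ M := fun h =>
    hxM (by simpa using M.inv_mem (hm b (hB b hb) hbN x⁻¹ (by rwa [inv_inv])))
  have hxbL : x⁻¹ * b * x ∈ L := L.mul_mem (L.mul_mem (L.inv_mem hx) (hL b hb)) hx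
  obtain ⟨β, hβ, u, hu⟩ : ∃ β ∈ B, ∃ u : V, β • u - u ∉ fx p L V := by
    by_contra hc
    push Not at hc
    have h1 : ∀ u : V, u ∈ fx p L V := fun u => key u (fun g hg => hc g hg u) _ hxbL hxb (by
      have := fx_smul (L.inv_mem hx) (hc b hb (x • u))
      rwa [smul_sub, inv_smul_smul, ← mul_smul, ← mul_smul] at this)
    have h2 : IsPGroup p L := fun l => by
      obtain ⟨k, m, h3, h4⟩ := Nat.exists_eq_pow_mul_and_not_dvd (orderOf_pos l).ne' p hp.out.ne_one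
      have h5 : ((l : Γ) ^ p ^ k) ^ m = 1 := by
        rw [← pow_mul, ← h4, ← Subgroup.coe_pow, pow_orderOf_eq_one, Subgroup.coe_one]
      have h6 := ((Nat.Prime.coprime_iff_not_dvd hp.out).2 h3).symm
      exact ⟨k, Subtype.ext (hk _ m h6 h5 fun v => h1 v _ (L.pow_mem l.2 _) m h6 h5)⟩
    obtain ⟨T, hT⟩ := h2.exists_le_sylow
    obtain ⟨k, e⟩ := MulAction.exists_smul_eq Γ T P
    have h3 : ∀ l ∈ L, k * l * k⁻¹ ∈ M := fun l hl => hPM (by
      rw [← e, Sylow.coe_subgroup_smul]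
      exact Subgroup.smul_mem_pointwise_smul _ _ _ (hT hl))
    have h4 := hm b (hB b hb) hbN k (h3 b (hL b hb))
    exact hxM (by simpa [mul_assoc] using M.mul_mem (M.mul_mem (M.inv_mem h4) (h3 x hx)) h4)
  refine Nat.card_le_card_of_injective
    (fun y => f (x • (g y • x • (β • u - u) - x • (β • u - u)))) fun y y' e => hi y y' ?_
  have h1 := hf _ _ e
  rw [← smul_sub] at h1
  have h2 := key (g y • x • (β • u - u) - x • (β • u - u) -
      (g y' • x • (β • u - u) - x • (β • u - u))) (fun s hs => by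
    rw [smul_sub, hq _ (hg y) s hs, hq _ (hg y') s hs, sub_self]; exact zero_mem _) _ hxbL hxb (by
      rw [mul_smul, mul_smul, h1, inv_smul_smul, sub_self]; exact zero_mem _)
  rw [sub_sub_sub_cancel_right] at h2
  by_contra hn
  have h3 := hm _ ((P : Subgroup Γ).mul_mem ((P : Subgroup Γ).inv_mem (hB _ (hg y'))) (hB _ (hg y)))
    hn x⁻¹
  rw [inv_inv] at h3
  refine hu (key _ (fun s hs => by rw [hq β hβ s hs, sub_self]; exact zero_mem _) _
    (L.mul_mem (L.mul_mem (L.inv_mem hx) (L.mul_mem (L.inv_mem (hL _ (hg y'))) (hL _ (hg y)))) hx)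
    (fun h => hxM (by simpa using M.inv_mem (h3 h))) ?_)
  have h4 := fx_smul (L.inv_mem hx) (fx_smul (L.inv_mem (hL _ (hg y'))) h2)
  rw [smul_sub, inv_smul_smul, smul_sub, inv_smul_smul] at h4
  rwa [mul_smul, mul_smul, mul_smul]

end Abs

universe u

variable {Ω : Type u} [Group Ω] {S : Subgroup Ω} [Finite S] {F : FusionSystem S}
  {E : Subgroup Ω} {p : ℕ} [hp : Fact p.Prime]

open Classical in
/-- The projection to the abelianization. -/
noncomputable def ab (E : Subgroup Ω) (x : Ω) : Additive (Abelianization E) :=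
  if h : x ∈ E then Additive.ofMul (Abelianization.of ⟨x, h⟩) else 0

theorem ab_mul {x y : Ω} (hx : x ∈ E) (hy : y ∈ E) : ab E (x * y) = ab E x + ab E y := by
  rw [ab, ab, ab, dif_pos hx, dif_pos hy, dif_pos (E.mul_mem hx hy), ← ofMul_mul, ← map_mul]
  rfl

theorem ab_eq_zero {x : Ω} (hx : x ∈ E) : ab E x = 0 ↔ x ∈ ⁅E, E⁆ := by
  rw [ab, dif_pos hx, ofMul_eq_zero, ← MonoidHom.mem_ker, Abelianization.ker_of,
    ← Subgroup.map_subtype_commutator, Subgroup.mem_map]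
  exact ⟨fun h => ⟨_, h, rfl⟩, fun ⟨y, h1, h2⟩ => by
    rwa [show y = ⟨x, hx⟩ from Subtype.ext h2] at h1⟩

theorem ab_inv_mul {x y : Ω} (hx : x ∈ E) (hy : y ∈ E) : ab E (x⁻¹ * y) = ab E y - ab E x := by
  rw [eq_sub_iff_add_eq', ← ab_mul hx (E.mul_mem (E.inv_mem hx) hy), mul_inv_cancel_left]

theorem comm_le : ⁅E, E⁆ ≤ E := Subgroup.commutator_le.2 fun a ha b hb => by
  rw [commutatorElement_def]
  exact E.mul_mem (E.mul_mem (E.mul_mem ha hb) (E.inv_mem ha)) (E.inv_mem hb)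

theorem comm_inv {τ : Perm Ω} (hτ : F.Iso E E τ) {x : Ω} (hx : x ∈ ⁅E, E⁆) : τ x ∈ ⁅E, E⁆ := by
  have := mem_img_of_mem τ hx
  rwa [hτ.homOn.img_commutator le_rfl le_rfl, hτ.img_eq] at this

/-- A quadratic set of automorphisms of `E / E'` is not a strict offender. -/
theorem qo (hF : F.IsSaturated p) (hS : IsPGroup p S) (hE : F.IsEssential p E) {B : Set Ω}
    (hB : ∀ g ∈ B, g ∈ S ∧ g ∈ Subgroup.normalizer (E : Set Ω))
    (hq : ∀ g ∈ B, ∀ h ∈ B, ∀ x ∈ E,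
      (x⁻¹ * (g * x * g⁻¹))⁻¹ * (h * (x⁻¹ * (g * x * g⁻¹)) * h⁻¹) ∈ ⁅E, E⁆)
    {b : Ω} (hb : b ∈ B) (hbE : b ∉ E) {X Y : Type*} [Finite X] (f : Ω → X)
    (hf : ∀ x ∈ E, ∀ y ∈ E, f x = f y → (y⁻¹ * x)⁻¹ * (b * (y⁻¹ * x) * b⁻¹) ∈ ⁅E, E⁆)
    (g : Y → Ω) (hg : ∀ y, g y ∈ B) (hi : ∀ y y', (g y')⁻¹ * g y ∈ E → y = y') :
    Nat.card Y ≤ Nat.card X := by
  haveI := finite_of_le hE.le
  have hpE := isPGroup_of_le hS hE.le
  have hs : ∀ v, ∃ x ∈ E, ab E x = v := fun v => by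
    obtain ⟨x, hx⟩ := QuotientGroup.mk_surjective (Additive.toMul v)
    exact ⟨x, x.2, by rw [ab, dif_pos x.2]; exact congrArg Additive.ofMul hx⟩
  obtain ⟨Γ, _, _, _, P, ρ, h1, h2, h3, h4, h5⟩ :=
    H4.Sp.exists_setup (hE.isFullyNormalized.isFullyAutomized hF hS) (ab E)
      (fun x hx y hy => ab_mul hx hy) hs
      fun τ hτ x hx h => (ab_eq_zero (hτ.mem hx)).2 (comm_inv hτ ((ab_eq_zero hx).1 h))
  obtain ⟨M, hM, hSM⟩ := hE.exists_strEmb hS
  choose sec hsec hsec' using hs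
  have hfM : fixP E ≤ M := fun σ hσ => hSM (fixP_le_innS S E hσ)
  have ha : ∀ s : B, ∃ a, ∀ x ∈ E, ρ a x = s * x * (s : Ω)⁻¹ := fun s =>
    h2 _ (F.iso_cj hE.le (hB s s.2).1 (hB s s.2).2)
  choose a ha using ha
  have hn : ∀ s ∈ B, ∀ x ∈ E, s * x * s⁻¹ ∈ E := fun s hs x hx =>
    (Subgroup.mem_normalizer_iff.1 (hB s hs).2 x).1 hx
  have hd : ∀ s : B, ∀ x ∈ E, a s • ab E x - ab E x = ab E (x⁻¹ * (s * x * (s : Ω)⁻¹)) :=
    fun s x hx => by rw [h5 _ x hx, ha s x hx, ab_inv_mul hx (hn s s.2 x hx)]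
  have hin : ∀ s t : B, ρ ((a t)⁻¹ * a s) ∈ innS E E → (t : Ω)⁻¹ * s ∈ E := fun s t h => by
    obtain ⟨k, hk, e⟩ := mem_innS_self.1 h
    refine hE.isCentric.mem_of_cj_mem_innS (S.mul_mem (S.inv_mem (hB t t.2).1) (hB s s.2).1)
      (mem_innS_self.2 ⟨k, hk, fun x hx => ?_⟩)
    have e1 := e x hx
    rw [map_mul, map_inv, Perm.mul_apply, Perm.inv_eq_iff_eq, ha s x hx,
      ha t _ (E.mul_mem (E.mul_mem hk hx) (E.inv_mem hk))] at e1
    rw [cj_apply, mul_inv_rev, inv_inv, show (t : Ω)⁻¹ * s * x * ((s : Ω)⁻¹ * t) =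
      (t : Ω)⁻¹ * (s * x * (s : Ω)⁻¹) * t by group, e1]
    group
  refine qo_abs (V := Additive (Abelianization E)) P (N := {a | ρ a ∈ innS E E}) (M := M.comap ρ)
    (fun s hs => hSM ((h4 s).1 hs)) (fun h => hM.ne (le_antisymm hM.le fun τ hτ => ?_))
    (fun s hs hN k hk => ?_) (fun c n hn hc hv => ?_) (fun v => ?_) (B := Set.range a) ?_ ?_
    (b := a ⟨b, hb⟩) ⟨_, rfl⟩ (fun h => hbE ?_) (fun v => f (sec v)) (fun v w e => ?_)
    (fun y => a ⟨g y, hg y⟩) (fun y => ⟨_, rfl⟩) fun y y' h => hi y y' (hin _ _ h)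
  · obtain ⟨c, hc⟩ := h2 τ ((mem_stab hE.le).1 hτ)
    have h6 : ρ c ∈ M := h.ge (Subgroup.mem_top c)
    simpa using M.mul_mem h6 (hfM (inv_mul_mem_fixP.2 fun x hx => (hc x hx).symm))
  · refine hM.mem (ρ s) (hSM ((h4 s).1 hs)) hN ?_ (ρ k) (h1 k).mem_stab (by simpa using hk)
    obtain ⟨j, hj⟩ := isPMod_innS hS E _ ((h4 s).1 hs)
    exact ⟨j, fixP_le_innS E E hj⟩
  · obtain ⟨k, hk⟩ := H1.aut_pow_eq_one_of_frattini hpE (resAut E (ρ c)) fun x =>
      H1.commutator_le_frattini_of_isPGroup hpE (by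
        have h6 := hv (ab E x)
        rw [h5 c x x.2, ← sub_eq_zero, ← ab_inv_mul x.2 ((h1 c).mem x.2),
          ab_eq_zero (E.mul_mem (E.inv_mem x.2) ((h1 c).mem x.2)),
          ← Subgroup.map_subtype_commutator] at h6
        obtain ⟨y, hy, e⟩ := h6
        rwa [show x⁻¹ * resAut E (ρ c) x = y from Subtype.ext (by
          rw [Subgroup.coe_mul, Subgroup.coe_inv, resAut_apply (h1 c).mem_autStab]; exact e.symm)])
    rw [← (homOn_resAut E).map_pow (h1 c).mem_autStab,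
      resAut_eq_one_iff ((autStab E).pow_mem (h1 c).mem_autStab _)] at hk
    exact h3 c (mem_of_pow_of_coprime (hn.pow_right k) (by rw [← map_pow, hc, map_one]; exact one_mem _) hk)
  · obtain ⟨k, hk⟩ := hpE.of_surjective Abelianization.of QuotientGroup.mk_surjective
      (Additive.toMul v)
    exact ⟨k, congrArg Additive.ofMul hk⟩
  · rintro _ ⟨s, rfl⟩
    exact (h4 _).2 (mem_innS.2 ⟨s, (hB s s.2).1, (hB s s.2).2, ha s⟩)
  · rintro _ ⟨s, rfl⟩ _ ⟨t, rfl⟩ v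
    have m := E.mul_mem (E.inv_mem (hsec v)) (hn s s.2 _ (hsec v))
    rw [← hsec' v, hd s _ (hsec v), ← sub_eq_zero, hd t _ m,
      ab_eq_zero (E.mul_mem (E.inv_mem m) (hn t t.2 _ m))]
    exact hq s s.2 t t.2 _ (hsec v)
  · obtain ⟨k, hk, e⟩ := mem_innS_self.1 h
    exact hE.isCentric.mem_of_cj_mem_innS (hB b hb).1
      (mem_innS_self.2 ⟨k, hk, fun x hx => (ha ⟨b, hb⟩ x hx).symm.trans (e x hx)⟩)
  · have m := E.mul_mem (E.inv_mem (hsec w)) (hsec v)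
    rw [← hsec' v, ← hsec' w, ← ab_inv_mul (hsec w) (hsec v), ← sub_eq_zero, hd _ _ m,
      ab_eq_zero (E.mul_mem (E.inv_mem m) (hn b hb _ m))]
    exact hf _ (hsec v) _ (hsec w) e

end Cfsg.Agent.Uf.E0
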