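import Cfsg.Agent.U5.B

/-! Essential subgroups of `U5 K` containing `Z₂` and not inside `Q₂` keep `Z` invariant. -/

set_option autoImplicit false
set_option linter.unusedSectionVars false
set_option linter.style.haveILetI false

open Equiv

namespace Cfsg.Agent.Uf

open Cfsg.Fus Cfsg.FusionSystem U5

namespace Ea

theorem inv_maps {α : Type*} [Group α] [Finite α] {σ : Perm α} {A : Subgroup α}
    (h : ∀ x ∈ A, σ x ∈ A) : ∀ x ∈ A, σ⁻¹ x ∈ A := fun x hx => by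
  obtain ⟨y, hy, rfl⟩ := (((Set.toFinite (A : Set α)).injOn_iff_bijOn_of_mapsTo h).1
    σ.injective.injOn).surjOn hx
  simpa using hy

theorem maps_inv {α : Type*} [Group α] [Finite α] {σ : Perm α} {A : Subgroup α}
    (h : ∀ x ∈ A, σ⁻¹ x ∈ A) : ∀ x ∈ A, σ x ∈ A := by simpa using inv_maps h

variable {K : Type*} [Field K] [StarRing K] [Finite K] [HF K]
  {F : FusionSystem (⊤ : Subgroup (U5 K))} {E : Subgroup (U5 K)} {τ : Perm (U5 K)}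

/-- The largest invariant subgroup of `E` inside `A`. -/
def ico (F : FusionSystem (⊤ : Subgroup (U5 K))) (E A : Subgroup (U5 K)) : Subgroup (U5 K) where
  carrier := {x | x ∈ E ∧ ∀ τ, F.Iso E E τ → τ x ∈ A}
  one_mem' := ⟨one_mem _, fun τ hτ => by rw [hτ.homOn.map_one]; exact one_mem _⟩
  mul_mem' := fun hx hy => ⟨mul_mem hx.1 hy.1, fun τ hτ => by
    rw [hτ.homOn hx.1 hy.1]; exact mul_mem (hx.2 τ hτ) (hy.2 τ hτ)⟩
  inv_mem' := fun hx => ⟨inv_mem hx.1, fun τ hτ => by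
    rw [hτ.homOn.map_inv hx.1]; exact inv_mem (hx.2 τ hτ)⟩

theorem ico_le (A : Subgroup (U5 K)) : ico F E A ≤ E := fun _ h => h.1

theorem ico_inv (A : Subgroup (U5 K)) : Inv F E (ico F E A) := fun _ hτ _ hx =>
  ⟨hτ.mem hx.1, fun σ hσ => hx.2 _ (hτ.trans hσ)⟩

theorem ico_mem {A : Subgroup (U5 K)} {x : U5 K} (hx : x ∈ ico F E A) : x ∈ A := by
  simpa using hx.2 _ (F.iso_cj le_top (Subgroup.mem_top 1) (one_mem _))

theorem Z_Z2 : sZ K ≤ sZ2 K := fun _ h => ⟨h.1, h.2.1, h.2.2.1, h.2.2.2.2⟩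
theorem Z2_Y : sZ2 K ≤ sY K := fun _ h => ⟨h.1, h.2.1, h.2.2.1⟩
theorem Y_P : sY K ≤ sP K := fun _ h => ⟨h.1, h.2.1⟩
theorem P_Q2 : sP K ≤ sQ2 K := fun _ h => h.1
theorem xd_mem (t : K) : xd t ∈ sZ2 K := ⟨rfl, rfl, rfl, rfl⟩

theorem eq_of_Z {x w : U5 K} (hx : x ∈ sZ K) (hw : w ∈ sZ K) (h : x.z = w.z) : x = w :=
  U5.ext (hx.1.trans hw.1.symm) (hx.2.1.trans hw.2.1.symm) (hx.2.2.1.trans hw.2.2.1.symm)
    (hx.2.2.2.1.trans hw.2.2.2.1.symm) (hx.2.2.2.2.trans hw.2.2.2.2.symm) h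

theorem skew_of_Z {z : U5 K} (hz : z ∈ sZ K) : star z.z = -z.z := by
  rw [z.hz, hz.1, hz.2.2.1]; simp

/-- Every element of `Z` is a commutator with `Z₂`. -/
theorem exists_cm_d {x z : U5 K} (hx : x.a ≠ 0) (hz : z ∈ sZ K) : ∃ t, cm (xd t) x = z := by
  obtain ⟨t, ht⟩ := exists_sk hx (skew_of_Z hz)
  refine ⟨t, eq_of_Z (cm_sZ (xd_mem t) x) hz ?_⟩
  rw [cm_z_phi rfl rfl, ← ht]; simp [xd]

/-- Every element of `Z` is a commutator with `Φ`. -/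
theorem exists_cm_c {x z : U5 K} (hx : x ∈ sP K) (hc : x.c ≠ 0) (hz : z ∈ sZ K) :
    ∃ g ∈ sP K, cm g x = z := by
  obtain ⟨t, ht⟩ := exists_sk hc (skew_of_Z hz)
  obtain ⟨g, a, b, c, -⟩ := exists_el (0 : K) 0 t 0
  refine ⟨g, ⟨a, b⟩, eq_of_Z (cm_sPP ⟨a, b⟩ hx) hz ?_⟩
  rw [cm_z_phi a b, ← ht, hx.1, c]; simp

theorem mem_Q2_of_comm {x : U5 K} (h : ∀ t, xd t * x = x * xd t) : x ∈ sQ2 K := by
  by_contra hx
  obtain ⟨θ, h0, hθ⟩ := exists_skew (K := K)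
  obtain ⟨t, ht⟩ := exists_cm_d (z := xz θ hθ) hx ⟨rfl, rfl, rfl, rfl, rfl⟩
  rw [cm_eq_one.2 (h t)] at ht
  exact h0 (congrArg U5.z ht).symm

theorem map_comm (hτ : F.Iso E E τ) {g x : U5 K} (hg : g ∈ E) (hx : x ∈ E) (h : g * x = x * g) :
    τ g * τ x = τ x * τ g := by rw [← hτ.homOn hg hx, h, hτ.homOn hx hg]

theorem cm_left (hτ : F.Iso E E τ) {g x : U5 K} (hg : g ∈ E) (hx : x ∈ E) :
    cm g (τ x) = τ (cm (τ⁻¹ g) x) := by rw [map_cm hτ (hτ.inv_mem hg) hx]; simp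

theorem cm_right (hτ : F.Iso E E τ) {g x : U5 K} (hg : g ∈ E) (hx : x ∈ E) :
    cm (τ g) x = τ (cm g (τ⁻¹ x)) := by rw [map_cm hτ hg (hτ.inv_mem hx)]; simp

theorem stepA {e : U5 K} (he : e ∈ E) (ha : e.a ≠ 0) (h2 : sZ2 K ≤ E) (hτ : F.Iso E E τ)
    (hm : ¬ ∀ z ∈ sZ K, τ z ∈ sZ K) {x : U5 K} (hx : x ∈ sZ2 K) : τ x ∈ sP K := by
  have a0 : (τ x).a = 0 := by
    by_contra a0
    refine hm (maps_inv fun z hz => ?_)
    obtain ⟨t, rfl⟩ := exists_cm_d a0 hz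
    rw [cm_left hτ (h2 (xd_mem t)) (h2 hx)]
    simpa using cm_sZ' _ hx
  refine ⟨a0, ?_⟩
  have h1 := map_comm hτ (h2 hx) (h2 (Z_Z2 (cm_sZ hx (τ⁻¹ e)))) (comm_sZ x (cm_sZ hx (τ⁻¹ e)))
  rw [← cm_right hτ (h2 hx) he] at h1
  have h3 := (comm_iff.1 h1).2.2.1
  simp only [a0, cm_a, cm_b, cm_c, zero_mul, star_zero, mul_zero, sub_zero, zero_sub, neg_mul,
    neg_neg, zero_eq_mul, mul_eq_zero, ha, star_eq_zero, false_or, or_self] at h3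
  exact h3

theorem d_phi {g : U5 K} (hg : g ∈ sP K) (x : U5 K) :
    (cm g x).d = -g.c * star x.b - x.a * g.y := by
  rw [cm_d, hg.1, hg.2]; simp

theorem stepB {e : U5 K} (he : e ∈ E) (ha : e.a ≠ 0) (h2 : sZ2 K ≤ E) {ρ : Perm (U5 K)}
    (hρ : F.Iso E E ρ) (hm : ¬ ∀ z ∈ sZ K, ρ z ∈ sZ K) (hτ : F.Iso E E τ) {x : U5 K}
    (hx : x ∈ sZ2 K) : τ x ∈ sP K := by
  by_cases ht : ∀ z ∈ sZ K, τ z ∈ sZ K
  swap
  · exact stepA he ha h2 hτ ht hx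
  have hw : ∀ w ∈ E, cm (τ x) w ∈ sZ K := fun w hw' => by
    rw [cm_right hτ (h2 hx) hw']; exact ht _ (cm_sZ hx _)
  have a0 : (τ x).a = 0 := by
    by_contra a0
    have h1 := stepA he ha h2 (hτ.trans hρ.symm) (fun h => hm (maps_inv fun z hz => by
      simpa using h _ (inv_maps ht z hz))) hx
    refine hm fun z hz => ?_
    obtain ⟨t, rfl⟩ := exists_cm_d ha hz
    have p1 := stepA he ha h2 hρ hm (xd_mem t)
    have c1 := map_comm hρ (h2 (xd_mem t)) ((hτ.trans hρ.symm).mem (h2 hx))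
      (comm_sY (P_Q2 h1) (Z2_Y (xd_mem t))).symm
    simp only [Perm.mul_apply, Perm.coe_inv, Equiv.apply_symm_apply] at c1
    have c2 := congrArg U5.d (cm_eq_one.2 c1)
    rw [d_phi p1, one_d] at c2
    rw [map_cm hρ (h2 (xd_mem t)) he]
    have m := cm_sZ2 p1 (ρ e)
    refine ⟨m.1, m.2.1, m.2.2.1, ?_, m.2.2.2⟩
    have k1 := (hw _ (hρ.mem he)).2.2.1
    have k2 := (hw _ (hρ.mem he)).2.2.2.2
    rw [cm_c] at k1
    rw [cm_y] at k2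
    have k3 : (ρ e).a * star (τ x).b = (τ x).a * star (ρ e).b := by
      by_cases b0 : (τ x).b = 0
      · have : (ρ e).b = 0 := by simpa [b0, a0] using k1
        simp [b0, this]
      · exact mul_left_cancel₀ b0 (by linear_combination (τ x).a * k2 - star (τ x).b * k1)
    refine mul_left_cancel₀ a0 ?_
    rw [d_phi p1]
    linear_combination (ρ e).a * c2 + (ρ (xd t)).c * k3
  have k := (hw e he).2.2.1
  rw [cm_c, a0] at k
  exact ⟨a0, by simpa [ha] using k⟩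

end Ea

open Ea

variable {K : Type*} [Field K] [StarRing K] [Finite K] [HF K] {p : ℕ} [Fact p.Prime] [CharP K p]
  {F : FusionSystem (⊤ : Subgroup (U5 K))} {E : Subgroup (U5 K)}

theorem ess_1 (_hF : F.IsSaturated p) (hE : F.IsEssential p E) (h : ¬ E ≤ sQ2 K)
    (h2 : sZ2 K ≤ E) : Inv F E (sZ K) := by
  obtain ⟨e, he, ha⟩ := SetLike.not_le_iff_exists.1 h
  intro ρ hρ
  by_contra hm
  have hU : sZ K ≤ ico F E (sZ2 K) := fun z hz => ⟨h2 (Z_Z2 hz), fun τ hτ => by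
    obtain ⟨t, rfl⟩ := exists_cm_d ha hz
    rw [map_cm hτ (h2 (xd_mem t)) he]
    exact cm_sZ2 (stepB he ha h2 hρ hm hτ (xd_mem t)) _⟩
  have hT : sZ2 K ≤ ico F E (sP K) := fun z hz => ⟨h2 hz, fun τ hτ => stepB he ha h2 hρ hm hτ hz⟩
  have hP : sP K ≤ E := fun g hg => mem_of_chain hE (ico_le _) (ico_le _) (ico_le _) (ico_inv _)
    (ico_inv _) (ico_inv _) (fun x hx => comm_sY (P_Q2 hg) (Z2_Y (ico_mem hx)))
    (fun x hx => hU (cm_sPP hg (ico_mem hx))) (fun x _ => hT (cm_sZ2 hg x))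
    fun x _ => hT (cm_sZ2 hg x)
  have hY : ∀ x ∈ sZ2 K, ρ x ∈ sY K := fun x hx => by
    have p1 := stepA he ha h2 hρ hm hx
    refine ⟨p1.1, p1.2, by_contra fun c0 => hm (maps_inv fun z hz => ?_)⟩
    obtain ⟨g, hg, rfl⟩ := exists_cm_c p1 c0 hz
    rw [cm_left hρ (hP hg) (h2 hx)]
    simpa using cm_sZ' _ hx
  have hQ : ∀ x ∈ E ⊓ sQ2 K, ρ x ∈ E ⊓ sQ2 K := maps_inv
    fun x hx => ⟨hρ.inv_mem hx.1, mem_Q2_of_comm fun t => by
      simpa using map_comm hρ.symm (hρ.mem (h2 (xd_mem t))) hx.1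
        (comm_sY hx.2 (hY _ (xd_mem t))).symm⟩
  have hR : ∀ x ∈ sP K, ρ x ∈ sP K := fun x hx => by
    have a0 : (ρ x).a = 0 := (hQ x ⟨hP hx, P_Q2 hx⟩).2
    have k := (hY _ (cm_sZ2 hx (ρ⁻¹ e))).2.2
    rw [← cm_right hρ (hP hx) he, cm_c, a0] at k
    exact ⟨a0, by simpa [show e.a ≠ 0 from ha] using k⟩
  refine hm fun z hz => ?_
  obtain ⟨x, a, b, c, -⟩ := exists_el (0 : K) 0 1 0
  obtain ⟨g, hg, rfl⟩ := exists_cm_c (x := x) ⟨a, b⟩ (by rw [c]; exact one_ne_zero) hz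
  rw [map_cm hρ (hP hg) (hP ⟨a, b⟩)]
  exact cm_sPP (hR g hg) (hR x ⟨a, b⟩)

end Cfsg.Agent.Uf
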