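import Cfsg.Agent.U5.E1
import Cfsg.Agent.U5.E3
import Cfsg.Agent.H4.Sp4L

/-! The automizer of `Q₂` in a standard fusion system over `U5 K`. -/

set_option autoImplicit false
set_option linter.unusedSectionVars false
set_option linter.style.haveILetI false

open Equiv

namespace Cfsg.Agent.Uf

open Cfsg.Fus Cfsg.FusionSystem U5 Ea H4.Sp

variable {K : Type*} [Field K] [StarRing K] [Finite K] [HF K]
  {F : FusionSystem (⊤ : Subgroup (U5 K))} {τ : Perm (U5 K)}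

namespace L2

theorem cm_z_Q2 {g x : U5 K} (hg : g ∈ sQ2 K) (hx : x ∈ sQ2 K) :
    (cm g x).z = x.c * star g.c - g.c * star x.c := by
  simp [cm, mem_sQ2.1 hg, mem_sQ2.1 hx]; ring

theorem cm_d_Q2 {g x : U5 K} (hg : g ∈ sQ2 K) (hx : x ∈ sQ2 K) :
    (cm g x).d = x.c * star g.b - g.c * star x.b := by
  rw [cm_d, mem_sQ2.1 hg, mem_sQ2.1 hx]; ring

theorem norm_of_P {E : Subgroup (U5 K)} (h : sP K ≤ E) (g : U5 K) :
    g ∈ Subgroup.normalizer (E : Set (U5 K)) := norm_of_cm fun x _ => h (cm_sP g x)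

theorem fn_Q2 : F.IsFullyNormalized (sQ2 K) :=
  F.isFullyNormalized_of_le_normalizer le_top fun g _ => norm_of_P P_Q2 g

theorem iso_cj_Q2 (g : U5 K) : F.Iso (sQ2 K) (sQ2 K) (cj g) :=
  F.iso_cj le_top trivial (norm_of_P P_Q2 g)

theorem Y_Q2 : sY K ≤ sQ2 K := Y_P.trans P_Q2

theorem inv_Y2 : Inv F (sQ2 K) (sY K) := fun τ hτ x hx =>
  mem_Y_of_comm (hτ.mem (Y_Q2 hx)) fun g hg => by
    simpa using map_comm hτ (hτ.inv_mem hg) (Y_Q2 hx) (comm_sY (hτ.inv_mem hg) hx)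

/-- Every element of `Z₂` is a commutator of a given element of `Φ ∖ Y` with `Q₂`. -/
theorem exists_cm_Z2 {w m : U5 K} (hw : w ∈ sP K) (hc : w.c ≠ 0) (hm : m ∈ sZ2 K) :
    ∃ g ∈ sQ2 K, cm g w = m := by
  obtain ⟨t, ht⟩ := exists_sk hc (t := m.z) (by rw [m.hz, hm.1, hm.2.2.1]; simp)
  obtain ⟨g, a, b, c, -⟩ := exists_el (0 : K) (star (m.d / w.c)) t 0
  have h := cm_sZ2' g hw
  refine ⟨g, a, U5.ext (h.1.trans hm.1.symm) (h.2.1.trans hm.2.1.symm)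
    (h.2.2.1.trans hm.2.2.1.symm) ?_ (h.2.2.2.trans hm.2.2.2.symm) ?_⟩
  · rw [cm_d_Q2 a hw.1, b, hw.2, star_star, star_zero]; field_simp; ring
  · rw [cm_z_Q2 a hw.1, c, ← ht]; ring

/-- The image of `Φ` is a line. -/
theorem line (hτ : F.Iso (sQ2 K) (sQ2 K) τ) {w x : U5 K} (hw : w ∈ sP K) (hc : w.c ≠ 0)
    (hx : x ∈ sP K) : (τ w).b * (τ x).c = (τ w).c * (τ x).b := by
  have mw := hτ.mem (P_Q2 hw)
  have mx := hτ.mem (P_Q2 hx)
  have key : ∀ g ∈ sQ2 K, ((τ w).b * (τ x).c - (τ w).c * (τ x).b) *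
      star ((τ w).b * g.c - (τ w).c * g.b) -
      star ((τ w).b * (τ x).c - (τ w).c * (τ x).b) * ((τ w).b * g.c - (τ w).c * g.b) = 0 := by
    intro g hg
    obtain ⟨k, hk, e⟩ := exists_cm_Z2 hw hc (cm_sZ2' (τ⁻¹ g) hx)
    have e1 : cm g (τ x) = cm (τ k) (τ w) := by
      rw [cm_left hτ hg (P_Q2 hx), ← e, map_cm hτ hk (P_Q2 hw)]
    have mk := hτ.mem hk
    have z := congrArg U5.z e1
    have d := congrArg U5.d e1
    have y := congrArg U5.y e1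
    rw [cm_z_Q2 hg mx, cm_z_Q2 mk mw] at z
    rw [cm_d_Q2 hg mx, cm_d_Q2 mk mw] at d
    rw [cm_y, cm_y] at y
    have d' := congrArg star d
    simp only [star_sub, star_mul', star_star] at d' ⊢
    linear_combination (τ w).b * star (τ w).b * z - (τ w).b * star (τ w).c * d +
      (τ w).c * star (τ w).b * d' + (τ w).c * star (τ w).c * y
  by_contra h
  obtain ⟨θ, h0, hθ⟩ := exists_skew (K := K)
  obtain ⟨d, hd⟩ := exists_sk (sub_ne_zero.2 h) hθ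
  by_cases hb : (τ w).b = 0
  · have hc' : (τ w).c ≠ 0 := fun e => hc (by
      simpa using (inv_Y2 _ hτ.symm _ ⟨mw, hb, e⟩).2.2)
    obtain ⟨g, a, b, c, -⟩ := exists_el (0 : K) (-d / (τ w).c) 0 0
    have := key g a
    rw [b, c, mul_zero, zero_sub, mul_div_cancel₀ _ hc', neg_neg, hd] at this
    exact h0 this
  · obtain ⟨g, a, b, c, -⟩ := exists_el (0 : K) 0 (d / (τ w).b) 0
    have := key g a
    rw [b, c, mul_zero, sub_zero, mul_div_cancel₀ _ hb, hd] at this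
    exact h0 this

end L2

open L2

theorem l2c (hτ : F.Iso (sQ2 K) (sQ2 K) τ) :
    (∀ x ∈ sP K, τ x ∈ sP K) ∨ ∃ g, ∀ x ∈ sP K, (g * τ x * g⁻¹).c = 0 := by
  obtain ⟨w, a, b, c, -⟩ := exists_el (0 : K) 0 1 0
  have hc : w.c ≠ 0 := by rw [c]; exact one_ne_zero
  have l := fun x hx => line hτ ⟨a, b⟩ hc (x := x) hx
  by_cases hb : (τ w).b = 0
  · have hc' : (τ w).c ≠ 0 := fun e => hc (by
      simpa using (inv_Y2 _ hτ.symm _ ⟨hτ.mem (show w ∈ sQ2 K from a), hb, e⟩).2.2)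
    refine Or.inl fun x hx => ⟨hτ.mem (P_Q2 hx), ?_⟩
    have := l x hx
    rw [hb, zero_mul] at this
    exact (mul_eq_zero.1 this.symm).resolve_left hc'
  · refine Or.inr ⟨xa (-(τ w).c / (τ w).b), fun x hx => ?_⟩
    have m : (τ x).a = 0 := hτ.mem (P_Q2 hx)
    rw [cj_eq, mul_c, cm_c, cm_b, m]
    simp only [xa]
    field_simp
    linear_combination l x hx

variable {p : ℕ} [Fact p.Prime] [CharP K p]

namespace L2

theorem conj_inn (hF : F.IsSaturated p) (hτ : F.Iso (sQ2 K) (sQ2 K) τ)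
    (h : ∀ x ∈ sP K, τ x ∈ sP K) (g : U5 K) : τ * cj g * τ⁻¹ ∈ innS ⊤ (sQ2 K) := by
  obtain ⟨w, a, b, c, -⟩ := exists_el (0 : K) 0 1 0
  have hc : w.c ≠ 0 := by rw [c]; exact one_ne_zero
  have h1 : ∀ x ∈ sZ K, τ x ∈ sZ K := fun x hx => by
    obtain ⟨k, hk, rfl⟩ := exists_cm_c ⟨a, b⟩ hc hx
    rw [map_cm hτ (P_Q2 hk) a]
    exact cm_sPP (h k hk) (h w ⟨a, b⟩)
  have h2 : ∀ x ∈ sZ2 K, τ x ∈ sZ2 K := fun x hx => by
    obtain ⟨k, hk, rfl⟩ := exists_cm_Z2 ⟨a, b⟩ hc hx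
    rw [map_cm hτ hk a]
    exact cm_sZ2' _ (h w ⟨a, b⟩)
  have key : ∀ x ∈ sQ2 K, x⁻¹ * (τ * cj g * τ⁻¹) x = τ (cm g (τ⁻¹ x)) := fun x hx => by
    have m := hτ.inv_mem hx
    rw [Perm.mul_apply, Perm.mul_apply, cj_apply, cj_eq, hτ.homOn m (P_Q2 (cm_sP _ _))]
    simp
  refine mem_innS_of_chain (fn_Q2.isFullyAutomized hF (topP p)) (topP p)
    (C := ch (sZ K) (sZ2 K) (sP K) (sQ2 K)) (n := 4) (fun i hi => ?_) (fun i hi => ?_) rfl rfl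
    (fun g _ _ i hi x hx => ?_) (hτ.conj (iso_cj_Q2 g)) fun i hi x hx => ?_
  · interval_cases i
    exacts [bot_le, Z_Z2.trans (Z2_Y.trans Y_Q2), Z2_Y.trans Y_Q2, P_Q2, le_rfl]
  · interval_cases i
    exacts [bot_le, Z_Z2, Z2_Y.trans Y_P, P_Q2]
  · interval_cases i
    exacts [cm_eq_one.2 (comm_sZ g hx), cm_sZ' g hx, cm_sZ2' g hx, cm_sP g x]
  · interval_cases i
    · rw [key x (Z_Z2.trans (Z2_Y.trans Y_Q2) hx), cm_eq_one.2 (comm_sZ g (inv_maps h1 x hx)),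
        hτ.homOn.map_one]
      exact one_mem _
    · rw [key x (Z2_Y.trans Y_Q2 hx)]; exact h1 _ (cm_sZ' g (inv_maps h2 x hx))
    · rw [key x (P_Q2 hx)]; exact h2 _ (cm_sZ2' g (inv_maps h x hx))
    · rw [key x hx]; exact h _ (cm_sP _ _)

theorem ext_Q2 (hF : F.IsSaturated p) (hτ : F.Iso (sQ2 K) (sQ2 K) τ)
    (h : ∀ x ∈ sP K, τ x ∈ sP K) : ∃ α, F.Iso ⊤ ⊤ α ∧ ∀ x ∈ sQ2 K, α x = τ x :=
  exists_ext_top (fn_Q2.isReceptive hF (topP p)) (fun g _ => norm_of_P P_Q2 g) hτ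
    fun g _ => conj_inn hF hτ h g

theorem cj_b (g x : U5 K) : (g * x * g⁻¹).b = x.b := by simp

theorem cj_c (g : U5 K) {x : U5 K} (hx : x ∈ sQ2 K) : (g * x * g⁻¹).c = x.c + g.a * x.b := by
  simp [mem_sQ2.1 hx]; ring

/-- The opposite root group. -/
theorem opp (hF : F.IsSaturated p) (hτ : F.Iso (sQ2 K) (sQ2 K) τ) {w : U5 K} (hw : w ∈ sP K)
    (hw' : τ w ∉ sP K) (h0 : ∀ x ∈ sP K, (τ x).c = 0) (r : K) :
    ∃ σ, F.Iso (sQ2 K) (sQ2 K) σ ∧ ∀ x ∈ sQ2 K, (σ x).b = x.b + r * x.c ∧ (σ x).c = x.c := by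
  obtain ⟨Γ, _, _, _, P, ρ, r1, r2, -, r4, r5⟩ :=
    exists_setup (fn_Q2.isFullyAutomized hF (topP p)) (fun x : U5 K => (x.b, x.c))
    (fun x hx y _ => by simp [mem_sQ2.1 hx])
    (fun v => by
      obtain ⟨g, a, b, c, -⟩ := exists_el (0 : K) v.1 v.2 0
      exact ⟨g, a, by rw [b, c]⟩)
    (fun τ hτ x hx h0 => by
      have := inv_Y2 τ hτ x ⟨hx, congrArg Prod.fst h0, congrArg Prod.snd h0⟩
      exact Prod.ext this.2.1 this.2.2)
  have hQ : Quad K (P : Subgroup Γ) := ⟨fun s hs => by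
      obtain ⟨g, -, -, e⟩ := mem_innS.1 ((r4 s).1 hs)
      refine ⟨g.a, fun x y => ?_⟩
      obtain ⟨v, a, rfl, rfl, -⟩ := exists_el (0 : K) x y 0
      rw [r5 s v a, e v a, cj_b, cj_c g a], fun t => by
      obtain ⟨s, hs⟩ := r2 _ (iso_cj_Q2 (xa t))
      refine ⟨s, (r4 s).2 (mem_innS.2 ⟨xa t, trivial, norm_of_P P_Q2 _, hs⟩), fun x y => ?_⟩
      obtain ⟨v, a, rfl, rfl, -⟩ := exists_el (0 : K) x y 0
      rw [r5 s v a, hs v a, cj_apply, cj_b, cj_c _ a]; rfl⟩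
  obtain ⟨g, hg⟩ := r2 τ hτ
  obtain ⟨γ, g1, g2⟩ := hQ.opp (g := g) (y₀ := w.c) (by
    have := r5 g w hw.1
    rw [hw.2, hg w hw.1] at this
    rw [this]
    exact fun e => hw' ⟨hτ.mem hw.1, e⟩)
  have g3 : ∀ x, γ x = 0 := fun x => by
    obtain ⟨y, hy⟩ := g1 x
    obtain ⟨v, a, b, rfl, -⟩ := exists_el (0 : K) 0 y 0
    rw [← b, r5 g v a, hg v a] at hy
    rw [← h0 v ⟨a, b⟩]
    exact (congrArg Prod.snd hy).symm
  obtain ⟨s, -, e⟩ := g2 r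
  refine ⟨_, r1 (g * s * g⁻¹), fun x hx => ?_⟩
  have := e x.b x.c
  rw [g3, g3, add_zero, r5 _ x hx] at this
  exact ⟨congrArg Prod.fst this, congrArg Prod.snd this⟩

theorem opp' (h : Std p F) (r : K) :
    ∃ σ, F.Iso (sQ2 K) (sQ2 K) σ ∧ ∀ x ∈ sQ2 K, (σ x).b = x.b + r * x.c ∧ (σ x).c = x.c := by
  obtain ⟨τ, hτ, w, hw, hw'⟩ := h.n2
  obtain ⟨g, hg⟩ := (l2c hτ).resolve_left fun e => hw' (e w hw)
  exact opp h.sat (hτ.trans (iso_cj_Q2 g)) hw (fun e => hw' ⟨hτ.mem hw.1, by simpa using e.2⟩) hg r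

theorem weyl (h : Std p F) {t : K} (ht : t ≠ 0) : ∃ ω, F.Iso (sQ2 K) (sQ2 K) ω ∧
    ∀ x ∈ sQ2 K, (ω x).b = -x.c / t ∧ (ω x).c = t * x.b := by
  obtain ⟨σ, h1, h2⟩ := opp' h (-t⁻¹)
  have c := iso_cj_Q2 (F := F) (xa t)
  refine ⟨_, (h1.trans c).trans h1, fun x hx => ?_⟩
  have m := h1.mem hx
  rw [Perm.mul_apply, Perm.mul_apply, (h2 _ (c.mem m)).1, (h2 _ (c.mem m)).2, cj_apply, cj_b,
    cj_c _ m, (h2 x hx).1, (h2 x hx).2]
  simp only [xa]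
  constructor <;> field_simp <;> ring

end L2

theorem l2a (h : Std p F) : ∃ ω, F.Iso (sQ2 K) (sQ2 K) ω ∧
    ∀ x ∈ sQ2 K, (ω x).b = -x.c ∧ (ω x).c = x.b := by
  simpa using weyl h one_ne_zero

theorem l2b (h : Std p F) {t : K} (ht : t ≠ 0) : F.IsMap ⊤ (gam (t ^ 2) t⁻¹ 1) := by
  obtain ⟨ω, a1, a2⟩ := weyl h ht
  obtain ⟨η, b1, b2⟩ := weyl h (neg_ne_zero.2 (one_ne_zero (α := K)))
  have e : ∀ x ∈ sQ2 K, ((ω * η) x).b = x.b / t ∧ ((ω * η) x).c = t * x.c := fun x hx => by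
    rw [Perm.mul_apply, (a2 _ (b1.mem hx)).1, (a2 _ (b1.mem hx)).2, (b2 x hx).1, (b2 x hx).2]
    simp
  obtain ⟨α, c1, c2⟩ := ext_Q2 h.sat (b1.trans a1) fun x hx =>
    ⟨(b1.trans a1).mem hx.1, by rw [(e x hx.1).1, hx.2, zero_div]⟩
  obtain ⟨g, s, u, σ, hs, hu, c3⟩ := h.aut α c1
  have f1 : ∀ b, u * σ b = b / t := fun b => by
    obtain ⟨v, a, rfl, -⟩ := exists_el (0 : K) b 0 0
    rw [← (e v a).1, ← c2 v a, c3, cj_b]; rfl
  obtain rfl : u = t⁻¹ := by simpa using f1 1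
  obtain rfl : σ = 1 := RingEquiv.ext fun b => mul_left_cancel₀ hu (by
    rw [f1, div_eq_inv_mul]; rfl)
  obtain rfl : s = t ^ 2 := by
    obtain ⟨v, a, b, c, -⟩ := exists_el (0 : K) 0 1 0
    have := (e v a).2
    rw [← c2 v a, c3, cj_c g (show gam _ _ _ v ∈ sQ2 K by simp [mem_sQ2, gam, a])] at this
    simp only [gam, b, c, map_zero, map_one, mul_zero, add_zero] at this
    field_simp at this
    linear_combination this
  refine (c1.isMap.comp (F.isMap_cj le_rfl (Subgroup.mem_top g⁻¹)) fun _ _ => trivial).congr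
    fun x _ => ?_
  rw [Function.comp, c3, cj_apply]; group

end Cfsg.Agent.Uf
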