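import Cfsg.Agent.U5.L1b

/-! The automizer of `Q₁` in a standard fusion system. -/

set_option autoImplicit false
set_option linter.unusedSectionVars false
set_option linter.style.haveILetI false

open Equiv

namespace Cfsg.Agent.Uf

open Cfsg.Fus Cfsg.FusionSystem U5

variable {K : Type*} [Field K] [StarRing K] [Finite K] [HF K] {p : ℕ} [Fact p.Prime] [CharP K p]
  {F : FusionSystem (⊤ : Subgroup (U5 K))}

theorem ext_of_chain (hF : F.IsSaturated p) {E A B C : Subgroup (U5 K)} (hA : A ≤ B) (hB : B ≤ C)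
    (hC : C ≤ E) (h0 : ∀ g, ∀ x ∈ A, g * x = x * g) (h1 : ∀ g, ∀ x ∈ B, cm g x ∈ A)
    (h2 : ∀ g, ∀ x ∈ C, cm g x ∈ B) (h3 : ∀ g, ∀ x ∈ E, cm g x ∈ C) {τ : Perm (U5 K)}
    (hτ : F.Iso E E τ) (iA : ∀ x ∈ A, τ x ∈ A) (iB : ∀ x ∈ B, τ x ∈ B) (iC : ∀ x ∈ C, τ x ∈ C) :
    (∀ g, τ * cj g * τ⁻¹ ∈ innS ⊤ E) ∧ ∃ α, F.Iso ⊤ ⊤ α ∧ ∀ x ∈ E, α x = τ x := by
  have hn : ∀ g, g ∈ Subgroup.normalizer (E : Set (U5 K)) := fun g =>
    norm_of_cm fun x hx => hC (h3 g x hx)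
  have fn := F.isFullyNormalized_of_le_normalizer le_top fun g _ => hn g
  have key : ∀ g, τ * cj g * τ⁻¹ ∈ innS ⊤ E := fun g => by
    have k : ∀ {D D' : Subgroup (U5 K)}, D ≤ E → D' ≤ E → (∀ x ∈ D, τ x ∈ D) →
        (∀ x ∈ D', τ x ∈ D') → (∀ x ∈ D', cm g x ∈ D) → ∀ x ∈ D',
        x⁻¹ * (τ * cj g * τ⁻¹) x ∈ D := fun {D D'} a a' b b' c x hx => by
      have m : τ⁻¹ x ∈ D' := ((mem_setStab_of_finite b') _).1 (by simpa using hx)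
      have := b _ (c _ m)
      rw [cm, hτ.homOn (E.inv_mem (a' m)) (conj_mem_of_mem_normalizer (hn g) (a' m)),
        hτ.homOn.map_inv (a' m)] at this
      simpa using this
    refine H4.Sp.mem_innS_of_chain (fn.isFullyAutomized hF (topP p)) (topP p) (C := ch A B C E)
      (n := 4) (fun i hi => ?_) (fun i hi => ?_) rfl rfl (fun g _ _ i hi x hx => ?_)
      (hτ.symm.trans (F.iso_cj le_top trivial (hn g)) |>.trans hτ) fun i hi => ?_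
    · interval_cases i
      exacts [bot_le, hA.trans (hB.trans hC), hB.trans hC, hC, le_rfl]
    · interval_cases i
      exacts [bot_le, hA, hB, hC]
    · interval_cases i
      exacts [cm_eq_one.2 (h0 g x hx), h1 g x hx, h2 g x hx, h3 g x hx]
    · interval_cases i
      exacts [k bot_le (hA.trans (hB.trans hC)) (fun x hx => by
          rw [Subgroup.mem_bot.1 hx, hτ.homOn.map_one]; exact one_mem _) iA
          fun x hx => cm_eq_one.2 (h0 g x hx), k (hA.trans (hB.trans hC)) (hB.trans hC) iA iB (h1 g),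
        k (hB.trans hC) hC iB iC (h2 g), k hC le_rfl iC (fun x hx => hτ.mem hx) (h3 g)]
  exact ⟨key, H4.Sp.exists_ext_top (fn.isReceptive hF (topP p)) (fun g _ => hn g) hτ
    fun g _ => key g⟩

/-- The image in `Q₁/Z`. -/
def pi1 (x : U5 K) : K × K × K := (x.a, x.c, x.d)

theorem cm_z_Q1 {g x : U5 K} (hg : g ∈ sQ1 K) (hx : x ∈ sQ1 K) :
    (cm g x).z = bf (pi1 x) (pi1 g) := by
  rw [cm_z_s1 hg.1 hx.1, bf_eq]; simp [pi1, hg.2, hx.2]; ring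

theorem pi1_surj (v : K × K × K) : ∃ x ∈ sQ1 K, pi1 x = v := by
  obtain ⟨x, a, b, c, d, y⟩ := exists_el' v.1 0 v.2.1 v.2.2 0 (by simp)
  exact ⟨x, ⟨b, y⟩, by rw [pi1, a, c, d]⟩

theorem pi1_cj (g : U5 K) {x : U5 K} (hx : x ∈ sQ1 K) :
    pi1 (g * x * g⁻¹) = sS g.b (star g.y) (pi1 x) := by
  rw [cj_eq]
  ext <;> simp [pi1, sS, cm_c, cm_d, cm_y, hx.1, hx.2, g.hy] <;> ring

theorem sZ_eq {x : U5 K} (hx : x ∈ sZ K) {w : U5 K} (hw : w ∈ sZ K) (h : x.z = w.z) : x = w :=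
  U5.ext (hx.1.trans hw.1.symm) (hx.2.1.trans hw.2.1.symm) (hx.2.2.1.trans hw.2.2.1.symm)
    (hx.2.2.2.1.trans hw.2.2.2.1.symm) (hx.2.2.2.2.trans hw.2.2.2.2.symm) h

theorem comm_Q1 {g x : U5 K} (hg : g ∈ sQ1 K) (hx : x ∈ sQ1 K) :
    g * x = x * g ↔ bf (pi1 x) (pi1 g) = 0 := by
  rw [← cm_eq_one, ← cm_z_Q1 hg hx]
  exact ⟨fun h => by rw [h]; rfl, fun h => sZ_eq (cm_sQ1 hg hx) (one_mem _) h⟩

theorem map_comm_Q1 {τ : Perm (U5 K)} (hτ : F.Iso (sQ1 K) (sQ1 K) τ) {g x : U5 K}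
    (hg : g ∈ sQ1 K) (hx : x ∈ sQ1 K) (h : bf (pi1 x) (pi1 g) = 0) :
    bf (pi1 (τ x)) (pi1 (τ g)) = 0 := by
  rw [← comm_Q1 (hτ.mem hg) (hτ.mem hx), ← hτ.homOn hg hx, ← hτ.homOn hx hg, (comm_Q1 hg hx).2 h]

theorem inv_Z_Q1 {τ : Perm (U5 K)} (hτ : F.Iso (sQ1 K) (sQ1 K) τ) {x : U5 K} (hx : x ∈ sQ1 K)
    (h0 : pi1 x = 0) : pi1 (τ x) = 0 := bf_nd fun u => by
  obtain ⟨g, hg, rfl⟩ := pi1_surj u
  obtain ⟨g, hg', rfl⟩ := hτ.exists_eq hg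
  exact map_comm_Q1 hτ hg' hx (by simp [h0, bf_eq])

theorem ext1 (hF : F.IsSaturated p) {τ : Perm (U5 K)} (hτ : F.Iso (sQ1 K) (sQ1 K) τ)
    (h : ∀ x ∈ sZ2 K, τ x ∈ sZ2 K) :
    (∀ g, τ * cj g * τ⁻¹ ∈ innS ⊤ (sQ1 K)) ∧ ∃ α, F.Iso ⊤ ⊤ α ∧ ∀ x ∈ sQ1 K, α x = τ x := by
  refine ext_of_chain hF (A := sZ K) (B := sZ2 K) (C := sC K)
    (fun x hx => ⟨hx.1, hx.2.1, hx.2.2.1, hx.2.2.2.2⟩) (fun x hx => ⟨hx.1, hx.2.1, hx.2.2.2⟩)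
    (fun x hx => hx.2) (fun g x hx => comm_sZ g hx) (fun g x hx => cm_sZ' g hx)
    (fun g x hx => cm_sZ2' g ⟨hx.1, hx.2.1⟩)
    (fun g x hx => ⟨cm_a _ _, cm_b _ _, by simp [cm_y, hx.1]⟩) hτ (fun x hx => ?_) h fun x hx => ?_
  · have m : x ∈ sQ1 K := ⟨hx.2.1, hx.2.2.2.2⟩
    have := inv_Z_Q1 hτ m (by simp [pi1, hx.1, hx.2.2.1, hx.2.2.2.1])
    simp only [pi1, Prod.mk_eq_zero] at this
    exact ⟨this.1, (hτ.mem m).1, this.2.1, this.2.2, (hτ.mem m).2⟩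
  · refine ⟨sk0 fun d => ?_, hτ.mem hx.2⟩
    have m : τ⁻¹ (xd d) ∈ sZ2 K :=
      ((mem_setStab_of_finite h) _).1 (by simp [mem_sZ2, xd])
    have := map_comm_Q1 hτ ⟨m.2.1, m.2.2.2⟩ hx.2 (by
      rw [bf_swap, bf_W (v := pi1 _) (w := pi1 x) ⟨m.1, m.2.2.1⟩ hx.1, neg_zero])
    simpa [bf_eq, pi1, xd] using this

theorem l1_main (h : Std p F) {τ : Perm (U5 K)} (hτ : F.Iso (sQ1 K) (sQ1 K) τ)
    (hn : ¬ ∀ x ∈ sZ2 K, τ x ∈ sZ2 K) :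
    (∃ g, ∀ x ∈ sZ2 K, (g * τ x * g⁻¹).c = 0 ∧ (g * τ x * g⁻¹).d = 0) ∧ ∀ t : K, t ≠ 0 →
      ∃ ω, F.Iso (sQ1 K) (sQ1 K) ω ∧ ∀ x ∈ sQ1 K, pi1 (ω x) = mm t (pi1 x) := by
  have nn : ∀ g, g ∈ Subgroup.normalizer (sQ1 K : Set (U5 K)) := fun g =>
    norm_of_cm fun x hx => ⟨cm_b _ _, by simp [cm_y, hx.1]⟩
  have fa := (F.isFullyNormalized_of_le_normalizer le_top fun g _ => nn g).isFullyAutomized h.sat
    (topP p)
  obtain ⟨Γ, _, _, _, P, ρ, r1, r2, -, r4, r5⟩ := H4.Sp.exists_setup fa pi1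
    (fun x hx y hy => by ext <;> simp [pi1, hy.1, hy.2]) pi1_surj
    fun τ hτ x hx h0 => inv_Z_Q1 hτ hx h0
  have st : ∀ a : Γ, (∀ v : K × K × K, mW v → mW (a • v)) → ∀ x ∈ sZ2 K, ρ a x ∈ sZ2 K :=
    fun a ha x hx => by
      have m : x ∈ sQ1 K := ⟨hx.2.1, hx.2.2.2⟩
      have := ha (pi1 x) ⟨hx.1, hx.2.2.1⟩
      rw [r5 a x m] at this
      exact ⟨this.1, ((r1 a).mem m).1, this.2, ((r1 a).mem m).2⟩
  have su : Su K P := ⟨fun s hs => ?_, fun b y hy => ?_, fun a => ?_, fun a ha => ?_⟩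
  · obtain ⟨a, ha⟩ := r2 τ hτ
    obtain ⟨⟨s, hs, e⟩, e'⟩ := su.main (g := a) fun hg => hn fun x hx => by
      rw [← ha x ⟨hx.2.1, hx.2.2.2⟩]; exact st a hg x hx
    obtain ⟨g, -, -, c⟩ := mem_innS.1 ((r4 s).1 hs)
    refine ⟨⟨g, fun x hx => ?_⟩, fun t ht => ?_⟩
    · have m : x ∈ sQ1 K := ⟨hx.2.1, hx.2.2.2⟩
      have := e (pi1 x) ⟨hx.1, hx.2.2.1⟩
      rw [r5 _ x m, map_mul, Perm.mul_apply, ha x m, c _ (hτ.mem m)] at this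
      exact Prod.ext_iff.1 this
    · obtain ⟨b, hb⟩ := e' t ht
      exact ⟨ρ b, r1 b, fun x hx => by rw [← r5 b x hx, hb]⟩
  · obtain ⟨g, -, -, c⟩ := mem_innS.1 ((r4 s).1 hs)
    refine ⟨g.b, star g.y, by rw [star_star, g.hy]; ring, fun v => ?_⟩
    obtain ⟨x, hx, rfl⟩ := pi1_surj v
    rw [r5 s x hx, c x hx, pi1_cj g hx]
  · obtain ⟨g, -, g1, -, -, g2⟩ := exists_el' 0 b 0 0 (star y) (by rw [star_star, hy]; ring)
    obtain ⟨a, ha⟩ := r2 _ (F.iso_cj le_top trivial (nn g))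
    refine ⟨a, (r4 a).2 (mem_of_congr (fixP_le_innS _ _) (cj_mem_innS trivial (nn g)) ha),
      fun v => ?_⟩
    obtain ⟨x, hx, rfl⟩ := pi1_surj v
    rw [r5 a x hx, ha x hx, cj_apply, pi1_cj g hx, g1, g2, star_star]
  · classical
    refine ⟨fun t => if ht : star t = -t then (ρ a (xz t ht)).z else 0, fun v w => ?_⟩
    obtain ⟨x, hx, rfl⟩ := pi1_surj v
    obtain ⟨g, hg, rfl⟩ := pi1_surj w
    have s : star (bf (pi1 x) (pi1 g)) = -bf (pi1 x) (pi1 g) := by simp [bf]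
    simp only []
    rw [r5 a x hx, r5 a g hg, dif_pos s, ← cm_z_Q1 ((r1 a).mem hg) ((r1 a).mem hx),
      ← map_cm (r1 a) hg hx, sZ_eq (cm_sQ1 hg hx) (w := xz _ s) (by simp [mem_sZ, xz])
        (cm_z_Q1 hg hx)]
  · obtain ⟨e1, α, e2, e3⟩ := ext1 h.sat (r1 a) (st a ha)
    obtain ⟨g, s, u, σ, -, -, e4⟩ := h.aut α e2
    refine ⟨Subgroup.mem_normalizer_fintype fun s hs => (r4 _).2 ?_, g.b, star g.y, s, u, σ,
      fun v => ?_⟩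
    · obtain ⟨g, -, -, c⟩ := mem_innS.1 ((r4 s).1 hs)
      refine mem_of_congr (fixP_le_innS _ _) (e1 g) fun x hx => ?_
      simp only [map_mul, map_inv, Perm.mul_apply]
      rw [c _ ((r1 a).inv_mem hx), cj_apply]
    · obtain ⟨x, hx, rfl⟩ := pi1_surj v
      rw [r5 a x hx, ← e3 x hx, e4, pi1_cj g ⟨by simp [gam, hx.1], by simp [gam, hx.2]⟩]
      rfl

theorem l1c (h : Std p F) {τ : Perm (U5 K)} (hτ : F.Iso (sQ1 K) (sQ1 K) τ) :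
    (∀ x ∈ sZ2 K, τ x ∈ sZ2 K) ∨
      ∃ g, ∀ x ∈ sZ2 K, (g * τ x * g⁻¹).c = 0 ∧ (g * τ x * g⁻¹).d = 0 :=
  or_iff_not_imp_left.2 fun hn => (l1_main h hτ hn).1

theorem l1m (h : Std p F) {t : K} (ht : t ≠ 0) :
    ∃ ω, F.Iso (sQ1 K) (sQ1 K) ω ∧ ∀ x ∈ sQ1 K, pi1 (ω x) = mm t (pi1 x) := by
  obtain ⟨τ, hτ, x, hx, hx'⟩ := h.n1
  exact (l1_main h hτ fun hn => hx' (hn x hx)).2 t ht

theorem l1a (h : Std p F) : ∃ ω, F.Iso (sQ1 K) (sQ1 K) ω ∧ ∀ x ∈ sQ1 K,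
    (ω x).a = x.d ∧ (ω x).c = -x.c ∧ (ω x).d = x.a := by
  obtain ⟨ω, h1, h2⟩ := l1m h (t := 1) one_ne_zero
  exact ⟨ω, h1, fun x hx => by simpa [pi1, mm] using h2 x hx⟩

theorem l1b (h : Std p F) {t : K} (ht : t ≠ 0) :
    F.IsMap ⊤ (gam t⁻¹ (t ^ 2 / star t) (RingEquiv.refl K)) := by
  obtain ⟨ω, h1, h2⟩ := l1m h (inv_ne_zero ht)
  obtain ⟨ω', h3, h4⟩ := l1m h (t := 1) one_ne_zero
  have t1 : star t ≠ 0 := star_ne_zero.2 ht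
  have h5 : ∀ x ∈ sQ1 K, pi1 ((ω * ω') x) = (t⁻¹ * x.a, t / star t * x.c, star t * x.d) :=
    fun x hx => by
      rw [Perm.mul_apply, h2 _ (h3.mem hx), h4 x hx]
      ext <;> simp [mm, pi1, div_eq_mul_inv, mul_comm]
  obtain ⟨-, α, e2, e3⟩ := ext1 h.sat (h3.trans h1) fun x hx => by
    have m : x ∈ sQ1 K := ⟨hx.2.1, hx.2.2.2⟩
    have := h5 x m
    simp only [pi1, hx.1, hx.2.2.1, mul_zero, Prod.mk.injEq] at this
    exact ⟨this.1, ((h3.trans h1).mem m).1, this.2.1, ((h3.trans h1).mem m).2⟩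
  obtain ⟨g, s, u, σ, -, -, e4⟩ := h.aut α e2
  have k : ∀ v : K × K × K, sS g.b (star g.y) (gV s u σ v) =
      (t⁻¹ * v.1, t / star t * v.2.1, star t * v.2.2) := fun v => by
    obtain ⟨x, hx, rfl⟩ := pi1_surj v
    have := h5 x hx
    rwa [← e3 x hx, e4, pi1_cj g ⟨by simp [gam, hx.1], by simp [gam, hx.2]⟩] at this
  have k1 : ∀ a, s * σ a = t⁻¹ * a := fun a => congrArg Prod.fst (k (a, 0, 0))
  obtain rfl : s = t⁻¹ := by simpa using k1 1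
  obtain rfl : σ = RingEquiv.refl K :=
    RingEquiv.ext fun a => mul_left_cancel₀ (inv_ne_zero ht) (k1 a)
  obtain rfl : u = t ^ 2 / star t := by
    have := congrArg (fun v => v.2.1) (k (0, 1, 0))
    simp [sS, gV] at this
    field_simp at this ⊢
    exact this
  exact (e2.isMap.comp (F.isMap_cj (P := ⊤) le_top (g := g⁻¹) trivial) fun _ _ => trivial).congr
    fun x _ => by rw [Function.comp_apply, cj_apply, e4]; group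

end Cfsg.Agent.Uf
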