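import Cfsg.Agent.U5.N1
import Cfsg.Agent.U5.L1c
import Cfsg.Agent.U5.L2

/-! The standard Weyl elements lie in a standard system. -/

set_option autoImplicit false
set_option linter.unusedSectionVars false
set_option linter.style.haveILetI false

open Equiv

namespace Cfsg.Agent.Uf

open Cfsg.Fus Cfsg.FusionSystem U5 Ea

variable {K : Type*} [Field K] [StarRing K] [Finite K] [HF K]
  {F : FusionSystem (⊤ : Subgroup (U5 K))} {E : Subgroup (U5 K)}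

namespace LF

theorem fcm {f : U5 K → U5 K} (h : HomOn f E) {g x : U5 K} (hg : g ∈ E) (hx : x ∈ E) :
    f (cm g x) = cm (f g) (f x) := by
  rw [cm, cm, h (E.inv_mem hx) (E.mul_mem (E.mul_mem hg hx) (E.inv_mem hg)), h.map_conj hg hx,
    h.map_inv hx]

theorem fix_Z {f : U5 K → U5 K} (h : HomOn f (sQ1 K))
    (hf : ∀ x ∈ sQ1 K, f x ∈ sQ1 K ∧ pi1 (f x) = pi1 x) {z : U5 K} (hz : z ∈ sZ K) : f z = z := by
  obtain ⟨t, rfl⟩ := exists_cm_d (x := xa (1 : K)) one_ne_zero hz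
  have a : xd t ∈ sQ1 K := ⟨rfl, rfl⟩
  have b : xa (1 : K) ∈ sQ1 K := ⟨rfl, rfl⟩
  rw [fcm h a b]
  exact eq_of_Z (cm_sQ1 (hf _ a).1 (hf _ b).1) hz (by
    rw [cm_z_Q1 (hf _ a).1 (hf _ b).1, cm_z_Q1 a b, (hf _ a).2, (hf _ b).2])

theorem fix_Y {f : U5 K → U5 K} (h : HomOn f (sQ2 K))
    (hf : ∀ x ∈ sQ2 K, f x ∈ sQ2 K ∧ (f x).b = x.b ∧ (f x).c = x.c) {u : U5 K} (hu : u ∈ sY K) :
    f u = u := by
  have key : ∀ g ∈ sQ2 K, ∀ x ∈ sQ2 K, f (cm g x) = cm g x := fun g hg x hx => by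
    obtain ⟨g1, g2, g3⟩ := hf g hg
    obtain ⟨x1, x2, x3⟩ := hf x hx
    rw [fcm h hg hx]
    ext
    · simp
    · simp
    · rw [(cm_sY g1 x1).2.2, (cm_sY hg hx).2.2]
    · rw [L2.cm_d_Q2 g1 x1, L2.cm_d_Q2 hg hx, g2, g3, x2, x3]
    · rw [cm_y, cm_y, g2, x2]
    · rw [L2.cm_z_Q2 g1 x1, L2.cm_z_Q2 hg hx, g3, x3]
  obtain ⟨x, x1, x2, -, -⟩ := exists_el (0 : K) 1 0 0
  obtain ⟨t, ht⟩ := exists_sk (one_ne_zero (α := K)) (t := u.y) (by simp [u.hy, hu.2.1])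
  obtain ⟨g, g1, g2, -⟩ := exists_el (0 : K) t 0 0
  obtain ⟨w, w1, w2, w3, -⟩ := exists_el (0 : K) 0 1 0
  obtain ⟨k, hk, e⟩ := L2.exists_cm_Z2 (m := (cm g x)⁻¹ * u) ⟨w1, w2⟩ (w3 ▸ one_ne_zero) (by
    simp [mem_sZ2, cm_c, cm_y, hu.1, hu.2.1, hu.2.2, g1, g2, x1, x2, ← ht])
  rw [← mul_inv_cancel_left (cm g x) u, ← e, h (cm_a g x) (cm_a k w), key g g1 x x1, key k hk w w1]

theorem exists_t : ∃ t : K, t * star t = 1 ∧ t ^ 2 ≠ 1 := by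
  obtain ⟨x, h1, h2⟩ : ∃ x : K, star x ≠ x ∧ star x ≠ -x := by
    by_cases h : (2 : K) = 0
    · obtain ⟨x, hx⟩ := HF.ne (K := K)
      exact ⟨x, hx, fun e => hx (by rw [e]; linear_combination -x * h)⟩
    · obtain ⟨θ, h0, hθ⟩ := exists_skew (K := K)
      refine ⟨1 + θ, fun e => ?_, fun e => ?_⟩ <;> rw [star_add, star_one, hθ] at e
      · exact mul_ne_zero h h0 (by linear_combination -e)
      · exact h (by linear_combination e)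
  have h0 : x ≠ 0 := fun e => h1 (by simp [e])
  have h3 := star_ne_zero.2 h0
  refine ⟨x / star x, by rw [star_div₀, star_star]; field_simp, fun e => ?_⟩
  field_simp at e
  rcases sq_eq_sq_iff_eq_or_eq_neg.1 e with e | e
  exacts [h1 e.symm, h2 (by linear_combination e)]

theorem exists_t3 : ∃ t : K, t ≠ 0 ∧ t ^ 3 ≠ star t ^ 2 := by
  by_contra H
  push Not at H
  obtain ⟨x, hx⟩ := HF.ne (K := K)
  have k : ∀ t : K, t ≠ 0 → t * star t = 1 := fun t ht => by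
    have h0 := mul_ne_zero ht (star_ne_zero.2 ht)
    have := H _ h0
    rw [star_mul', star_star, mul_comm (star t)] at this
    exact mul_left_cancel₀ (pow_ne_zero 2 h0) (by linear_combination this)
  have h0 : x ≠ 0 := fun e => hx (by simp [e])
  have h1 := k x h0
  have h2 := k (x + 1) fun e => hx (by rw [eq_neg_of_add_eq_zero_left e]; simp)
  have h3 := H x h0
  rw [star_add, star_one] at h2
  grind

variable {p : ℕ} [Fact p.Prime] [CharP K p]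

theorem norm_Q1 (g : U5 K) : g ∈ Subgroup.normalizer (sQ1 K : Set (U5 K)) :=
  norm_of_cm fun x hx => ⟨cm_b g x, by simp [cm_y, hx.1]⟩

theorem inn1 (hF : F.IsSaturated p) {η : Perm (U5 K)} (hη : F.Iso (sQ1 K) (sQ1 K) η)
    (h : ∀ x ∈ sQ1 K, pi1 (η x) = pi1 x) : ∃ g ∈ sQ1 K, ∀ x ∈ sQ1 K, η x = g * x * g⁻¹ := by
  have h1 : ∀ x ∈ sQ1 K, x⁻¹ * η x ∈ sZ K := fun x hx => by
    have e := h x hx
    simp only [pi1, Prod.mk.injEq] at e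
    simp [mem_sZ, e.1, e.2.1, e.2.2, hx.1, hx.2, (hη.mem hx).1, (hη.mem hx).2]
  have h2 : sZ2 K ≤ sC K := fun x hx => ⟨hx.1, hx.2.1, hx.2.2.2⟩
  have h3 : sC K ≤ sQ1 K := fun x hx => hx.2
  obtain ⟨g, -, -, e⟩ := mem_innS.1 (H4.Sp.mem_innS_of_chain
    ((F.isFullyNormalized_of_le_normalizer le_top fun g _ => norm_Q1 g).isFullyAutomized hF
      (topP p)) (topP p) (C := ch (sZ K) (sZ2 K) (sC K) (sQ1 K)) (n := 4) (fun i hi => by
      interval_cases i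
      exacts [bot_le, Z_Z2.trans (h2.trans h3), h2.trans h3, h3, le_rfl]) (fun i hi => by
      interval_cases i
      exacts [bot_le, Z_Z2, h2, h3]) rfl rfl (fun g _ _ i hi x hx => by
      interval_cases i
      exacts [cm_eq_one.2 (comm_sZ g hx), cm_sZ' g hx, cm_sZ2' g ⟨hx.1, hx.2.1⟩,
        ⟨cm_a g x, cm_b g x, by simp [cm_def, cm_y, hx.1]⟩]) hη fun i hi x hx => by
      interval_cases i
      exacts [by rw [fix_Z hη.homOn (fun x hx => ⟨hη.mem hx, h x hx⟩) hx, inv_mul_cancel]; rfl,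
        h1 x (h3 (h2 hx)), Z_Z2 (h1 x (h3 hx)), h2 (Z_Z2 (h1 x hx))])
  have h4 := h1 (xa 1) ⟨rfl, rfl⟩
  rw [e (xa 1) ⟨rfl, rfl⟩, cm_def] at h4
  have h5 : g.b = 0 := by simpa [cm_c, xa] using h4.2.2.1
  exact ⟨g, ⟨h5, by simpa [cm_d, xa, h5] using h4.2.2.2.1⟩, e⟩

/-- The chain `1 < Z < Z₂ < Y < Φ < Q₂`. -/
def ch5 (K : Type*) [Field K] [StarRing K] : ℕ → Subgroup (U5 K)
  | 0 => ⊥
  | 1 => sZ K
  | 2 => sZ2 K
  | 3 => sY K
  | 4 => sP K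
  | _ + 5 => sQ2 K

theorem inn2 (hF : F.IsSaturated p) {η : Perm (U5 K)} (hη : F.Iso (sQ2 K) (sQ2 K) η)
    (h : ∀ x ∈ sQ2 K, (η x).b = x.b ∧ (η x).c = x.c) :
    ∃ g ∈ sQ2 K, ∀ x ∈ sQ2 K, η x = g * x * g⁻¹ := by
  have h1 : ∀ x ∈ sQ2 K, x⁻¹ * η x ∈ sY K := fun x hx => by
    simp [mem_sY, (h x hx).1, (h x hx).2, mem_sQ2.1 hx, mem_sQ2.1 (hη.mem hx)]
  have h2 : ∀ x ∈ sY K, x⁻¹ * η x = 1 := fun x hx => by
    rw [fix_Y hη.homOn (fun x hx => ⟨hη.mem hx, h x hx⟩) hx, inv_mul_cancel]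
  obtain ⟨g, -, -, e⟩ := mem_innS.1 (H4.Sp.mem_innS_of_chain
    (L2.fn_Q2.isFullyAutomized hF (topP p)) (topP p) (C := ch5 K) (n := 5) (fun i hi => by
      interval_cases i
      exacts [bot_le, Z_Z2.trans (Z2_Y.trans L2.Y_Q2), Z2_Y.trans L2.Y_Q2, L2.Y_Q2, P_Q2, le_rfl])
    (fun i hi => by
      interval_cases i
      exacts [bot_le, Z_Z2, Z2_Y, Y_P, P_Q2]) rfl rfl (fun g _ _ i hi x hx => by
      interval_cases i
      exacts [cm_eq_one.2 (comm_sZ g hx), cm_sZ' g hx, cm_sZ2' g (Y_P hx), Z2_Y (cm_sZ2' g hx),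
        cm_sP g x]) hη fun i hi x hx => by
      interval_cases i
      exacts [h2 x (Z2_Y (Z_Z2 hx)), h2 x (Z2_Y hx) ▸ one_mem _, h2 x hx ▸ one_mem _,
        h1 x (P_Q2 hx), Y_P (h1 x hx)])
  obtain ⟨x, x1, x2, -⟩ := exists_el (0 : K) 1 0 0
  have h4 := (h x x1).2
  rw [e x x1, L2.cj_c g x1, x2] at h4
  exact ⟨g, mem_sQ2.2 (by simpa using h4), e⟩

theorem exists_iso {s u : K} (hs : s ≠ 0) (hu : u ≠ 0) (h : F.IsMap ⊤ (gam s u 1))
    (hE : ∀ x ∈ E, gam s u 1 x ∈ E) : ∃ θ, F.Iso E E θ ∧ ∀ x, θ x = gam s u 1 x := by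
  obtain ⟨l, -, e⟩ := N1.exists_Lam hs hu (1 : K ≃+* K)
  exact ⟨l, ((h.mono le_top).congr fun x _ => e x).iso_self fun x hx => e x ▸ hE x hx, e⟩

theorem gam_a (s u : K) (x : U5 K) : (gam s u 1 x).a = s * x.a := rfl
theorem gam_b (s u : K) (x : U5 K) : (gam s u 1 x).b = u * x.b := rfl
theorem gam_c (s u : K) (x : U5 K) : (gam s u 1 x).c = s * u * x.c := rfl
theorem gam_d (s u : K) (x : U5 K) : (gam s u 1 x).d = s * u * star u * x.d := rfl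
theorem gam_y (s u : K) (x : U5 K) : (gam s u 1 x).y = u * star u * x.y := rfl
theorem gam_z (s u : K) (x : U5 K) : (gam s u 1 x).z = s * star s * u * star u * x.z := rfl

theorem w1_mem (x : U5 K) : w1 x ∈ sQ1 K := ⟨rfl, rfl⟩

theorem w1_hom : HomOn (w1 (K := K)) (sQ1 K) := fun x hx y hy => by
  ext <;> simp [w1, hy.1, hy.2] <;> ring

theorem w2_hom : HomOn (w2 (K := K)) (sQ2 K) := fun x hx y hy => by
  ext <;> simp [w2, mem_sQ2.1 hx, mem_sQ2.1 hy] <;> ring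

theorem mul_Z_z (x : U5 K) {n : U5 K} (h : n ∈ sZ K) : (x * n).z = x.z + n.z := by
  simp [h.1, h.2.1, h.2.2.1, h.2.2.2.1]

theorem w2_mem (x : U5 K) : w2 x ∈ sQ2 K := rfl

theorem key2 (hF : F.IsSaturated p) {ω : Perm (U5 K)} (hω : F.Iso (sQ2 K) (sQ2 K) ω)
    (hc : ∀ x ∈ sQ2 K, (ω x).b = -x.c ∧ (ω x).c = x.b)
    (hT1 : ∀ t : K, t ≠ 0 → F.IsMap ⊤ (gam t⁻¹ (t ^ 2 / star t) 1))
    (hT2 : ∀ t : K, t ≠ 0 → F.IsMap ⊤ (gam (t ^ 2) t⁻¹ 1)) {t v s u : K} (ht : t ≠ 0) (hv : v ≠ 0)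
    (hs : s = t⁻¹ * v ^ 2) (hu : u = t ^ 2 / star t * v⁻¹) : ∃ g ∈ sQ2 K, ∀ x ∈ sQ2 K,
      ω⁻¹ (w2 (gam s u 1 x)) = g * gam s u 1 (ω⁻¹ (w2 x)) * g⁻¹ := by
  have ht' := star_ne_zero.2 ht
  have k : ∀ v : K, v ≠ 0 → F.IsMap ⊤ (gam (t⁻¹ * v ^ 2) (t ^ 2 / star t * v⁻¹) 1) := fun v hv =>
    ((hT2 v hv).comp (hT1 t ht) fun _ _ => trivial).congr fun x _ =>
      (N1.gam_gam t⁻¹ (t ^ 2 / star t) (v ^ 2) v⁻¹ 1 1 x).symm
  have s0 : s ≠ 0 := by rw [hs]; positivity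
  have u0 : u ≠ 0 := by rw [hu]; positivity
  have m : ∀ s u : K, ∀ x ∈ sQ2 K, gam s u 1 x ∈ sQ2 K := fun s u x hx => by
    rw [mem_sQ2, gam_a, mem_sQ2.1 hx, mul_zero]
  obtain ⟨θ, a, e⟩ := exists_iso (E := sQ2 K) s0 u0 (hs ▸ hu ▸ k v hv) (m s u)
  obtain ⟨θ', a', e'⟩ := exists_iso (F := F) (E := sQ2 K) (inv_ne_zero s0) (mul_ne_zero s0 u0) (by
    have := k (t / v) (div_ne_zero ht hv)
    rwa [show t⁻¹ * (t / v) ^ 2 = s⁻¹ by rw [hs]; field_simp,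
      show t ^ 2 / star t * (t / v)⁻¹ = s * u by rw [hs, hu]; field_simp] at this) (m _ _)
  obtain ⟨g, hg, h⟩ := inn2 hF (((a.symm.trans hω).trans a').trans hω.symm) fun x hx => by
    obtain ⟨x, hx', rfl⟩ := a.exists_eq hx
    have h1 := hc _ (hω.inv_mem (a'.mem (hω.mem hx')))
    have h2 := hc _ hx'
    simp only [Perm.mul_apply, Perm.inv_def, symm_apply_apply, apply_symm_apply] at h1 ⊢
    rw [e', gam_b, gam_c, h2.1, h2.2] at h1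
    rw [e, e', gam_b, gam_c, ← h1.2, ← neg_inj (a := U5.c _), ← h1.1]
    constructor <;> field_simp
  refine ⟨g, hg, fun x hx => ?_⟩
  have h1 := h _ (a.mem (hω.inv_mem (w2_mem x)))
  simp only [Perm.mul_apply, Perm.inv_def, symm_apply_apply, apply_symm_apply] at h1 ⊢
  rw [← e (ω.symm _), ← h1, e']
  congr 1
  have s1 := star_ne_zero.2 s0
  ext <;> simp [w2, gam_b, gam_c, gam_d, gam_y, gam_z, gam_a, mem_sQ2.1 hx,
    -mul_eq_mul_right_iff] <;> field_simp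

theorem y2 {ω : Perm (U5 K)} (hω : F.Iso (sQ2 K) (sQ2 K) ω)
    (hc : ∀ x ∈ sQ2 K, (ω x).b = -x.c ∧ (ω x).c = x.b) :
    HomOn (fun x => ω⁻¹ (w2 x)) (sQ2 K) ∧
      ∀ x ∈ sQ2 K, ω⁻¹ (w2 x) ∈ sQ2 K ∧ (ω⁻¹ (w2 x)).b = x.b ∧ (ω⁻¹ (w2 x)).c = x.c := by
  refine ⟨fun x hx y hy => ?_, fun x _ => ⟨hω.inv_mem (w2_mem x), ?_⟩⟩
  · simp only [w2_hom hx hy]
    exact hω.symm.homOn (w2_mem x) (w2_mem y)
  · have := hc _ (hω.inv_mem (w2_mem x))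
    simp only [Perm.inv_def, apply_symm_apply] at this ⊢
    exact ⟨this.2.symm, neg_inj.1 this.1.symm⟩

theorem stepB (hF : F.IsSaturated p) {ω : Perm (U5 K)} (hω : F.Iso (sQ2 K) (sQ2 K) ω)
    (hc : ∀ x ∈ sQ2 K, (ω x).b = -x.c ∧ (ω x).c = x.b)
    (hT1 : ∀ t : K, t ≠ 0 → F.IsMap ⊤ (gam t⁻¹ (t ^ 2 / star t) 1))
    (hT2 : ∀ t : K, t ≠ 0 → F.IsMap ⊤ (gam (t ^ 2) t⁻¹ 1))
    (h : ∀ x ∈ sQ2 K, (ω⁻¹ (w2 x)).y = x.y ∧ (ω⁻¹ (w2 x)).z = x.z) :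
    ∀ x ∈ sQ2 K, ω⁻¹ (w2 x) = x := by
  obtain ⟨y1, y3⟩ := y2 hω hc
  obtain ⟨θ, h0, hθ⟩ := exists_skew (K := K)
  have key : ∀ {t v s u : K}, t ≠ 0 → v ≠ 0 → s = t⁻¹ * v ^ 2 → u = t ^ 2 / star t * v⁻¹ →
      ∀ x ∈ sQ2 K, u * x.b = x.b → s * u * x.c = x.c → s * u * star u ≠ 1 →
        (ω⁻¹ (w2 x)).d = x.d := fun {t v s u} ht hv hs hu x hx e1 e2 e3 => by
    obtain ⟨g, hg, e⟩ := key2 hF hω hc hT1 hT2 ht hv hs hu
    have ht' := star_ne_zero.2 ht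
    have s0 : s ≠ 0 := by rw [hs]; positivity
    have u0 : u ≠ 0 := by rw [hu]; positivity
    have m : ∀ x ∈ sQ2 K, gam s u 1 x ∈ sQ2 K := fun x hx => by
      rw [mem_sQ2, gam_a, mem_sQ2.1 hx, mul_zero]
    have hb : g.b = 0 := by_contra fun hb => by
      obtain ⟨d, hd⟩ := exists_sk hb hθ
      obtain ⟨w, w1, w2, -⟩ := exists_el (0 : K) (d / u) 0 0
      have := congrArg U5.y (e w w1)
      rw [(h _ (m w w1)).1, cj_eq, mul_y, cm_b, cm_y, gam_y, gam_y, (h w w1).1, gam_b, (y3 w w1).2.1,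
        w2, mul_div_cancel₀ _ u0, star_zero] at this
      exact h0 (by linear_combination this - hd)
    have hc : g.c = 0 := by_contra fun hb => by
      obtain ⟨d, hd⟩ := exists_sk hb hθ
      obtain ⟨w, w1, -, w2, -⟩ := exists_el (0 : K) 0 (d / (s * u)) 0
      have m' := m _ (y3 w w1).1
      have := congrArg U5.z (e w w1)
      rw [(h _ (m w w1)).2, cj_eq, mul_z, cm_a, cm_b, (cm_sY hg m').2.2, L2.cm_z_Q2 hg m', gam_z,
        gam_z, (h w w1).2, gam_c, (y3 w w1).2.2, w2, mul_div_cancel₀ _ (mul_ne_zero s0 u0),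
        mem_sQ2.1 m', star_zero] at this
      exact h0 (by linear_combination this - hd)
    have e4 := e x hx
    rw [← comm_sY (m _ (y3 x hx).1) ⟨hg, hb, hc⟩, mul_inv_cancel_right] at e4
    have n : x⁻¹ * gam s u 1 x ∈ sY K := by
      simp [mem_sY, gam_a, gam_b, gam_c, mem_sQ2.1 hx, e1, e2]
    have e5 := y1 hx n.1
    simp only [mul_inv_cancel_left, fix_Y y1 y3 n, e4] at e5
    have e6 := congrArg U5.d e5
    simp only [mul_d, gam_d, gam_b, inv_d, inv_a, inv_c, mul_b, inv_b, mem_sQ2.1 hx, e1,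
      mem_sQ2.1 (y3 x hx).1, neg_add_cancel, star_zero] at e6
    exact mul_left_cancel₀ (sub_ne_zero.2 e3) (by linear_combination e6)
  obtain ⟨t, ht, ht3⟩ := exists_t3 (K := K)
  have ht' := star_ne_zero.2 ht
  intro x hx
  obtain ⟨w, w1, w2', w3, -⟩ := exists_el (0 : K) x.b 0 0
  have hw : w⁻¹ * x ∈ sQ2 K := mul_mem (inv_mem w1) hx
  have d1 := key (u := 1) ht (v := t ^ 2 / star t) (by positivity) rfl (by field_simp) w w1
    (one_mul _) (by rw [w3, mul_zero]) (fun e => ht3 (by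
      rw [star_one] at e; field_simp at e; exact e))
  have d2 := key ht (v := star t / t) (by positivity) rfl rfl _ hw (by simp [w2'])
    (by field_simp) (fun e => ht3 (by
      have := congrArg star e
      simp only [star_mul', star_div₀, star_inv₀, star_pow, star_star, star_one] at this
      field_simp at this; exact this))
  have e := y1 w1 hw
  simp only [mul_inv_cancel_left] at e
  ext
  · exact (y3 x hx).1.trans hx.symm
  · exact (y3 x hx).2.1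
  · exact (y3 x hx).2.2
  · rw [e, mul_d, d1, d2, mem_sQ2.1 (y3 w w1).1, (y3 w w1).2.2, (y3 _ hw).2.1, w3]
    simp [w1, w3]
  · exact (h x hx).1
  · exact (h x hx).2

end LF

open LF

variable {p : ℕ} [Fact p.Prime] [CharP K p]

theorem lf1' (hF : F.IsSaturated p) {ω : Perm (U5 K)} (hω : F.Iso (sQ1 K) (sQ1 K) ω)
    (hc : ∀ x ∈ sQ1 K, (ω x).a = x.d ∧ (ω x).c = -x.c ∧ (ω x).d = x.a)
    (hT2 : ∀ t : K, t ≠ 0 → F.IsMap ⊤ (gam (t ^ 2) t⁻¹ 1)) : F.IsMap (sQ1 K) w1 := by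
  obtain ⟨t, t1, t2⟩ := exists_t (K := K)
  have ht : t ≠ 0 := left_ne_zero_of_mul_eq_one t1
  have t3 : star t = t⁻¹ := eq_inv_of_mul_eq_one_right t1
  have t4 : t ^ 2 - 1 ≠ 0 := sub_ne_zero.2 t2
  have t5 : t - 1 ≠ 0 := fun e => t4 (by linear_combination (t + 1) * e)
  have y1 : HomOn (fun x => ω⁻¹ (w1 x)) (sQ1 K) := fun x hx y hy => by
    simp only [w1_hom hx hy]
    exact hω.symm.homOn (w1_mem x) (w1_mem y)
  have y3 : ∀ x ∈ sQ1 K, ω⁻¹ (w1 x) ∈ sQ1 K ∧ pi1 (ω⁻¹ (w1 x)) = pi1 x := fun x _ => by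
    refine ⟨hω.inv_mem (w1_mem x), ?_⟩
    have := hc _ (hω.inv_mem (w1_mem x))
    simp only [Perm.inv_def, apply_symm_apply] at this ⊢
    exact Prod.ext this.2.2.symm (Prod.ext (neg_inj.1 this.2.1.symm) this.1.symm)
  have m : ∀ x ∈ sQ1 K, gam (t ^ 2) t⁻¹ 1 x ∈ sQ1 K := fun x hx => by
    rw [mem_sQ1, gam_b, gam_y, hx.1, hx.2, mul_zero, mul_zero]; exact ⟨rfl, rfl⟩
  obtain ⟨θ, a, e⟩ := exists_iso (E := sQ1 K) (pow_ne_zero 2 ht) (inv_ne_zero ht) (hT2 t ht) m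
  have ea : ∀ x, (θ x).a = t ^ 2 * x.a := fun x => by rw [e, gam_a]
  have ec : ∀ x, (θ x).c = t * x.c := fun x => by rw [e, gam_c]; field_simp
  have ed : ∀ x, (θ x).d = t ^ 2 * x.d := fun x => by rw [e, gam_d, star_inv₀, t3]; field_simp
  have ez : ∀ x, (θ x).z = x.z := fun x => by rw [e, gam_z, star_inv₀, star_pow, t3]; field_simp
  obtain ⟨g, hg, h⟩ := inn1 hF (((a.symm.trans hω).trans a).trans hω.symm) fun x hx => by
    obtain ⟨x, hx', rfl⟩ := a.exists_eq hx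
    have h1 := hc _ (hω.inv_mem (a.mem (hω.mem hx')))
    have h2 := hc _ hx'
    simp only [Perm.mul_apply, Perm.inv_def, symm_apply_apply, apply_symm_apply] at h1 ⊢
    rw [ea, ec, ed, h2.1, h2.2.1, h2.2.2] at h1
    rw [pi1, pi1, ea x, ec x, ed x, ← h1.1, ← h1.2.2, ← neg_neg (U5.c _), ← h1.2.1]
    simp
  have h2 : ∀ x ∈ sQ1 K, ω⁻¹ (w1 (θ x)) = g * θ (ω⁻¹ (w1 x)) * g⁻¹ := fun x hx => by
    have h1 := h _ (a.mem (hω.inv_mem (w1_mem x)))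
    simp only [Perm.mul_apply, Perm.inv_def, symm_apply_apply, apply_symm_apply] at h1 ⊢
    rw [← h1]
    congr 1
    have n := a.mem (w1_mem x)
    exact U5.ext (by rw [ea]; exact ed x) n.1.symm (by rw [ec]; exact (congrArg Neg.neg (ec x)).trans (mul_neg _ _).symm)
      (by rw [ed]; exact ea x) n.2.symm (by rw [ez]; exact ez x)
  obtain ⟨k, hk, k1⟩ := pi1_surj (star (t ^ 2 / (t ^ 2 - 1)) * g.a, star (t / (t - 1)) * g.c,
    star (t ^ 2 / (t ^ 2 - 1)) * g.d)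
  refine (((F.isMap_cj le_top (g := k) trivial).comp hω.isMap fun x hx =>
    (F.iso_cj le_top trivial (norm_Q1 k)).mem hx)).congr fun v hv => ?_
  rw [Function.comp_apply, ← Perm.inv_eq_iff_eq, cj_apply, cj_eq]
  obtain ⟨x, hx, x1⟩ := pi1_surj (v.a / (t ^ 2 - 1), v.c / (t - 1), v.d / (t ^ 2 - 1))
  simp only [pi1, Prod.mk.injEq] at x1 k1
  have n : (θ x)⁻¹ * (x * v) ∈ sZ K := by
    simp [mem_sZ, ea, ec, ed, (a.mem hx).1, (a.mem hx).2, hx.1, hx.2, hv.1, hv.2, x1]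
    refine ⟨?_, ?_, ?_⟩ <;> field_simp <;> ring
  have e1 := y1 (a.mem hx) (⟨n.2.1, n.2.2.2.2⟩ : _ ∈ sQ1 K)
  simp only [mul_inv_cancel_left, fix_Z y1 y3 n, h2 x hx, y1 hx hv] at e1
  have x2 := y3 x hx
  have v2 := y3 v hv
  have c := cm_sQ1 hk hv
  have c' := cm_sQ1 hg (a.mem x2.1)
  simp only [pi1, Prod.mk.injEq] at x2 v2
  have e3 : θ x * ((θ x)⁻¹ * (x * v)) = x * v := mul_inv_cancel_left _ _
  have c2 := cm_z_Q1 hg (a.mem x2.1)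
  generalize (θ x)⁻¹ * (x * v) = N at n e1 e3
  generalize ω⁻¹ (w1 x) = X at x2 c' c2 e1
  generalize ω⁻¹ (w1 v) = V at v2 e1 ⊢
  refine U5.ext (by simp [v2.2]) (by simp [v2.1.1, hv.1]) (by simp [v2.2, c.2.2.1])
    (by simp [v2.2, c.2.2.1, c.2.2.2.1, c.2.2.2.2]) (by simp [v2.1.2, hv.2, c.2.2.2.2]) ?_
  have e2 := congrArg U5.z e1
  have e4 := congrArg U5.z e3
  rw [cj_eq, mul_Z_z _ n, mul_Z_z _ c', ez, c2, mul_z, x2.2.1, x2.2.2.1, x2.2.2.2, v2.2.1,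
    v2.2.2.1, v2.2.2.2, v2.1.1, v2.1.2] at e2
  rw [mul_Z_z _ n, ez, mul_z, hv.1, hv.2] at e4
  have e5 : bf (pi1 (θ X)) (pi1 g) = bf (pi1 v) (pi1 k) := by
    simp only [bf_eq, pi1, ea, ec, ed, x2.2, x1, k1, star_mul', star_star, star_div₀]
    ring
  rw [mul_Z_z _ c, cm_z_Q1 hk hv]
  linear_combination e2 + e4 + e5

theorem lf2' (hF : F.IsSaturated p) {ω : Perm (U5 K)} (hω : F.Iso (sQ2 K) (sQ2 K) ω)
    (hc : ∀ x ∈ sQ2 K, (ω x).b = -x.c ∧ (ω x).c = x.b)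
    (hT1 : ∀ t : K, t ≠ 0 → F.IsMap ⊤ (gam t⁻¹ (t ^ 2 / star t) 1))
    (hT2 : ∀ t : K, t ≠ 0 → F.IsMap ⊤ (gam (t ^ 2) t⁻¹ 1)) : F.IsMap (sQ2 K) w2 := by
  obtain ⟨t, t1, t2⟩ := exists_t (K := K)
  have ht : t ≠ 0 := left_ne_zero_of_mul_eq_one t1
  have t3 : star t = t⁻¹ := eq_inv_of_mul_eq_one_right t1
  have t5 : t - 1 ≠ 0 := fun e => t2 (by linear_combination (t + 1) * e)
  have t6 : 1 - t ≠ 0 := fun e => t5 (by linear_combination -e)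
  obtain ⟨y1, y3⟩ := y2 hω hc
  obtain ⟨g, hg, h⟩ := key2 hF hω hc hT1 hT2 one_ne_zero ht (s := t ^ 2) (u := t⁻¹) (by simp)
    (by simp)
  obtain ⟨k, hk, k1, k2, -⟩ := exists_el 0 (star (1 / (1 - t)) * g.b) (star (t / (t - 1)) * g.c) 0
  have m : ∀ x ∈ sQ2 K, gam (t ^ 2) t⁻¹ 1 x ∈ sQ2 K := fun x hx => by
    rw [mem_sQ2, gam_a, mem_sQ2.1 hx, mul_zero]
  have ec : ∀ x, (gam (t ^ 2) t⁻¹ 1 x).c = t * x.c := fun x => by rw [gam_c]; field_simp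
  have ey : ∀ x, (gam (t ^ 2) t⁻¹ 1 x).y = x.y := fun x => by rw [gam_y, star_inv₀, t3]; field_simp
  have ez : ∀ x, (gam (t ^ 2) t⁻¹ 1 x).z = x.z := fun x => by
    rw [gam_z, star_inv₀, star_pow, t3]; field_simp
  have key : ∀ v ∈ sQ2 K, (ω⁻¹ (w2 v)).y = v.y + (cm k v).y ∧ (ω⁻¹ (w2 v)).z = v.z + (cm k v).z := by
    intro v hv
    obtain ⟨x, hx, x1, x3, -⟩ := exists_el 0 (t * v.b / (1 - t)) (v.c / (t - 1)) 0
    have n : (gam (t ^ 2) t⁻¹ 1 x)⁻¹ * (x * v) ∈ sY K := by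
      simp [mem_sY, gam_a, gam_b, ec, hx, mem_sQ2.1 hv, x1, x3]
      constructor <;> field_simp <;> ring
    have e1 := y1 (m x hx) n.1
    simp only [mul_inv_cancel_left, fix_Y y1 y3 n, h x hx, y1 hx hv] at e1
    have x2 := y3 x hx
    have v2 := y3 v hv
    have e3 : gam (t ^ 2) t⁻¹ 1 x * ((gam (t ^ 2) t⁻¹ 1 x)⁻¹ * (x * v)) = x * v :=
      mul_inv_cancel_left _ _
    generalize (gam (t ^ 2) t⁻¹ 1 x)⁻¹ * (x * v) = N at n e1 e3
    generalize ω⁻¹ (w2 x) = X at x2 e1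
    generalize ω⁻¹ (w2 v) = V at v2 e1 ⊢
    have m1 := m X x2.1
    have c := cm_sY hg m1
    rw [cj_eq] at e1
    constructor
    · have e2 := congrArg U5.y e1
      have e4 := congrArg U5.y e3
      simp only [mul_y, n.2.1, cm_b, star_zero, ey, cm_y, gam_b, x2.2.1, v2.2.1, x1, k1, star_mul',
        star_div₀, star_star, star_inv₀, t3, inv_inv] at e2 e4 ⊢
      rw [← mul_div_assoc, inv_mul_cancel_left₀ ht, ← mul_div_assoc, mul_inv_cancel_left₀ ht] at e2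
      rw [star_one]
      linear_combination e2 + e4
    · have e2 := congrArg U5.z e1
      have e4 := congrArg U5.z e3
      simp only [mul_z, mul_a, mul_d, mul_c, n.1, n.2.1, n.2.2, c.2.2, cm_a, cm_b, star_zero, ez,
        L2.cm_z_Q2 hg m1, L2.cm_z_Q2 hk hv, ec, mem_sQ2.1 m1, mem_sQ2.1 (m x hx), hx,
        mem_sQ2.1 hv, mem_sQ2.1 x2.1, mem_sQ2.1 v2.1, x2.2.2, v2.2.2, x3, k2, star_mul',
        star_div₀, star_star] at e2 e4 ⊢
      linear_combination e2 + e4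
  have i := L2.iso_cj_Q2 (F := F) k
  have h2 := stepB hF (i.trans hω) (fun x hx => by
    rw [Perm.mul_apply, (hc _ (i.mem hx)).1, (hc _ (i.mem hx)).2, cj_apply, L2.cj_b,
      L2.cj_c k hx, hk]
    simp) hT1 hT2 fun v hv => by
      have v2 := y3 v hv
      have v3 := key v hv
      rw [mul_inv_rev, Perm.mul_apply, cj_inv_apply]
      generalize ω⁻¹ (w2 v) = V at v2 v3 ⊢
      have c := cm_sY (inv_mem hk) v2.1
      have := cj_eq k⁻¹ V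
      rw [inv_inv] at this
      rw [this, mul_y, mul_z, L2.cm_z_Q2 (inv_mem hk) v2.1, c.1, c.2.1, c.2.2, v3.1, v3.2,
        L2.cm_z_Q2 hk hv, cm_y, cm_y]
      simp [hk, v2.2, mem_sQ2.1 v2.1]
      constructor <;> ring
  exact (i.trans hω).isMap.congr fun x hx => Perm.inv_eq_iff_eq.1 (h2 x hx)

theorem lf1 (h : Std p F) : F.IsMap (sQ1 K) w1 := by
  obtain ⟨ω, a, b⟩ := l1a h
  exact lf1' h.sat a b fun _ => l2b h

theorem lf2 (h : Std p F) : F.IsMap (sQ2 K) w2 := by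
  obtain ⟨ω, a, b⟩ := l2a h
  exact lf2' h.sat a b (fun _ => l1b h) fun _ => l2b h

end Cfsg.Agent.Uf
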