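import Cfsg.Agent.U5.Ess
import Cfsg.Agent.H1.SchurZ

/-! Normalising the automizer of `S = U5 K`. -/

set_option autoImplicit false
set_option linter.unusedSectionVars false
set_option linter.style.haveILetI false

open Equiv
open scoped commutatorElement

namespace Cfsg.Agent.Uf

open Cfsg.Fus Cfsg.FusionSystem U5 Ea

variable {K : Type*} [Field K] [StarRing K] [Finite K] [HF K]
  {F : FusionSystem (⊤ : Subgroup (U5 K))} {E : Subgroup (U5 K)} {σ : Perm (U5 K)}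

namespace N1

theorem hcm (h : HomOn σ ⊤) (g x : U5 K) : σ (cm g x) = cm (σ g) (σ x) := by
  rw [cm, cm, h trivial trivial, h.map_conj trivial trivial, h.map_inv trivial]

theorem not_21 (h : HomOn σ ⊤) : ¬ ∀ x ∈ sQ2 K, σ x ∈ sQ1 K := fun H => by
  obtain ⟨x, x1, x2, -, -⟩ := exists_el (0 : K) 1 0 0
  obtain ⟨g, g1, g2, g3, -, g4⟩ := exists_el' (0 : K) 0 1 0 0 (by simp)
  obtain ⟨θ, h0, hθ⟩ := exists_skew (K := K)
  obtain ⟨t, ht⟩ := exists_sk (one_ne_zero (α := K)) hθ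
  have h1 := comm_sZ (σ (xa t)) (cm_sQ1 (H g g1) (H x x1))
  rw [← hcm h, ← h trivial trivial, ← h trivial trivial, σ.apply_eq_iff_eq] at h1
  obtain ⟨c1, c2, c3, c4⟩ := cm_sZ2 ⟨g1, g2⟩ x
  have h2 := (comm_iff.1 h1).2.2.2
  simp [xa, c3, c4, d_phi ⟨g1, g2⟩, g3, g4, x2] at h2
  exact h0 (by rw [← ht, ← h2]; simp)

variable {p : ℕ} [Fact p.Prime] [CharP K p]

theorem stab_ess (hF : F.IsSaturated p) (hE : F.IsEssential p E) (hσ : F.Iso ⊤ ⊤ σ) :
    σ ∈ setStab E := by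
  have h := hσ.restrict (R := E) le_top
  rcases ess hF hE with rfl | rfl <;> rcases ess hF (H4.Sp.essential_img hE hσ) with e | e <;>
    rw [e] at h
  · exact h.mem_iff
  · exact (not_21 hσ.symm.homOn fun _ hx => h.inv_mem hx).elim
  · exact (not_21 hσ.homOn fun _ hx => h.mem hx).elim
  · exact h.mem_iff

theorem aut_Y (h : HomOn σ ⊤) (h2 : σ ∈ setStab (sQ2 K)) {x : U5 K} (hx : x ∈ sY K) :
    σ x ∈ sY K := mem_Y_of_comm ((h2 x).2 hx.1) fun g hg => by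
  obtain ⟨g, rfl⟩ := σ.surjective g
  rw [← h trivial trivial, ← h trivial trivial, comm_sY ((h2 g).1 hg) hx]

theorem aut_P (h : HomOn σ ⊤) (h2 : σ ∈ setStab (sQ2 K)) {x : U5 K} (hx : x ∈ sP K) :
    σ x ∈ sP K := by
  obtain ⟨g, e⟩ := σ.surjective (xa 1)
  have h1 := (aut_Y h h2 (Z2_Y (cm_sZ2' g hx))).2.2
  have h3 : (σ x).a = 0 := (h2 x).2 hx.1
  rw [hcm h, e, cm_c, h3] at h1
  exact ⟨h3, by simpa [xa] using h1⟩

theorem dec (h : σ ∈ autStab ⊤) (h1 : σ ∈ setStab (sQ1 K)) (h2 : σ ∈ setStab (sQ2 K)) :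
    ∃ (s u : K) (γ : K ≃+* K), s ≠ 0 ∧ u ≠ 0 ∧ ∀ x, (σ x).a = s * γ x.a ∧ (σ x).b = u * γ x.b := by
  choose el e1 e2 e3 using fun t : K => exists_el 0 t 0 0
  have ha : ∀ x, (σ x).a = (σ (xa x.a)).a := fun x => by
    have : (σ ((xa x.a)⁻¹ * x)).a = 0 := (h2 _).2 (show _ = (0 : K) by simp [xa])
    rw [h.1 trivial trivial, h.1.map_inv trivial, mul_a, inv_a] at this
    linear_combination this
  have hb0 : ∀ x : U5 K, x.b = 0 → (σ x).b = 0 := fun x hx => by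
    have hy : star x.y = -x.y := by simp [x.hy, hx]
    have h3 : (σ (x * (xy x.y hy)⁻¹)).b = 0 := ((h1 _).2 (by constructor <;> simp [xy, hx])).1
    rw [h.1 trivial trivial, h.1.map_inv trivial, mul_b, inv_b,
      (aut_P h.1 h2 (x := xy x.y hy) ⟨rfl, rfl⟩).2] at h3
    simpa using h3
  have hb : ∀ x, (σ x).b = (σ (el x.b)).b := fun x => by
    have := hb0 ((el x.b)⁻¹ * x) (by simp [e2])
    rw [h.1 trivial trivial, h.1.map_inv trivial, mul_b, inv_b] at this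
    linear_combination this
  have hc : ∀ a b a' b', a * b = a' * b' →
      (σ (xa a)).a * (σ (el b)).b = (σ (xa a')).a * (σ (el b')).b := fun a b a' b' e => by
    have h3 := (aut_Y h.1 h2 (x := (cm (xa a) (el b))⁻¹ * cm (xa a') (el b'))
      ⟨by simp, by simp, by simp [cm_c, xa, e1, e2, e]⟩).2.2
    rw [h.1 trivial trivial, h.1.map_inv trivial, hcm h.1, hcm h.1] at h3
    have h4 : ∀ t, (σ (el t)).a = 0 := fun t => (h2 _).2 (e1 t)
    simp only [mul_c, inv_c, inv_a, cm_a, cm_b, cm_c, h4] at h3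
    linear_combination -h3
  have hs : (σ (xa 1)).a ≠ 0 := fun e => one_ne_zero (α := K) ((h2 (xa 1)).1 e)
  have hu : (σ (el 1)).b ≠ 0 := fun e => by
    have := (aut_P ((autStab ⊤).inv_mem h).1 ((setStab _).inv_mem h2) ⟨(h2 _).2 (e1 1), e⟩).2
    simp [e2] at this
  have hB : ∀ t, (σ (el t)).b = (σ (el 1)).b * ((σ (xa t)).a / (σ (xa 1)).a) := fun t => by
    have := hc t 1 1 t (mul_comm _ _)
    field_simp
    linear_combination -this
  let γ : K →+* K :=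
    { toFun := fun t => (σ (xa t)).a / (σ (xa 1)).a
      map_one' := div_self hs
      map_mul' := fun a b => by
        have := hc (a * b) 1 a b (mul_one _)
        rw [hB b] at this
        field_simp at this ⊢
        linear_combination this
      map_zero' := by
        rw [show xa (0 : K) = 1 from rfl, h.1.map_one, one_a, zero_div]
      map_add' := fun a b => by
        have := ha (xa a * xa b)
        rw [h.1 trivial trivial, mul_a] at this
        rw [← add_div, this]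
        rfl }
  refine ⟨_, _, RingEquiv.ofBijective γ (Finite.injective_iff_bijective.1 γ.injective), hs, hu,
    fun x => ⟨?_, (hb x).trans (hB _)⟩⟩
  rw [ha x]
  exact (mul_div_cancel₀ _ hs).symm

theorem P_le_comm : sP K ≤ commutator (U5 K) := by
  have h0 : ∀ g x : U5 K, cm g x ∈ commutator (U5 K) := fun g x => by
    have := Subgroup.commutator_mem_commutator (Subgroup.mem_top x⁻¹) (Subgroup.mem_top g)
    rwa [commutatorElement_def, inv_inv, show x⁻¹ * g * x * g⁻¹ = cm g x by simp [cm, mul_assoc]]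
      at this
  have k : ∀ w u : U5 K, w ∈ commutator (U5 K) → w⁻¹ * u ∈ commutator (U5 K) →
      u ∈ commutator (U5 K) := fun w u a b => by simpa using mul_mem a b
  obtain ⟨x, x1, x2, x3, -⟩ := exists_el (0 : K) 1 0 0
  have h1 : sZ K ≤ commutator (U5 K) := fun z hz => by
    obtain ⟨t, e⟩ := exists_cm_d (x := xa (1 : K)) one_ne_zero hz
    exact e ▸ h0 _ _
  have h2 : sZ2 K ≤ commutator (U5 K) := fun u hu => by
    obtain ⟨g, g1, g2, g3, -, g4⟩ := exists_el' (0 : K) 0 (-u.d) 0 0 (by simp)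
    obtain ⟨c1, c2, c3, c4⟩ := cm_sZ2 ⟨g1, g2⟩ x
    refine k _ u (h0 g x) (h1 ?_)
    simp [mem_sZ, c3, c4, hu.1, hu.2.1, hu.2.2.1, hu.2.2.2, d_phi ⟨g1, g2⟩, g3, g4, x2]
  have h3 : sY K ≤ commutator (U5 K) := fun u hu => by
    obtain ⟨t, ht⟩ := exists_sk (one_ne_zero (α := K)) (t := u.y) (by simp [u.hy, hu.2.1])
    obtain ⟨g, g1, g2, -⟩ := exists_el (0 : K) t 0 0
    refine k _ u (h0 g x) (h2 ?_)
    simp [mem_sZ2, cm_c, cm_y, hu.1, hu.2.1, hu.2.2, g1, g2, x1, x2, ← ht]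
  intro u hu
  refine k _ u (h0 (xa u.c) x) (h3 ?_)
  simp [mem_sY, cm_c, hu.1, hu.2, xa, x1, x2]

theorem isP_triv : IsPGroup p (trivOn (sP K) ⊤) := fun σ => by
  have hp : IsPGroup p (U5 K) := (topP p).of_equiv Subgroup.topEquiv
  obtain ⟨k, hk⟩ := H1.aut_pow_eq_one_of_frattini hp
    (MulEquiv.mk' σ.1 fun x y => σ.2.1.1 trivial trivial) fun x =>
      H1.commutator_le_frattini_of_isPGroup hp (P_le_comm (σ.2.2 x trivial))
  have := congrArg (MulAut.toPerm (U5 K)) hk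
  rw [map_pow, map_one] at this
  exact ⟨k, Subtype.ext this⟩

theorem gam_gam (s u s' u' : K) (γ δ : K ≃+* K) (x : U5 K) :
    gam s u γ (gam s' u' δ x) = gam (s * γ s') (u * γ u') (δ.trans γ) x := by
  ext <;> simp [gam, star_aut, -mul_eq_mul_left_iff, -mul_eq_mul_right_iff] <;> ring

theorem gam_one (x : U5 K) : gam 1 1 (RingEquiv.refl K) x = x := by
  ext <;> simp [gam]

theorem gam_inv {s u : K} (hs : s ≠ 0) (hu : u ≠ 0) (γ : K ≃+* K) (x : U5 K) :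
    gam (γ.symm s⁻¹) (γ.symm u⁻¹) γ.symm (gam s u γ x) = x := by
  rw [gam_gam, ← map_mul, ← map_mul, inv_mul_cancel₀ hs, inv_mul_cancel₀ hu, map_one,
    RingEquiv.self_trans_symm, gam_one]

/-- Diagonal-field automorphisms. -/
def Lam (K : Type*) [Field K] [StarRing K] [Finite K] [HF K] : Subgroup (Perm (U5 K)) where
  carrier := {σ | ∃ s u γ, s ≠ 0 ∧ u ≠ 0 ∧ ∀ x, σ x = gam s u γ x}
  one_mem' := ⟨1, 1, _, one_ne_zero, one_ne_zero, fun x => (gam_one x).symm⟩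
  mul_mem' := by
    rintro σ τ ⟨s, u, γ, a, b, e⟩ ⟨s', u', δ, a', b', e'⟩
    exact ⟨s * γ s', u * γ u', δ.trans γ, by simp [a, a'], by simp [b, b'], fun x => by
      rw [Perm.mul_apply, e, e', gam_gam]⟩
  inv_mem' := by
    rintro σ ⟨s, u, γ, a, b, e⟩
    refine ⟨γ.symm s⁻¹, γ.symm u⁻¹, γ.symm, by simp [a], by simp [b], fun x => ?_⟩
    obtain ⟨x, rfl⟩ := σ.surjective x
    rw [Perm.inv_eq_iff_eq, e x, gam_inv a b, e]

theorem exists_Lam {s u : K} (hs : s ≠ 0) (hu : u ≠ 0) (γ : K ≃+* K) :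
    ∃ l ∈ Lam K, ∀ x, l x = gam s u γ x :=
  ⟨Equiv.ofBijective _ (Finite.injective_iff_bijective.1
    (Function.LeftInverse.injective (gam_inv hs hu γ))), ⟨s, u, γ, hs, hu, fun _ => rfl⟩,
    fun _ => rfl⟩

theorem Lam_le : Lam K ≤ autStab ⊤ := by
  rintro σ ⟨s, u, γ, -, -, e⟩
  exact ⟨fun x _ y _ => by rw [e, e, e, gam_mul], fun _ => Iff.rfl⟩

theorem Lam_disj : trivOn (sP K) ⊤ ⊓ Lam K = ⊥ := by
  refine eq_bot_iff.2 ?_
  rintro σ ⟨h, s, u, γ, -, -, e⟩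
  have h1 : ∀ t, s * γ t = t := fun t => by
    have := (h.2 (xa t) trivial).1
    rw [e] at this
    simp only [mul_a, inv_a, gam, xa] at this
    linear_combination this
  obtain ⟨x, -, x2, -⟩ := exists_el (0 : K) 1 0 0
  have h2 := (h.2 x trivial).2
  rw [e] at h2
  simp only [mul_b, inv_b, gam, x2, map_one, mul_one] at h2
  obtain rfl : s = 1 := by simpa using h1 1
  obtain rfl : u = 1 := by linear_combination h2
  obtain rfl : γ = RingEquiv.refl K := RingEquiv.ext fun t => by simpa using h1 t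
  exact Equiv.ext fun x => (e x).trans (gam_one x)

theorem norm_triv (h : σ ∈ autStab ⊤) (h2 : ∀ x ∈ sP K, σ x ∈ sP K) :
    σ ∈ Subgroup.normalizer (trivOn (sP K) ⊤ : Set (Perm (U5 K))) :=
  mem_normalizer_of_finite fun _ hτ => conj_mem_trivOn hτ h fun x hx _ => h2 x hx

theorem innS_conj {ρ : Perm (U5 K)} (hσ : σ ∈ innS ⊤ ⊤) (hρ : ρ ∈ autStab ⊤) :
    ρ * σ * ρ⁻¹ ∈ innS (⊤ : Subgroup (U5 K)) ⊤ := by
  obtain ⟨g, hg, e⟩ := mem_innS_self.1 hσ
  refine mem_innS_self.2 ⟨ρ g, trivial, fun x _ => ?_⟩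
  rw [Perm.mul_apply, Perm.mul_apply, e _ trivial, hρ.1.map_conj trivial trivial]
  simp

theorem n1_of (hF : F.IsSaturated p) (hE : F.IsEssential p (sQ1 K)) :
    ∃ τ, F.Iso (sQ1 K) (sQ1 K) τ ∧ ∃ x ∈ sZ2 K, τ x ∉ sZ2 K := by
  by_contra H
  push Not at H
  have hC : sC K ≤ sQ1 K := fun x hx => ⟨hx.2.1, hx.2.2⟩
  have h2 : sZ2 K ≤ sQ1 K := fun x hx => ⟨hx.2.1, hx.2.2.2⟩
  refine ess_ne_top hF hE (top_le_iff.1 fun g _ => mem_of_chain hE (Z_Z2.trans h2) h2 hC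
    (fun τ hτ z hz => ?_) H (fun τ hτ x hx => ?_) (fun x hx => comm_sZ g hx)
    (fun x hx => cm_sZ' g hx) (fun x hx => cm_sZ2' g ⟨hx.1, hx.2.1⟩) fun x hx =>
      ⟨cm_a g x, cm_b g x, by simp [cm_y, hx.1]⟩)
  · obtain ⟨t, rfl⟩ := exists_cm_d (x := xa (1 : K)) one_ne_zero hz
    rw [map_cm hτ (h2 (xd_mem t)) ⟨rfl, rfl⟩]
    exact cm_sQ1 (hτ.mem (h2 (xd_mem t))) (hτ.mem ⟨rfl, rfl⟩)
  · refine ⟨mem_Q2_of_comm fun t => ?_, (hτ.mem (hC hx))⟩
    have h3 := H _ hτ.symm _ (xd_mem t)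
    simpa using map_comm hτ (h2 h3) (hC hx) (comm_sY hx.1 (Z2_Y h3)).symm

theorem n2_of (hF : F.IsSaturated p) (hE : F.IsEssential p (sQ2 K)) :
    ∃ τ, F.Iso (sQ2 K) (sQ2 K) τ ∧ ∃ x ∈ sP K, τ x ∉ sP K := by
  by_contra H
  push Not at H
  have hZ : Inv F (sQ2 K) (sZ K) := fun τ hτ z hz => by
    obtain ⟨u, u1, u2, u3, -⟩ := exists_el (0 : K) 0 1 0
    obtain ⟨g, g1, rfl⟩ := exists_cm_c ⟨u1, u2⟩ (u3 ▸ one_ne_zero) hz
    rw [map_cm hτ g1.1 u1]
    exact cm_sPP (H τ hτ g g1) (H τ hτ u ⟨u1, u2⟩)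
  refine ess_ne_top hF hE (top_le_iff.1 fun g _ => mem_of_chain hE
    (Z_Z2.trans (Z2_Y.trans (Y_P.trans P_Q2))) (Z2_Y.trans (Y_P.trans P_Q2)) P_Q2 hZ
    (fun τ hτ u hu => ?_) H (fun x hx => comm_sZ g hx)
    (fun x hx => cm_sZ' g hx) (fun x hx => cm_sZ2' g hx) fun x _ => cm_sP g x)
  obtain ⟨x, x1, x2, x3, -⟩ := exists_el (0 : K) 1 0 0
  obtain ⟨w, g1, g2, g3, -, g4⟩ := exists_el' (0 : K) 0 (-u.d) 0 0 (by simp)
  obtain ⟨c1, c2, c3, c4⟩ := cm_sZ2 ⟨g1, g2⟩ x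
  have h1 : (cm w x)⁻¹ * u ∈ sZ K := by
    simp [mem_sZ, c3, c4, hu.1, hu.2.1, hu.2.2.1, hu.2.2.2, d_phi ⟨g1, g2⟩, g3, g4, x2]
  rw [← mul_inv_cancel_left (cm w x) u, hτ.homOn c1 h1.1, map_cm hτ g1 x1]
  exact mul_mem (cm_sZ2 (H τ hτ w ⟨g1, g2⟩) _) (Z_Z2 (hZ τ hτ _ h1))

end N1

open N1

variable {p : ℕ} [hp : Fact p.Prime] [CharP K p]

theorem exists_std (hF : F.IsSaturated p) (e1 : F.IsEssential p (sQ1 K))
    (e2 : F.IsEssential p (sQ2 K)) :
    ∃ F' : FusionSystem (⊤ : Subgroup (U5 K)), Std p F' ∧ (F'.IsRealizable p → F.IsRealizable p) := by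
  have hb : ∀ σ ∈ fixP (⊤ : Subgroup (U5 K)), σ = 1 := fun σ h => Equiv.ext fun x => h x trivial
  have hI : IsPGroup p (innS (⊤ : Subgroup (U5 K)) ⊤) := fun σ =>
    (isPMod_innS (topP p) ⊤ σ.1 σ.2).imp fun k h => Subtype.ext (hb (σ.1 ^ p ^ k) h)
  have hN := isP_triv (K := K) (p := p)
  have h1 := ((F.finMod_stab le_rfl).sylMod_iff_not_dvd (inf_le_left.trans (fixP_le_innS _ _))).1
    (isFullyAutomized_iff_sylMod.1 (F.isFullyNormalized_top.isFullyAutomized hF (topP p))).2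
  have hn : F.stab ⊤ ≤ Subgroup.normalizer (innS (⊤ : Subgroup (U5 K)) ⊤ : Set (Perm (U5 K))) :=
    fun σ hσ => mem_normalizer_of_finite fun x hx => innS_conj hx (F.stab_le_autStab _ hσ)
  obtain ⟨k, hk⟩ := hI.exists_card_eq
  obtain ⟨l, hl⟩ := hN.exists_card_eq
  have ho := (hp.out.coprime_iff_not_dvd).2 h1.2.2
  obtain ⟨D, d1, d2, -, d3⟩ := H1.exists_complement_rel h1.1 hn (hk ▸ ho.pow_left k)
  have hD : (Nat.card D).Coprime (Nat.card (trivOn (sP K) ⊤)) := hl ▸ d3 ▸ ho.symm.pow_right l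
  have hDn : D ≤ Subgroup.normalizer (trivOn (sP K) ⊤ : Set (Perm (U5 K))) := fun σ hσ => by
    have hσ := (mem_stab le_rfl).1 (d1 hσ)
    exact norm_triv hσ.mem_autStab fun x hx => aut_P hσ.homOn (stab_ess hF e2 hσ) hx
  obtain ⟨ω, hω, hc⟩ := H1.exists_conj_le_of_le_sup (N := trivOn (sP K) ⊤)
    (H := Lam K ⊓ (D ⊔ trivOn (sP K) ⊤)) (K := D)
    (fun σ hσ => norm_triv (Lam_le hσ.1) fun x hx => by
      obtain ⟨s, u, γ, -, -, e⟩ := hσ.1
      constructor <;> simp [e, gam, hx.1, hx.2])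
    (fun σ hσ => by
      have hσ' := (mem_stab le_rfl).1 (d1 hσ)
      obtain ⟨s, u, γ, hs, hu, e⟩ := dec hσ'.mem_autStab (stab_ess hF e1 hσ') (stab_ess hF e2 hσ')
      obtain ⟨l, l1, l2⟩ := exists_Lam hs hu γ
      have h2 : σ * l⁻¹ ∈ trivOn (sP K) ⊤ :=
        ⟨mul_mem hσ'.mem_autStab (inv_mem (Lam_le l1)), fun x _ => by
          obtain ⟨x, rfl⟩ := l.surjective x
          rw [Perm.mul_apply, Perm.inv_def, l.symm_apply_apply, l2]
          constructor <;> simp [gam, e]⟩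
      rw [← inv_mul_cancel_right σ l]
      refine mul_mem (Subgroup.mem_sup_right h2) (Subgroup.mem_sup_left ⟨l1, ?_⟩)
      simpa using mul_mem (inv_mem (Subgroup.mem_sup_right h2)) (Subgroup.mem_sup_left hσ))
    (by
      have := H1.relIndex_dvd_card_of_le_sup hDn
        (inf_le_right : Lam K ⊓ (D ⊔ trivOn (sP K) ⊤) ≤ _)
      rw [← Subgroup.inf_relIndex_right, ← inf_assoc, Lam_disj, bot_inf_eq,
        Subgroup.relIndex_bot_left] at this
      exact hD.coprime_dvd_left this) hD (Or.inl (H1.IsPGroup.isSolvable hN))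
  have t0 : L.PIso ⊤ ⊤ ω ⇑ω⁻¹ :=
    ⟨hω.1.1, fun _ _ => trivial, fun _ _ => trivial, fun x _ => ω.symm_apply_apply x,
      fun x _ => ω.apply_symm_apply x⟩
  obtain ⟨F', t⟩ := t0.exists_transp le_rfl F t0.img_self
  have hF' := t.isSaturated hF
  refine ⟨F', ⟨hF', n1_of hF' ?_, n2_of hF' ?_, fun σ hσ => ?_⟩, t.symm.isRealizable'⟩
  · rcases ess hF' (t.isEssential e1) with e | e
    · exact e ▸ t.isEssential e1
    · refine (not_21 ((autStab ⊤).inv_mem hω.1).1 fun x hx => ?_).elim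
      obtain ⟨y, hy, rfl⟩ := (t0.hom.mono le_top).mem_img.1 (e.ge hx)
      simpa using hy
  · rcases ess hF' (t.isEssential e2) with e | e
    · exact (not_21 hω.1.1 fun x hx => e ▸ mem_img_of_mem _ hx).elim
    · exact e ▸ t.isEssential e2
  · have h2 : F.Iso ⊤ ⊤ (ω⁻¹ * σ * ω) := IsMap.iso_self
      (by have := t.map' hσ.isMap; rw [t.img_eq'] at this; exact this) fun _ _ => trivial
    have h3 := h2.mem_stab
    rw [← d2, ← SetLike.mem_coe, Subgroup.coe_mul_of_left_le_normalizer_right _ _ (d1.trans hn)]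
      at h3
    obtain ⟨d, hd, i, hi, e⟩ := h3
    have h4 := (hc (Subgroup.smul_mem_pointwise_smul d _ _ hd)).1
    obtain ⟨g, -, e2⟩ := mem_innS_self.1 (innS_conj (innS_conj hi hω.1) (Lam_le h4))
    obtain ⟨s, u, γ, hs, hu, e'⟩ := h4
    refine ⟨g, s, u, γ, hs, hu, fun x => ?_⟩
    rw [← e', ← e2 _ trivial, ← Perm.mul_apply, MulAut.smul_def, MulAut.conj_apply,
      show i = d⁻¹ * (ω⁻¹ * σ * ω) from eq_inv_mul_of_mul_eq e]
    congr 1
    group

/-- Reduction to standard systems. -/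
theorem red (hF : F.IsSaturated p)
    (h : ∀ F' : FusionSystem (⊤ : Subgroup (U5 K)), Std p F' → F'.IsRealizable p) :
    F.IsRealizable p := by
  have key : ∀ Q, F.IsEssential p Q → (∀ E, F.IsEssential p E → E = Q) → F.IsRealizable p :=
    fun Q hQ H => H4.Sp.isRealizable_of_constrained (topP p) ⟨hF, Q,
      hF.isNormal_of_essential (topP p) fun R hR => by
        rcases hR with rfl | hR
        · exact ⟨le_top, fun τ hτ x hx => (stab_ess hF hQ hτ x).2 hx⟩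
        · exact H R hR ▸ ⟨le_rfl, fun τ hτ x hx => hτ.mem hx⟩, hQ.isCentric⟩
  by_cases e1 : F.IsEssential p (sQ1 K) <;> by_cases e2 : F.IsEssential p (sQ2 K)
  · obtain ⟨F', h1, h2⟩ := exists_std hF e1 e2
    exact h2 (h F' h1)
  · exact key _ e1 fun E hE => (ess hF hE).resolve_right fun e => e2 (e ▸ hE)
  · exact key _ e2 fun E hE => (ess hF hE).resolve_left fun e => e1 (e ▸ hE)
  · exact H4.Sp.isRealizable_of_constrained (topP p) ⟨hF, ⊤, hF.isNormal_top (topP p) fun R hR =>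
      (ess hF hR).elim (fun e => e1 (e ▸ hR)) fun e => e2 (e ▸ hR), F.isCentric_top⟩

end Cfsg.Agent.Uf
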