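import Cfsg.Agent.U5.E3

/-! An essential subgroup of `U5 K` outside `Q₂` which keeps `Z` invariant is `Q₁`. -/

set_option autoImplicit false
set_option linter.unusedSectionVars false
set_option linter.style.haveILetI false

open Equiv

namespace Cfsg.Agent.Uf

open Cfsg.Fus Cfsg.FusionSystem U5

namespace Ea

variable {K : Type*} [Field K] [StarRing K] [Finite K] [HF K]
  {F : FusionSystem (⊤ : Subgroup (U5 K))} {E : Subgroup (U5 K)} {τ : Perm (U5 K)}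

/-- The centre of `E`. -/
def zc (E : Subgroup (U5 K)) : Subgroup (U5 K) := E ⊓ Subgroup.centralizer (E : Set (U5 K))

theorem mem_zc {x : U5 K} : x ∈ zc E ↔ x ∈ E ∧ ∀ e ∈ E, e * x = x * e :=
  and_congr_right fun _ => Subgroup.mem_centralizer_iff

theorem zc_le : zc E ≤ E := inf_le_left

theorem zc_inv : Inv F E (zc E) := fun _ hτ _ hx => mem_zc.2 ⟨hτ.mem hx.1, fun e he => by
  simpa using map_comm hτ (hτ.inv_mem he) hx.1 ((mem_zc.1 hx).2 _ (hτ.inv_mem he))⟩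

/-- The preimage of the centre of `E / Z`. -/
def dd (E : Subgroup (U5 K)) : Subgroup (U5 K) where
  carrier := {w | w ∈ E ∧ ∀ e ∈ E, cm w e ∈ sZ K}
  one_mem' := ⟨one_mem _, fun e _ => by simp [cm]⟩
  mul_mem' := fun {w v} hw hv => ⟨mul_mem hw.1 hv.1, fun e he => by
    have : cm (w * v) e = cm w e * cm v e :=
      calc cm (w * v) e = e⁻¹ * (w * (v * e * v⁻¹) * w⁻¹) := by rw [cm]; group
        _ = e⁻¹ * (w * e * (cm v e * w⁻¹)) := by rw [cj_eq v e]; group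
        _ = _ := by rw [← comm_sZ _ (hv.2 e he), ← cm_def w e]; group
    rw [this]; exact mul_mem (hw.2 e he) (hv.2 e he)⟩
  inv_mem' := fun {w} hw => ⟨inv_mem hw.1, fun e he => by
    have : cm w⁻¹ e = (cm w e)⁻¹ := by
      rw [eq_inv_iff_mul_eq_one, cm, inv_inv, mul_assoc, mul_assoc, comm_sZ _ (hw.2 e he),
        mul_assoc, ← mul_assoc e, ← cj_eq]; group
    rw [this]; exact inv_mem (hw.2 e he)⟩

theorem dd_le : dd E ≤ E := fun _ h => h.1

theorem dd_inv (hZ : Inv F E (sZ K)) : Inv F E (dd E) := fun _ hτ _ hx =>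
  ⟨hτ.mem hx.1, fun e he => by
    rw [cm_right hτ hx.1 he]; exact hZ _ hτ _ (hx.2 _ (hτ.inv_mem he))⟩

theorem comm_Z2 {e u : U5 K} (hu : u ∈ sZ2 K) (h : e.a * star u.d = star e.a * u.d) :
    e * u = u * e := by
  obtain ⟨a, b, c, y⟩ := hu
  simp only [comm_iff, a, b, c, y]
  simp [h, mul_comm]

theorem c_zero {x : U5 K} (hx : x ∈ sP K) (h : ∀ g ∈ sC K, g * x = x * g) : x.c = 0 := by
  by_contra hc
  obtain ⟨θ, h0, hθ⟩ := exists_skew (K := K)
  obtain ⟨t, ht⟩ := exists_sk hc hθ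
  obtain ⟨g, a, b, c, -, y⟩ := exists_el' (0 : K) 0 t 0 0 (by simp)
  have k := congrArg U5.z (cm_eq_one.2 (h g ⟨a, b, y⟩))
  rw [cm_z_phi a b, hx.1, c, one_z] at k
  exact h0 (by rw [← ht, ← k]; simp)

theorem mul_Z {x w : U5 K} (hx : x ∈ sZ2 K) (hw : w ∈ sZ2 K) (h : x.d = w.d) :
    w⁻¹ * x ∈ sZ K := by
  obtain ⟨a, b, c, y⟩ := hx
  obtain ⟨a', b', c', y'⟩ := hw
  simp [mem_sZ, *]

theorem exists_two {a b : K} (h : b * star a ≠ star b * a) (d : K) :
    ∃ y y' : K, star y = -y ∧ star y' = -y' ∧ d = a * y + b * y' := by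
  obtain ⟨δ, hδ⟩ : ∃ δ, δ = b * star a - star b * a := ⟨_, rfl⟩
  have h1 : δ ≠ 0 := hδ ▸ sub_ne_zero.2 h
  have h2 : star δ = -δ := by simp [hδ]
  refine ⟨-(d * star b + star d * b) / δ, (d * star a + star d * a) / δ, ?_, ?_, ?_⟩
  · simp only [star_div₀, star_neg, star_add, star_mul', star_star, h2]
    field_simp; ring
  · simp only [star_div₀, star_add, star_mul', star_star, h2]
    field_simp; ring
  · field_simp; rw [hδ]; ring

variable {p : ℕ} [Fact p.Prime] [CharP K p]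

theorem lemB (hF : F.IsSaturated p) (hE : F.IsEssential p E) {e : U5 K} (he : e ∈ E)
    (ha : e.a ≠ 0) (hZ : Inv F E (sZ K)) (h2 : sZ2 K ≤ E) (i2 : Inv F E (sZ2 K)) : False := by
  have h1 := Z_Z2.trans h2
  have hP : sP K ≤ E := fun g hg => mem_of_chain hE h1 h2 h2 hZ i2 i2 (fun x hx => comm_sZ g hx)
    (fun x hx => cm_sZ' g hx) (fun x _ => cm_sZ2 hg x) fun x _ => cm_sZ2 hg x
  have iP : Inv F E (sP K) := fun τ hτ x hx => by
    have a0 : (τ x).a = 0 := mem_Q2_of_comm fun t => by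
      simpa using map_comm hτ (hτ.inv_mem (h2 (xd_mem t))) (hP hx)
        (comm_sY (P_Q2 hx) (Z2_Y (i2 _ hτ.symm _ (xd_mem t)))).symm
    have k := (i2 _ hτ _ (cm_sZ2 hx (τ⁻¹ e))).2.2.1
    rw [← cm_right hτ (hP hx) he, cm_c, a0] at k
    exact ⟨a0, by simpa [ha] using k⟩
  exact ess_ne_top hF hE (eq_top_iff.2 fun g _ => mem_of_chain hE h1 h2 hP hZ i2 iP
    (fun x hx => comm_sZ g hx) (fun x hx => cm_sZ' g hx) (fun x hx => cm_sZ2' g hx)
    fun x _ => cm_sP g x)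

theorem case_i (hF : F.IsSaturated p) (hE : F.IsEssential p E) {e e' : U5 K} (he : e ∈ E)
    (ha : e.a ≠ 0) (he' : e' ∈ E) (hb : e'.b ≠ 0) (hZ : Inv F E (sZ K)) (h2 : sZ2 K ≤ E) :
    False := by
  have h1 := Z_Z2.trans h2
  have iD := dd_inv hZ
  have D2 : sZ2 K ≤ dd E := fun g hg => ⟨h2 hg, fun x _ => cm_sZ hg x⟩
  have DP : dd E ≤ sP K := fun w hw => by
    have kc : ∀ x ∈ E, w.a * x.b - x.a * w.b = 0 := fun x hx => cm_c w x ▸ (hw.2 x hx).2.2.1
    have a0 : w.a = 0 := by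
      by_contra a0
      have ky : ∀ x ∈ E, x.b * star w.b - w.b * star x.b = 0 := fun x hx =>
        cm_y w x ▸ (hw.2 x hx).2.2.2.2
      have b0 : w.b ≠ 0 := fun b0 => by simpa [b0, a0, hb] using kc e' he'
      have b1 : star w.b ≠ 0 := star_ne_zero.2 b0
      obtain ⟨g, a, b, c, -, y⟩ := exists_el' (0 : K) 0 (-w.a / star w.b) 0 0 (by simp)
      have gd : ∀ x ∈ E, (cm g x).d = x.a := fun x hx => by
        rw [d_phi ⟨a, b⟩, c, y]
        field_simp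
        exact mul_left_cancel₀ b0 (by linear_combination -w.a * ky x hx + star w.b * kc x hx)
      have gE : g ∈ E := mem_of_chain hE h1 zc_le zc_le hZ zc_inv zc_inv (fun x hx => comm_sZ g hx)
        (fun x hx => by
          have x0 : x.a = 0 := mem_Q2_of_comm fun t => (mem_zc.1 hx).2 _ (h2 (xd_mem t))
          exact cm_sPP ⟨a, b⟩ ⟨x0, by simpa [x0, a0] using kc x hx.1⟩)
        (fun x hx => mem_zc.2 ⟨h1 (by
          have x0 : x.a = 0 := mem_Q2_of_comm fun t => (mem_zc.1 hx).2 _ (h2 (xd_mem t))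
          exact cm_sPP ⟨a, b⟩ ⟨x0, by simpa [x0, a0] using kc x hx.1⟩), fun u _ => comm_sZ u (by
          have x0 : x.a = 0 := mem_Q2_of_comm fun t => (mem_zc.1 hx).2 _ (h2 (xd_mem t))
          exact cm_sPP ⟨a, b⟩ ⟨x0, by simpa [x0, a0] using kc x hx.1⟩)⟩)
        fun x hx => mem_zc.2 ⟨h2 (cm_sZ2 ⟨a, b⟩ x), fun u hu => comm_Z2 (cm_sZ2 ⟨a, b⟩ x) (by
          rw [gd x hx]
          have k1 := congrArg star (kc x hx)
          have k2 := congrArg star (kc u hu)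
          simp only [star_sub, star_mul', star_zero] at k1 k2
          refine mul_left_cancel₀ (mul_ne_zero (mul_ne_zero b0 b0) (mul_ne_zero b1 b1)) ?_
          have k3 := ky x hx
          have k4 := ky u hu
          have k5 := kc x hx
          have k6 := kc u hu
          grind)⟩
      have k := (hw.2 g gE).2.2.2.1
      rw [cm_d, a, b, c, y] at k
      field_simp at k
      exact a0 (by simpa using k)
    exact ⟨a0, by simpa [a0, ha] using kc e he⟩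
  have hP : sP K ≤ E := fun g hg => mem_of_chain hE h1 dd_le dd_le hZ iD iD
    (fun x hx => comm_sZ g hx) (fun x hx => cm_sPP hg (DP hx)) (fun x _ => D2 (cm_sZ2 hg x))
    fun x _ => D2 (cm_sZ2 hg x)
  refine lemB hF hE he ha hZ h2 ?_
  by_cases hD : dd E ≤ sZ2 K
  · exact fun τ hτ x hx => hD (iD τ hτ x (D2 hx))
  obtain ⟨w, hw, hn⟩ := SetLike.not_le_iff_exists.1 hD
  have kd : ∀ x ∈ E, -w.c * star x.b - x.a * w.y = 0 := fun x hx =>
    d_phi (DP hw) x ▸ (hw.2 x hx).2.2.2.1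
  have y0 : w.y ≠ 0 := fun y0 => hn ⟨(DP hw).1, (DP hw).2, by simpa [y0, hb] using kd e' he', y0⟩
  have c0 : w.c ≠ 0 := fun c0 => by simpa [c0, y0, ha] using kd e he
  have ys : star w.y = -w.y := by rw [w.hy, (DP hw).2]; simp
  intro τ hτ x hx
  by_cases hr : ∀ u ∈ E, u.a * star e.a = star u.a * e.a
  · have hcm : ∀ u ∈ E, ∀ v ∈ E, cm u v ∈ sZ2 K := fun u hu v hv => by
      have k1 := congrArg star (kd u hu)
      have k2 := congrArg star (kd v hv)
      simp only [star_sub, star_mul', star_zero, star_neg, star_star, ys] at k1 k2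
      have k3 := hr u hu
      have k4 := hr v hv
      have k5 := kd u hu
      have k6 := kd v hv
      have c1 : star w.c ≠ 0 := star_ne_zero.2 c0
      have k7 : u.a * star v.a = star u.a * v.a :=
        mul_left_cancel₀ ha (mul_left_cancel₀ (star_ne_zero.2 ha) (by grind))
      refine ⟨cm_a _ _, cm_b _ _, ?_, ?_⟩
      · rw [cm_c]; exact mul_left_cancel₀ c1 (by grind)
      · rw [cm_y]; exact mul_left_cancel₀ (mul_ne_zero c0 c1) (by grind)
    obtain ⟨g, a, b, c, -, y⟩ := exists_el' (0 : K) 0 (-x.d / star e'.b) 0 0 (by simp)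
    have m := mul_Z hx (cm_sZ2 ⟨a, b⟩ e') (by
      rw [d_phi ⟨a, b⟩, c, y]; have := star_ne_zero.2 hb; field_simp; simp)
    have e1 : x = cm g e' * ((cm g e')⁻¹ * x) := by group
    rw [e1, hτ.homOn (h2 (cm_sZ2 ⟨a, b⟩ e')) (h1 m), map_cm hτ (hP ⟨a, b⟩) he']
    exact mul_mem (hcm _ (hτ.mem (hP ⟨a, b⟩)) _ (hτ.mem he')) (Z_Z2 (hZ τ hτ _ m))
  push Not at hr
  obtain ⟨u, hu, hr⟩ := hr
  have tY : ∀ v ∈ sY K, τ v ∈ sP K := fun v hv => by
    have vE := hP (Y_P hv)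
    have a0 : (τ v).a = 0 := mem_Q2_of_comm fun t => by
      simpa using map_comm hτ (hτ.inv_mem (h2 (xd_mem t))) vE
        (comm_sY (P_Q2 (DP (iD _ hτ.symm _ (D2 (xd_mem t))))) hv)
    exact ⟨a0, by simpa [a0, c0] using kd _ (hτ.mem vE)⟩
  obtain ⟨y, y', s1, s2, hd⟩ := exists_two hr (-x.d)
  have m1 : xy y s1 ∈ sY K := ⟨rfl, rfl, rfl⟩
  have m2 : xy y' s2 ∈ sY K := ⟨rfl, rfl, rfl⟩
  have n1 := cm_sZ2 (Y_P m1) e
  have n2 := cm_sZ2 (Y_P m2) u
  have m := mul_Z hx (mul_mem n1 n2) (by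
    rw [mul_d, d_phi (Y_P m1), d_phi (Y_P m2), cm_a, cm_b]
    simp only [xy]
    linear_combination (norm := (simp; ring1)) -hd)
  have e1 : x = cm (xy y s1) e * cm (xy y' s2) u * ((cm (xy y s1) e * cm (xy y' s2) u)⁻¹ * x) := by
    group
  rw [e1, hτ.homOn (h2 (mul_mem n1 n2)) (h1 m), hτ.homOn (h2 n1) (h2 n2),
    map_cm hτ (hP (Y_P m1)) he, map_cm hτ (hP (Y_P m2)) hu]
  exact mul_mem (mul_mem (cm_sZ2 (tY _ m1) _) (cm_sZ2 (tY _ m2) _)) (Z_Z2 (hZ τ hτ _ m))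

theorem case_ii (hF : F.IsSaturated p) (hE : F.IsEssential p E) {e e' : U5 K} (he : e ∈ E)
    (ha : e.a ≠ 0) (he' : e' ∈ E) (hy : e'.y ≠ 0) (hb : ∀ x ∈ E, x.b = 0) (hZ : Inv F E (sZ K))
    (h2 : sZ2 K ≤ E) : False := by
  have h1 := Z_Z2.trans h2
  have iD := dd_inv hZ
  have hc : ∀ g ∈ sC K, ∀ x ∈ E, cm g x ∈ sZ K := fun g hg x hx =>
    ⟨cm_a _ _, cm_b _ _, by simp [cm_c, hg.1, hg.2.1],
      by simp [d_phi ⟨hg.1, hg.2.1⟩, hb x hx, hg.2.2], by simp [cm_y, hg.2.1]⟩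
  have hC : sC K ≤ E := fun g hg => mem_of_chain hE h1 h1 h1 hZ hZ hZ (fun x hx => comm_sZ g hx)
    (fun x hx => hc g hg x (h1 hx)) (fun x hx => hc g hg x (h1 hx)) (hc g hg)
  have CD : sC K ≤ dd E := fun g hg => ⟨hC hg, hc g hg⟩
  by_cases hD : dd E ≤ sC K
  · refine lemB hF hE he ha hZ h2 fun τ hτ x hx => ?_
    have m := hD (iD τ hτ x (CD ⟨hx.1, hx.2.1, hx.2.2.2⟩))
    refine ⟨m.1, m.2.1, c_zero ⟨m.1, m.2.1⟩ fun g hg => ?_, m.2.2⟩
    simpa using map_comm hτ (hτ.inv_mem (hC hg)) (h2 hx)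
      (comm_sY (hD (iD _ hτ.symm _ (CD hg))).1 (Z2_Y hx))
  obtain ⟨w, hw, hn⟩ := SetLike.not_le_iff_exists.1 hD
  have kd : ∀ x ∈ E, w.a * x.y - x.a * w.y = 0 := fun x hx => by
    simpa [cm_d, hb x hx, hb w hw.1] using (hw.2 x hx).2.2.2.1
  have a0 : w.a ≠ 0 := fun a0 => hn ⟨a0, hb w hw.1, by simpa [a0, ha] using kd e he⟩
  have y0 : w.y ≠ 0 := fun y0 => by simpa [a0, y0, hy] using kd e' he'
  have ys : ∀ x ∈ E, star x.y = -x.y := fun x hx => by rw [x.hy, hb x hx]; simp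
  have zZ : ∀ x ∈ zc E, cm (xa (w.a / w.y)) x ∈ sZ K := fun x hx => by
    have x0 : x.a = 0 := mem_Q2_of_comm fun t => (mem_zc.1 hx).2 _ (h2 (xd_mem t))
    exact cm_sZ' _ ⟨x0, hb x hx.1, c_zero ⟨x0, hb x hx.1⟩ fun g hg => (mem_zc.1 hx).2 g (hC hg),
      by simpa [x0, a0] using kd x hx.1⟩
  have gE : xa (w.a / w.y) ∈ E := mem_of_chain hE h1 zc_le zc_le hZ zc_inv zc_inv
    (fun x hx => comm_sZ _ hx) zZ
    (fun x hx => mem_zc.2 ⟨h1 (zZ x hx), fun u _ => comm_sZ u (zZ x hx)⟩) fun x hx => by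
      have m : cm (xa (w.a / w.y)) x ∈ sZ2 K :=
        ⟨cm_a _ _, cm_b _ _, by simp [cm_c, xa, hb x hx], by simp [cm_y, xa, hb x hx]⟩
      refine mem_zc.2 ⟨h2 m, fun u hu => comm_Z2 m ?_⟩
      have d1 : (cm (xa (w.a / w.y)) x).d = x.a := by
        simp only [cm_d, xa, hb x hx, star_zero, mul_zero, sub_zero, add_zero, zero_mul, sub_self]
        field_simp
        linear_combination kd x hx
      rw [d1]
      have k1 := congrArg star (kd x hx)
      have k2 := congrArg star (kd u hu)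
      simp only [star_sub, star_mul', star_zero, ys x hx, ys u hu, ys w hw.1] at k1 k2
      have k3 := kd x hx
      have k4 := kd u hu
      exact mul_left_cancel₀ (mul_ne_zero y0 y0) (by grind)
  simpa [xa, a0, y0] using kd _ gE

end Ea

open Ea

variable {K : Type*} [Field K] [StarRing K] [Finite K] [HF K] {p : ℕ} [Fact p.Prime] [CharP K p]
  {F : FusionSystem (⊤ : Subgroup (U5 K))} {E : Subgroup (U5 K)}

theorem ess_inv (hF : F.IsSaturated p) (hE : F.IsEssential p E) (h : ¬ E ≤ sQ2 K)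
    (hZ : Inv F E (sZ K)) : E = sQ1 K := by
  obtain ⟨e, he, ha⟩ := SetLike.not_le_iff_exists.1 h
  have h1 : sZ K ≤ E := fun g hg => cent_of_comm hE.isCentric fun x _ => comm_sZ x hg
  have h2 : sZ2 K ≤ E := fun g hg => mem_of_chain hE h1 h1 h1 hZ hZ hZ (fun x hx => comm_sZ g hx)
    (fun x _ => cm_sZ hg x) (fun x _ => cm_sZ hg x) fun x _ => cm_sZ hg x
  have hb : ∀ x ∈ E, x.b = 0 := fun x hx => by_contra fun hb => case_i hF hE he ha hx hb hZ h2
  have hQ : E ≤ sQ1 K := fun x hx =>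
    ⟨hb x hx, by_contra fun hy => case_ii hF hE he ha hx hy hb hZ h2⟩
  exact le_antisymm hQ fun g hg => mem_of_chain hE h1 h1 h1 hZ hZ hZ (fun x hx => comm_sZ g hx)
    (fun x hx => cm_sQ1 hg (hQ (h1 hx))) (fun x hx => cm_sQ1 hg (hQ (h1 hx)))
    fun x hx => cm_sQ1 hg (hQ hx)

end Cfsg.Agent.Uf
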