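import Cfsg.Agent.U5.E0
import Cfsg.Agent.U5.E3

/-! The centre of an essential subgroup of `U5 K` lies in `Q₂`. -/

set_option autoImplicit false
set_option linter.unusedSectionVars false
set_option linter.style.haveILetI false

open Equiv
open scoped commutatorElement

namespace Cfsg.Agent.Uf

open Cfsg.Fus Cfsg.FusionSystem U5 Ea

variable {K : Type*} [Field K] [StarRing K] [Finite K] [HF K]
  {F : FusionSystem (⊤ : Subgroup (U5 K))} {E : Subgroup (U5 K)}
  {p : ℕ} [Fact p.Prime] [CharP K p]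

namespace E4

theorem Z_le (hE : F.IsEssential p E) : sZ K ≤ E := fun _ hx =>
  cent_of_comm hE.isCentric fun g _ => comm_sZ g hx

theorem comm_xd {w : U5 K} {t : K} : xd t * w = w * xd t ↔ w.a * star t - star w.a * t = 0 := by
  simp only [comm_iff, xd]
  simp only [mul_zero, zero_mul, star_zero, sub_zero, neg_zero, add_zero, zero_add, true_and,
    sub_self]
  constructor <;> intro h <;> linear_combination h

theorem opt (hF : F.IsSaturated p) (hE : F.IsEssential p E) {w : U5 K}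
    (hc : ∀ e ∈ E, e * w = w * e) (ha : w.a ≠ 0) {g : U5 K} (hg : g ∈ sP K)
    (hn : ∀ x ∈ E, cm g x ∈ E) (hi : ∀ t, (xd t)⁻¹ * g ∉ E) : False := by
  obtain ⟨θ, h0, hθ⟩ := exists_skew (K := K)
  obtain ⟨t, ht⟩ := exists_sk ha hθ
  have hd : ∀ s : skewAdjoint K, ∃ d, w.a * star d - star w.a * d = s := fun s =>
    exists_sk ha (skewAdjoint.mem_iff.1 s.2)
  choose d hd using hd
  have hP : ∀ s ∈ {s | s ∈ sZ2 K ∨ s = g}, s ∈ sP K := by
    rintro s (h | rfl)
    exacts [Y_P (Z2_Y h), hg]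
  have h := E0.qo hF (topP p) hE (B := {s | s ∈ sZ2 K ∨ s = g}) (fun s hs => ⟨trivial, ?_⟩)
    (fun s hs s' hs' x _ => ?_) (b := xd t) (Or.inl (xd_mem t)) (fun h => ?_)
    (X := skewAdjoint K) (Y := Option (skewAdjoint K))
    (fun x => ⟨x.a * star t - star x.a * t, by simp [skewAdjoint.mem_iff, mul_comm]⟩)
    (fun x _ y _ e => ?_) (fun o => o.elim g fun s => xd (d s)) (fun o => ?_) fun o o' h => ?_
  · rw [Finite.card_option] at h
    omega
  · rcases hs with h | rfl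
    exacts [norm_of_cm fun x _ => Z_le hE (cm_sZ h x), norm_of_cm hn]
  · rw [cm_def, cm_def, cm_eq_one.2 (comm_sY (P_Q2 (hP s' hs')) (Z2_Y (cm_sZ2 (hP s hs) x)))]
    exact one_mem _
  · exact h0 (ht.symm.trans (comm_xd.1 (hc _ h)))
  · have e1 : x.a * star t - star x.a * t = y.a * star t - star y.a * t := congrArg Subtype.val e
    rw [cm_def, cm_eq_one.2 (comm_xd.2 (by simp only [mul_a, inv_a, star_add, star_neg]; linear_combination e1))]
    exact one_mem _
  · cases o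
    exacts [Or.inr rfl, Or.inl (xd_mem _)]
  · rcases o with _ | s <;> rcases o' with _ | s'
    · rfl
    · exact absurd h (hi _)
    · exact absurd (by simpa using E.inv_mem h) (hi (d s))
    · have e : (xd (d s'))⁻¹ * xd (d s) = xd (d s - d s') := by
        ext <;> simp [xd]
        ring
      have h1 := comm_xd.1 (hc _ (e ▸ h))
      rw [star_sub] at h1
      exact congrArg some (Subtype.ext (by rw [← hd s, ← hd s']; linear_combination h1))

end E4

open E4

theorem ess_a (hF : F.IsSaturated p) (hE : F.IsEssential p E) {w : U5 K}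
    (hc : ∀ e ∈ E, e * w = w * e) (ha : w.a ≠ 0) (hb : w.b ≠ 0) : False := by
  have hb' := star_ne_zero.2 hb
  obtain ⟨g, g1, g2, g3, -, g4⟩ := exists_el' (0 : K) 0 (w.a / star w.b) 0 0 (by simp)
  have key : ∀ e ∈ E, ∃ μ, star μ = μ ∧ e.a = μ * w.a ∧ e.b = μ * w.b := fun e he => by
    obtain ⟨h1, h2, -⟩ := comm_iff.1 (hc e he)
    refine ⟨e.b / w.b, ?_, ?_, (div_mul_cancel₀ _ hb).symm⟩
    · rw [star_div₀, div_eq_div_iff hb' hb]; linear_combination -h2
    · field_simp; linear_combination h1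
  refine opt hF hE hc ha ⟨g1, g2⟩ (fun x hx => cent_of_comm hE.isCentric fun e he => ?_)
    fun t h => ?_
  · obtain ⟨μ, m1, -, m3⟩ := key x hx
    obtain ⟨ν, n1, n2, -⟩ := key e he
    obtain ⟨c1, c2, c3, c4⟩ := cm_sZ2 ⟨g1, g2⟩ x
    have c5 : (cm g x).d = -μ * w.a := by
      rw [d_phi ⟨g1, g2⟩, g3, g4, m3, star_mul', m1]; field_simp; ring
    simp [comm_iff, c1, c2, c3, c4, c5, n2, m1, n1]
    ring
  · have := (comm_iff.1 (hc _ h)).2.2.1
    simp [xd, g1, g2, g3, g4, ha, hb] at this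

theorem ess_b (hF : F.IsSaturated p) (hE : F.IsEssential p E) {w : U5 K}
    (hc : ∀ e ∈ E, e * w = w * e) (ha : w.a ≠ 0) (hb : w.b = 0) : False := by
  have h0 : ∀ e ∈ E, e.b = 0 := fun e he => by
    simpa [hb, ha] using (comm_iff.1 (hc e he)).1
  by_cases h : ∀ c, ∃ u ∈ E, u ∈ sP K ∧ u.c = c
  · obtain ⟨θ, h1, hθ⟩ := exists_skew (K := K)
    obtain ⟨t, ht⟩ := exists_sk ha hθ
    have hP : ⁅E, E⁆ ≤ sP K := Subgroup.commutator_le.2 fun a _ b _ => by
      constructor <;> simp [commutatorElement_def]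
    have hZ : sZ K ≤ ⁅E, E⁆ := fun z hz => by
      obtain ⟨u, u1, u2, u3⟩ := h 1
      obtain ⟨g, g1, g2⟩ := exists_cm_c u2 (u3 ▸ one_ne_zero) hz
      obtain ⟨v, v1, v2, v3⟩ := h g.c
      have e : cm v u = z := eq_of_Z (cm_sPP v2 u2) hz (by
        rw [← g2, cm_z_phi v2.1 v2.2, cm_z_phi g1.1 g1.2, u2.1, u2.2, v3]; simp)
      have := Subgroup.commutator_mem_commutator (E.inv_mem u1) v1
      rwa [commutatorElement_def, inv_inv, show u⁻¹ * v * u * v⁻¹ = cm v u by simp [cm, mul_assoc],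
        e] at this
    have hi : Inv F E ⁅E, E⁆ := fun τ hτ x hx => E0.comm_inv hτ hx
    have hk : ∀ x ∈ ⁅E, E⁆, xd t * x = x * xd t := fun x hx =>
      (comm_sY (P_Q2 (hP hx)) (Z2_Y (xd_mem t))).symm
    have hk' : ∀ x ∈ ⁅E, E⁆, cm (xd t) x ∈ ⁅E, E⁆ := fun x _ => hZ (cm_sZ (xd_mem t) x)
    exact h1 (ht.symm.trans (comm_xd.1 (hc _ (mem_of_chain hE E0.comm_le E0.comm_le E0.comm_le
      hi hi hi hk hk' hk' fun x _ => hZ (cm_sZ (xd_mem t) x)))))
  · push Not at h
    obtain ⟨c, h⟩ := h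
    obtain ⟨g, g1, g2, g3, -, g4⟩ := exists_el' (0 : K) 0 c 0 0 (by simp)
    refine opt hF hE hc ha ⟨g1, g2⟩ (fun x hx => Z_le hE ?_) fun t ht => h _ ht ?_ ?_
    · obtain ⟨c1, c2, c3, c4⟩ := cm_sZ2 ⟨g1, g2⟩ x
      exact ⟨c1, c2, c3, by simp [d_phi ⟨g1, g2⟩, h0 x hx, g4], c4⟩
    · constructor <;> simp [xd, g1, g2]
    · simp [xd, g3]

theorem ess_Z2 (hF : F.IsSaturated p) (hE : F.IsEssential p E) : sZ2 K ≤ E := fun g hg => by
  have hi : Inv F E (E ⊓ Subgroup.centralizer (E : Set (U5 K))) := fun τ hτ x hx =>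
    ⟨hτ.mem hx.1, Subgroup.mem_centralizer_iff.2 fun y hy => by
      have := map_comm hτ (hτ.inv_mem hy) hx.1
        (Subgroup.mem_centralizer_iff.1 hx.2 _ (hτ.inv_mem hy))
      simpa using this⟩
  have hZ : ∀ x, cm g x ∈ E ⊓ Subgroup.centralizer (E : Set (U5 K)) := fun x =>
    ⟨Z_le hE (cm_sZ hg x), Subgroup.mem_centralizer_iff.2 fun y _ => comm_sZ y (cm_sZ hg x)⟩
  refine mem_of_chain hE inf_le_left inf_le_left inf_le_left hi hi hi (fun x hx => ?_)
    (fun x _ => hZ x) (fun x _ => hZ x) fun x _ => hZ x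
  have hc : ∀ e ∈ E, e * x = x * e := Subgroup.mem_centralizer_iff.1 hx.2
  refine (comm_sY (show x.a = 0 from by_contra fun ha => ?_) (Z2_Y hg)).symm
  by_cases hb : x.b = 0
  exacts [ess_b hF hE hc ha hb, ess_a hF hE hc ha hb]

end Cfsg.Agent.Uf
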