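import Cfsg.Agent.U5.E1
import Cfsg.Agent.U5.E2
import Cfsg.Agent.U5.E4

/-! The essential subgroups of `U5 K`. -/

set_option autoImplicit false

namespace Cfsg.Agent.Uf

theorem ess {K : Type*} [Field K] [StarRing K] [Finite K] [HF K]
    {F : FusionSystem (⊤ : Subgroup (U5 K))} {E : Subgroup (U5 K)} {p : ℕ} [Fact p.Prime]
    [CharP K p] (hF : F.IsSaturated p) (hE : F.IsEssential p E) : E = sQ1 K ∨ E = sQ2 K := by
  by_cases h : E ≤ sQ2 K
  exacts [Or.inr (ess_Q2 hF hE h), Or.inl (ess_inv hF hE h (ess_1 hF hE h (ess_Z2 hF hE)))]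

end Cfsg.Agent.Uf
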