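import Cfsg.Agent.U5.L1c
import Cfsg.Agent.U5.Ess

/-! Uniqueness of standard systems and the constrained cases. -/

set_option autoImplicit false
set_option linter.unusedSectionVars false
set_option linter.style.haveILetI false

open Equiv

namespace Cfsg.Agent.Uf

open Cfsg.Fus Cfsg.FusionSystem U5

variable {K : Type*} [Field K] [StarRing K] [Finite K] [HF K] {p : ℕ} [Fact p.Prime] [CharP K p]
  {F G : FusionSystem (⊤ : Subgroup (U5 K))}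

theorem ext2' (hF : F.IsSaturated p) {τ : Perm (U5 K)} (hτ : F.Iso (sQ2 K) (sQ2 K) τ)
    (h : ∀ x ∈ sP K, τ x ∈ sP K) : ∃ α, F.Iso ⊤ ⊤ α ∧ ∀ x ∈ sQ2 K, α x = τ x := by
  have iZ : ∀ x ∈ sZ K, τ x ∈ sZ K := fun x hx => by
    obtain ⟨d, hd⟩ := exists_sk (a := (1 : K)) (t := x.z) one_ne_zero
      (by simpa [hx.1, hx.2.2.1] using x.hz)
    obtain ⟨u, u1, u2, u3, -⟩ := exists_el (0 : K) 0 1 0
    obtain ⟨g, g1, g2, g3, -⟩ := exists_el (0 : K) 0 d 0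
    rw [← sZ_eq (cm_sPP ⟨g1, g2⟩ ⟨u1, u2⟩) hx (by rw [cm_z_phi g1 g2]; simpa [u1, u2, u3, g3] using hd),
      map_cm hτ g1 u1]
    exact cm_sPP (h g ⟨g1, g2⟩) (h u ⟨u1, u2⟩)
  refine (ext_of_chain hF (A := sZ K) (B := sZ2 K) (C := sP K)
    (fun x hx => ⟨hx.1, hx.2.1, hx.2.2.1, hx.2.2.2.2⟩) (fun x hx => ⟨hx.1, hx.2.1⟩)
    (fun x hx => hx.1) (fun g x hx => comm_sZ g hx) (fun g x hx => cm_sZ' g hx)
    (fun g x hx => cm_sZ2' g hx) (fun g x _ => cm_sP g x) hτ iZ (fun x hx => ?_) h).2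
  obtain ⟨u, u1, u2, u3, -⟩ := exists_el (0 : K) 1 0 0
  obtain ⟨g, g1, g2, g3, -⟩ := exists_el (0 : K) 0 (-x.d) 0
  have m := cm_sZ2 ⟨g1, g2⟩ u
  have m1 : (cm g u)⁻¹ * x ∈ sZ K := by
    have := (sZ2 K).mul_mem ((sZ2 K).inv_mem m) hx
    refine ⟨this.1, this.2.1, this.2.2.1, ?_, this.2.2.2⟩
    simp [m.2.2.1, hx.2.1, cm_d, u1, u2, g1, g2, g3]
  rw [← mul_inv_cancel_left (cm g u) x, hτ.homOn m.1 m1.1, map_cm hτ g1 u1]
  have m2 := iZ _ m1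
  exact (sZ2 K).mul_mem (cm_sZ2 (h g ⟨g1, g2⟩) _) ⟨m2.1, m2.2.1, m2.2.2.1, m2.2.2.2.2⟩

theorem le_step {Q A : Subgroup (U5 K)} (hA : A ≤ Q) (hn : ∀ g, ∀ x ∈ Q, cm g x ∈ Q)
    {w : U5 K → U5 K} (hw : ∀ x, w x ∈ Q) (w1 : F.IsMap Q w) (w2 : G.IsMap Q w)
    (h1 : ∀ τ, F.Iso Q Q τ → (∀ x ∈ A, τ x ∈ A) → G.IsMap Q τ) {σ : Perm (U5 K)}
    (hσ : F.Iso Q Q σ) (h2 : (∀ x ∈ A, σ x ∈ A) ∨ ∃ g, ∀ x ∈ A, w (g * σ x * g⁻¹) ∈ A) :
    G.IsMap Q σ := by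
  rcases h2 with h2 | ⟨g, h2⟩
  · exact h1 σ hσ h2
  obtain ⟨ω, a1, a2⟩ := w1.exists_perm
  obtain ⟨ω', b1, b2⟩ := w2.exists_perm
  have a3 := a1.iso_self fun x hx => by rw [a2 x hx]; exact hw x
  have b3 := b1.iso_self fun x hx => by rw [b2 x hx]; exact hw x
  have c1 := hσ.trans (F.iso_cj le_top trivial (norm_of_cm (hn g)))
  have c2 := (h1 _ (c1.trans a3) fun x hx => by
    rw [Perm.mul_apply, a2 _ (c1.mem (hA hx))]; exact h2 x hx).iso_self fun _ => (c1.trans a3).mem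
  refine ((c2.trans b3.symm).trans (G.iso_cj le_top trivial (norm_of_cm (hn g⁻¹)))).isMap.congr
    fun x hx => ?_
  rw [Perm.mul_apply, Perm.mul_apply, Perm.mul_apply, a2 _ (c1.mem hx), ← b2 _ (c1.mem hx),
    perm_inv_apply_self, Perm.mul_apply, cj_apply, cj_apply]
  group

theorem Std.le (h : Std p F) (hA : ∀ α, F.Iso ⊤ ⊤ α → G.Iso ⊤ ⊤ α)
    (a1 : F.IsMap (sQ1 K) w1) (a2 : F.IsMap (sQ2 K) w2) (b1 : G.IsMap (sQ1 K) w1)
    (b2 : G.IsMap (sQ2 K) w2) (l2c : ∀ τ, F.Iso (sQ2 K) (sQ2 K) τ → (∀ x ∈ sP K, τ x ∈ sP K) ∨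
      ∃ g, ∀ x ∈ sP K, (g * τ x * g⁻¹).c = 0) : F ≤ G := by
  refine h.sat.le_of_essential (topP p) fun P σ hP hσ => ?_
  rcases hP with rfl | hP
  · exact (hA σ hσ).isMap
  rcases ess h.sat hP with rfl | rfl
  · refine le_step (Q := sQ1 K) (A := sZ2 K) (w := w1) (fun x hx => ⟨hx.2.1, hx.2.2.2⟩)
      (fun g x hx => ⟨cm_b _ _, by simp [cm_y, hx.1]⟩) (fun x => ⟨rfl, rfl⟩) a1 b1
      (fun τ hτ h1 => ?_) hσ ((l1c h hσ).imp_right fun ⟨g, hg⟩ => ⟨g, fun x hx =>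
        ⟨(hg x hx).2, rfl, neg_eq_zero.2 (hg x hx).1, rfl⟩⟩)
    obtain ⟨α, e1, e2⟩ := (ext1 h.sat hτ h1).2
    exact ((hA α e1).isMap.mono le_top).congr fun x hx => (e2 x hx).symm
  · refine le_step (Q := sQ2 K) (A := sP K) (w := w2) (fun x hx => hx.1) (fun g x _ => cm_a g x) (fun x => rfl) a2 b2
      (fun τ hτ h1 => ?_) hσ ((l2c σ hσ).imp_right fun ⟨g, hg⟩ => ⟨g, fun x hx =>
        ⟨rfl, neg_eq_zero.2 (hg x hx)⟩⟩)
    obtain ⟨α, e1, e2⟩ := ext2' h.sat hτ h1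
    exact ((hA α e1).isMap.mono le_top).congr fun x hx => (e2 x hx).symm

theorem real_of_one (hF : F.IsSaturated p) {Q : Subgroup (U5 K)} (hQ : F.IsEssential p Q)
    (h : ∀ E, F.IsEssential p E → E = Q) : F.IsRealizable p := by
  have hn : F.IsNormal Q := hF.isNormal_of_essential (topP p) fun R hR => by
    rcases hR with rfl | hR
    · refine ⟨le_top, fun τ hτ x hx => ?_⟩
      have := (hτ.restrict (le_top (a := Q))).mem hx
      rwa [h _ (H4.Sp.essential_img hQ hτ)] at this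
    · rw [h R hR]; exact ⟨le_rfl, fun τ hτ x hx => hτ.mem hx⟩
  exact H4.Sp.isRealizable_of_constrained (topP p) ⟨hF, Q, hn, hQ.isCentric⟩

theorem both_or (hF : F.IsSaturated p) :
    F.IsRealizable p ∨ F.IsEssential p (sQ1 K) ∧ F.IsEssential p (sQ2 K) := by
  by_cases e1 : F.IsEssential p (sQ1 K) <;> by_cases e2 : F.IsEssential p (sQ2 K)
  · exact Or.inr ⟨e1, e2⟩
  · exact Or.inl (real_of_one hF e1 fun E hE => (ess hF hE).resolve_right fun e => e2 (e ▸ hE))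
  · exact Or.inl (real_of_one hF e2 fun E hE => (ess hF hE).resolve_left fun e => e1 (e ▸ hE))
  · have hn := hF.isNormal_top (topP p) fun R hR => by
      rcases ess hF hR with rfl | rfl
      exacts [e1 hR, e2 hR]
    exact Or.inl (H4.Sp.isRealizable_of_constrained (topP p) ⟨hF, ⊤, hn, hn.stronglyClosed.weaklyClosed.isCentric le_top⟩)

end Cfsg.Agent.Uf
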