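import Cfsg.Agent.U5.R1
import Cfsg.Agent.H9.PL

/-! Realizing standard fusion systems on `U5 K` by semilinear unitary groups. -/

set_option autoImplicit false
set_option linter.unusedSectionVars false
set_option linter.unusedSimpArgs false

open Equiv

namespace Cfsg.Agent.Uf

open Matrix U5 Cfsg.Fus Cfsg.FusionSystem

universe u

namespace Rz

theorem exists_fus {U G : Type u} [Group U] [Group G] [Finite G] {p : ℕ} [Fact p.Prime] (e : U →* G)
    (he : Function.Injective e) (hU : IsPGroup p U) (H : Subgroup G) (hm : ∀ x, e x ∈ H)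
    (hs : ∀ g ∈ H, (∀ y, ∃ x, e y * g = g * e x) → H5.Cl.PE p g → g ∈ e.range) :
    ∃ F : FusionSystem (⊤ : Subgroup U), F.IsSaturated p ∧ F.IsRealizable p ∧
      ∀ P f, F.IsMap P f ↔ ∃ g ∈ H, ∀ x ∈ P, e (f x) * g = g * e x := by
  let ι : (⊤ : Subgroup U) →* H := (e.codRestrict H hm).comp (Subgroup.subtype ⊤)
  have hι : ∀ x : U, ((extFun ι x : H) : G) = e x := fun x => by
    rw [extFun_of_mem ι (Subgroup.mem_top x)]; rfl
  have hinj : Function.Injective ι := fun a b h => Subtype.ext (he (congrArg Subtype.val h))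
  obtain ⟨θ, t⟩ := L.exists_pIso_of_injective ι hinj
  obtain ⟨F, t'⟩ := t.symm.exists_transp le_rfl (groupFusionSystem ι.range) t.symm.img_self
  have hG := (L.realized_of_transp t'.symm (ι := ι) fun x => (extFun_coe ι x).symm).1
  have hT : ∃ T : Sylow p H, (T : Subgroup H) = ι.range := by
    refine ⟨(H5.Cl.isSylowIn_of_normalizer (U := ι.range) ?_ fun g hg ⟨k, hk⟩ => ?_).toSylowTop, rfl⟩
    · exact (hU.to_subgroup ⊤).of_equiv (MonoidHom.ofInjective hinj)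
    · obtain ⟨x, hx⟩ := hs g g.2 (fun y => by
        obtain ⟨x, hx⟩ := (Subgroup.mem_normalizer_iff.1 (inv_mem hg) _).1 ⟨⟨y, trivial⟩, rfl⟩
        refine ⟨x, ?_⟩
        have : e x = (g : G)⁻¹ * e y * (g : G)⁻¹⁻¹ := congrArg Subtype.val hx
        rw [this]; group) ⟨k, congrArg Subtype.val hk⟩
      exact ⟨⟨x, trivial⟩, Subtype.ext hx⟩
  refine ⟨F, L.isSaturated_of_realized hG hT, ⟨H, _, inferInstance, ι, hG, hT⟩, fun P f => ⟨fun hf => ?_,
    fun ⟨g, hg, h⟩ => L.realized_isMap hG le_top (fun _ _ => trivial) (g := ⟨g, hg⟩) fun x hx => Subtype.ext ?_⟩⟩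
  · obtain ⟨g, hg⟩ := L.realized_exists_conj hG hf
    exact ⟨g, g.2, fun x hx => eq_mul_inv_iff_mul_eq.1 (by simpa [hι] using congrArg Subtype.val (hg x hx))⟩
  · simpa [hι] using eq_mul_inv_of_mul_eq (h x hx)

variable {K : Type u} [Field K] [StarRing K] [Finite K]

/-- `g` is the semilinear map given by `M` and `σ` -/
def Rp (g : Perm (Fin 5 → K)) (M : M5 K) (σ : K ≃+* K) : Prop := ∀ v, g v = M *ᵥ (σ ∘ v)

theorem Rp.mul {g g' : Perm (Fin 5 → K)} {M M' : M5 K} {σ σ' : K ≃+* K} (h : Rp g M σ) (h' : Rp g' M' σ') :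
    Rp (g * g') (M * M'.map σ) (σ'.trans σ) := fun v => by
  rw [Perm.mul_apply, h, h', ← mulVec_mulVec]
  congr 1
  funext i
  exact RingHom.map_mulVec (σ : K →+* K) M' _ i

theorem Rp.uniq {g : Perm (Fin 5 → K)} {M M' : M5 K} {σ σ' : K ≃+* K} (h : Rp g M σ) (h' : Rp g M' σ') : M = M' := by
  have k : ∀ (σ : K ≃+* K) (j : Fin 5), σ ∘ (Pi.single j 1 : Fin 5 → K) = Pi.single j 1 := fun σ j => by
    funext i
    simp only [Function.comp, Pi.single_apply, apply_ite σ, map_one, map_zero]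
  ext i j
  have := congrFun ((h (Pi.single j 1)).symm.trans (h' _)) i
  simpa [k] using this

theorem exists_rp {M : M5 K} (h : M.det ≠ 0) (σ : K ≃+* K) : ∃ g, Rp g M σ :=
  ⟨Equiv.ofBijective (fun v => M *ᵥ (σ ∘ v)) (Finite.injective_iff_bijective.1
    ((mulVec_injective_iff_isUnit.2 ((isUnit_iff_isUnit_det M).2 h.isUnit)).comp σ.injective.comp_left)), fun _ => rfl⟩

def emb : U5 K →* Perm (Fin 5 → K) := MonoidHom.toHomPerm
  { toFun x := fun v => mat x *ᵥ v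
    map_one' := funext fun v => by rw [mat_one, one_mulVec]; rfl
    map_mul' x y := funext fun v => by rw [mat_mul, ← mulVec_mulVec]; rfl }

theorem rp_emb (x : U5 K) : Rp (emb x) (mat x) (RingEquiv.refl K) := fun _ => rfl

theorem emb_inj : Function.Injective (emb : U5 K →* _) := fun x y h => mat_inj ((rp_emb x).uniq (h ▸ rp_emb y))

theorem Rp.conj {g : Perm (Fin 5 → K)} {M : M5 K} {σ : K ≃+* K} (h : Rp g M σ) {x y : U5 K} :
    emb y * g = g * emb x ↔ mat y * M = M * (mat x).map σ :=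
  ⟨fun e => ((rp_emb y).mul h).uniq (e ▸ h.mul (rp_emb x)), fun e => Equiv.ext fun v => by
    rw [h.mul (rp_emb x), ← e]; exact (rp_emb y).mul h v⟩

theorem Rp.pow {g : Perm (Fin 5 → K)} {M : M5 K} (h : Rp g M (RingEquiv.refl K)) (n : ℕ) :
    Rp (g ^ n) (M ^ n) (RingEquiv.refl K) := by
  induction n with
  | zero => exact fun v => by rw [pow_zero, pow_zero, one_mulVec]; rfl
  | succ n ih => rw [pow_succ, pow_succ]; exact ih.mul h

theorem gam_gam (s u s' u' : K) (σ σ' : K ≃+* K) (x : U5 K) :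
    gam s u σ (gam s' u' σ' x) = gam (s * σ s') (u * σ u') (σ'.trans σ) x := by
  ext <;> simp only [gam, map_mul, star_mul', star_aut, RingEquiv.trans_apply] <;> ring

theorem gam_one (x : U5 K) : gam 1 1 (RingEquiv.refl K) x = x := by ext <;> simp [gam]

/-- the determinant of `DD 1 s u` -/
def dl (s u : K) : K := s * u ^ 2 / (star s * star u ^ 2)

variable [HF K] {p : ℕ} [Fact p.Prime] [CharP K p] {F : FusionSystem (⊤ : Subgroup (U5 K))}

variable (F) in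
/-- the realizing group -/
def HH : Subgroup (Perm (Fin 5 → K)) := H5.Cl.sgOf
  { carrier := {g | ∃ M σ s u, Rp g M σ ∧ Un M ∧ s ≠ 0 ∧ u ≠ 0 ∧ F.IsMap ⊤ (gam s u σ) ∧ M.det = dl s u}
    one_mem' := ⟨1, RingEquiv.refl K, 1, 1, fun v => (one_mulVec v).symm, un_one, one_ne_zero, one_ne_zero,
      (F.isMap_cj le_rfl (one_mem _)).congr fun x _ => by simp [gam_one, cj_apply], by simp [dl]⟩
    mul_mem' := fun ⟨M, σ, s, u, h1, h2, h3, h4, h5, h6⟩ ⟨M', σ', s', u', k1, k2, k3, k4, k5, k6⟩ =>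
      ⟨_, _, s * σ s', u * σ u', h1.mul k1, h2.mul (k2.map σ), by simp [*], by simp [*],
        (k5.comp h5 fun _ _ => trivial).congr fun x _ => (gam_gam ..).symm, by
          rw [det_mul, h6, show M'.map σ = (σ : K →+* K).mapMatrix M' from rfl, ← RingHom.map_det, k6]
          simp only [dl, RingHom.coe_coe, map_div₀, map_mul, map_pow, star_mul', star_aut]
          ring⟩ }

theorem mem_HH {g : Perm (Fin 5 → K)} {M : M5 K} (h : Rp g M (RingEquiv.refl K)) (hu : Un M) (hd : M.det = 1) :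
    g ∈ HH F := ⟨M, _, 1, 1, h, hu, one_ne_zero, one_ne_zero,
      (F.isMap_cj le_rfl (one_mem _)).congr fun x _ => by simp [gam_one, cj_apply], by simp [dl, hd]⟩

theorem norm_HH (hT1 : ∀ t : K, t ≠ 0 → F.IsMap ⊤ (gam t⁻¹ (t ^ 2 / star t) 1))
    (hT2 : ∀ t : K, t ≠ 0 → F.IsMap ⊤ (gam (t ^ 2) t⁻¹ 1)) {g : Perm (Fin 5 → K)} (hg : g ∈ HH F)
    (h : ∀ y, ∃ x, emb y * g = g * emb x) : ∃ M σ s u w, Rp g M σ ∧ Un M ∧ Tri M ∧ s ≠ 0 ∧ u ≠ 0 ∧
      F.IsMap ⊤ (gam s u σ) ∧ ∀ x, emb (w * gam s u σ x * w⁻¹) * g = g * emb x := by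
  obtain ⟨M, σ, s', u', h1, h2, h3, h4, h5, h6⟩ := hg
  have ht : Tri M := tri_of_norm fun y => (h y).imp fun _ => h1.conj.1
  obtain ⟨m, s, u, w, k1, k2, k3, rfl⟩ := exists_dec ht h2
  refine ⟨_, σ, s, u, w, h1, h2, ht, k2, k3, ?_, fun x => h1.conj.2 ?_⟩
  · have hm := left_ne_zero_of_mul_eq_one k1
    have hm' : star m = m⁻¹ := eq_inv_of_mul_eq_one_right k1
    have a1 := star_ne_zero.2 k2
    have a2 := star_ne_zero.2 k3
    have a3 := star_ne_zero.2 h3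
    have a4 := star_ne_zero.2 h4
    rw [det_mul, det_mat, det_DD, one_mul, dl] at h6
    refine ((h5.comp (hT2 (m * (s / s') * (u / u')) (by simp [*])) fun _ _ => trivial).comp
      (hT1 (m ^ 2 * (s / s') * (u / u') ^ 2) (by simp [*])) fun _ _ => trivial).congr fun x _ => ?_
    simp only [Function.comp, gam_gam, RingAut.one_eq_refl, RingEquiv.refl_apply, star_mul',
      star_pow, star_div₀, hm']
    change gam s u σ x = gam _ _ σ x
    congr 1
    · field_simp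
    · field_simp at h6 ⊢
      linear_combination -h6
  · rw [mul_assoc (mat w), DD_mat m k2 k3, ← mul_assoc, ← mul_assoc, ← mat_mul, ← mat_mul, inv_mul_cancel_right]

end Rz

open Rz

variable {K : Type u} [Field K] [StarRing K] [Finite K] [HF K] {p : ℕ} [Fact p.Prime] [CharP K p]
  {F : FusionSystem (⊤ : Subgroup (U5 K))}

theorem real_std (h : Std p F) (hT1 : ∀ t : K, t ≠ 0 → F.IsMap ⊤ (gam t⁻¹ (t ^ 2 / star t) 1))
    (hT2 : ∀ t : K, t ≠ 0 → F.IsMap ⊤ (gam (t ^ 2) t⁻¹ 1)) :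
    ∃ F' : FusionSystem (⊤ : Subgroup (U5 K)), Std p F' ∧ F'.IsRealizable p ∧ ∀ α, F'.Iso ⊤ ⊤ α ↔ F.Iso ⊤ ⊤ α := by
  have cj' : ∀ {f : U5 K → U5 K} (w : U5 K), F.IsMap ⊤ f → F.IsMap ⊤ fun x => w * f x * w⁻¹ := fun w hf =>
    hf.comp (F.isMap_cj le_rfl (Subgroup.mem_top w)) fun _ _ => trivial
  obtain ⟨F', f1, f2, f3⟩ := exists_fus (p := p) emb emb_inj ((topP (K := K) p).of_equiv Subgroup.topEquiv) (HH F)
    (fun x => mem_HH (rp_emb x) (un_mat x) (det_mat x)) fun g hg hn ⟨k, hk⟩ => by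
      obtain ⟨M, σ, s, u, w, h1, h2, h3, h4, h5, h6, h7⟩ := norm_HH hT1 hT2 hg hn
      obtain ⟨α, a1, a2⟩ := (cj' w h6).exists_perm
      have a3 : ∀ (n : ℕ) x, emb ((α ^ n) x) * g ^ n = g ^ n * emb x := fun n => by
        induction n with
        | zero => simp
        | succ n ih =>
          intro x
          rw [pow_succ, Perm.mul_apply, pow_succ, ← mul_assoc, ih, mul_assoc, a2 x trivial, h7, mul_assoc]
      obtain ⟨v, -, hv⟩ := mem_innS_self.1 (h.sat.mem_innS_top (topP p) (a1.iso_self fun _ _ => trivial) (k := k)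
        fun x _ => emb_inj (by simpa [hk] using a3 (p ^ k) x))
      have a4 : ∀ t, s * σ t = t := fun t => by
        simpa [gam, xa] using congrArg U5.a ((a2 (xa t) trivial).symm.trans (hv _ trivial))
      obtain rfl : s = 1 := by simpa using a4 1
      obtain rfl : σ = RingEquiv.refl K := RingEquiv.ext fun t => by simpa using a4 t
      obtain ⟨x, rfl⟩ := exists_of_pow (p := p) h3 h2 (k := k) ((h1.pow _).uniq (σ' := RingEquiv.refl K) fun v => by
        rw [hk, one_mulVec]; rfl)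
      exact ⟨x, Equiv.ext fun v => (h1 v).symm⟩
  have key : ∀ α, F'.Iso ⊤ ⊤ α → ∃ g s u σ, s ≠ 0 ∧ u ≠ 0 ∧ F.IsMap ⊤ (gam s u σ) ∧
      ∀ x, α x = g * gam s u σ x * g⁻¹ := fun α hα => by
    obtain ⟨g, hg, e⟩ := (f3 _ _).1 hα.isMap
    obtain ⟨M, σ, s, u, w, -, -, -, h4, h5, h6, h7⟩ := norm_HH hT1 hT2 hg fun y =>
      ⟨α⁻¹ y, by simpa using e (α⁻¹ y) trivial⟩
    exact ⟨w, s, u, σ, h4, h5, h6, fun x => emb_inj (mul_right_cancel ((e x trivial).trans (h7 x).symm))⟩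
  refine ⟨F', ⟨f1, ?_, ?_, fun α hα => ?_⟩, f2, fun α => ⟨fun hα => ?_, fun hα => ?_⟩⟩
  · obtain ⟨g, hg⟩ := exists_rp (det_N1 (K := K) ▸ one_ne_zero) (RingEquiv.refl K)
    obtain ⟨τ, t1, t2⟩ := ((f3 (sQ1 K) w1).2 ⟨g, mem_HH hg un_N1 det_N1, fun x hx =>
      hg.conj.2 (N1_mat hx).symm⟩).exists_perm
    refine ⟨τ, t1.iso_self fun x hx => t2 x hx ▸ ⟨rfl, rfl⟩, xd 1, ⟨rfl, rfl, rfl, rfl⟩, fun e => ?_⟩
    rw [t2 _ ⟨rfl, rfl⟩] at e
    exact one_ne_zero e.1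
  · obtain ⟨g, hg⟩ := exists_rp (det_N2 (K := K) ▸ one_ne_zero) (RingEquiv.refl K)
    obtain ⟨τ, t1, t2⟩ := ((f3 (sQ2 K) w2).2 ⟨g, mem_HH hg un_N2 det_N2, fun x hx =>
      hg.conj.2 (N2_mat hx).symm⟩).exists_perm
    obtain ⟨x, x1, x2, x3, -⟩ := exists_el (0 : K) 0 1 0
    refine ⟨τ, t1.iso_self fun x hx => t2 x hx ▸ rfl, x, ⟨x1, x2⟩, fun e => ?_⟩
    rw [t2 _ x1] at e
    exact one_ne_zero (x3 ▸ neg_eq_zero.1 e.2)
  · obtain ⟨g, s, u, σ, h1, h2, -, h3⟩ := key α hα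
    exact ⟨g, s, u, σ, h1, h2, h3⟩
  · obtain ⟨g, s, u, σ, -, -, h2, h3⟩ := key α hα
    exact ((cj' g h2).congr fun x _ => h3 x).iso_self fun _ _ => trivial
  · obtain ⟨w, s, u, σ, h1, h2, h3⟩ := h.aut α hα
    have hd : (mat w * DD 1 s u).det = dl s u := by rw [det_mul, det_mat, det_DD, one_mul, one_pow, one_mul, dl]
    obtain ⟨g, hg⟩ := exists_rp (M := mat w * DD 1 s u) (by simp [hd, dl, h1, h2]) σ
    refine ((f3 _ _).2 ⟨g, ⟨_, σ, s, u, hg, (un_mat w).mul (un_DD (by simp) h1 h2), h1, h2,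
      (cj' w⁻¹ hα.isMap).congr fun x _ => by rw [h3]; group, hd⟩, fun x _ => hg.conj.2 ?_⟩).iso_self fun _ _ => trivial
    rw [h3, mul_assoc (mat w), DD_mat 1 h1 h2, ← mul_assoc, ← mul_assoc, ← mat_mul, ← mat_mul, inv_mul_cancel_right]

end Cfsg.Agent.Uf
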