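import Mathlib

/-! The unipotent subgroup of `SU₅(q)` in coordinates (antidiagonal hermitian form). -/

set_option autoImplicit false
set_option linter.unusedSectionVars false
set_option linter.style.haveILetI false

namespace Cfsg.Agent.Uf

/-- A field with a non-trivial involution whose norm map is onto the fixed field. -/
class HF (K : Type*) [Field K] [StarRing K] : Prop where
  ne : ∃ x : K, star x ≠ x
  nrm : ∀ t : K, star t = t → ∃ b : K, b * star b = t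

/-- Rows `(1,a,c,d,z)`, `(0,1,b,y,*)`, `(0,0,1,-b̄,*)`, `(0,0,0,1,-ā)`, `(0,0,0,0,1)`. -/
@[ext] structure U5 (K : Type*) [Field K] [StarRing K] where
  a : K
  b : K
  c : K
  d : K
  y : K
  z : K
  hy : star y = -y - b * star b
  hz : star z = -z - a * star d - star a * d - c * star c

namespace U5

variable {K : Type*} [Field K] [StarRing K]

instance instMul : Mul (U5 K) := ⟨fun x w => ⟨x.a + w.a, x.b + w.b, x.c + w.c + x.a * w.b,
  x.d + w.d + x.a * w.y - x.c * star w.b, x.y + w.y - x.b * star w.b,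
  x.z + w.z - x.a * (star w.a * w.y + star w.c * w.b + star w.d) +
    x.c * (star w.a * star w.b - star w.c) - x.d * star w.a,
  by simp only [star_add, star_sub, star_mul', star_star, x.hy, w.hy]; ring,
  by simp only [star_add, star_sub, star_mul', star_star, x.hy, w.hy, x.hz, w.hz]; ring⟩⟩
instance instOne : One (U5 K) := ⟨⟨0, 0, 0, 0, 0, 0, by simp, by simp⟩⟩
instance instInv : Inv (U5 K) := ⟨fun x => ⟨-x.a, -x.b, x.a * x.b - x.c,
  -x.d + x.a * x.y + x.a * x.b * star x.b - x.c * star x.b, -x.y - x.b * star x.b,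
  -x.z - x.a * star x.d - star x.a * x.d - x.c * star x.c,
  by simp only [star_neg, star_sub, star_mul', star_star, x.hy]; ring,
  by simp only [star_add, star_neg, star_sub, star_mul', star_star, x.hy, x.hz]; ring⟩⟩

@[simp] theorem mul_a (x w : U5 K) : (x * w).a = x.a + w.a := rfl
@[simp] theorem mul_b (x w : U5 K) : (x * w).b = x.b + w.b := rfl
@[simp] theorem mul_c (x w : U5 K) : (x * w).c = x.c + w.c + x.a * w.b := rfl
@[simp] theorem mul_d (x w : U5 K) : (x * w).d = x.d + w.d + x.a * w.y - x.c * star w.b := rfl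
@[simp] theorem mul_y (x w : U5 K) : (x * w).y = x.y + w.y - x.b * star w.b := rfl
@[simp] theorem mul_z (x w : U5 K) : (x * w).z = x.z + w.z -
    x.a * (star w.a * w.y + star w.c * w.b + star w.d) +
    x.c * (star w.a * star w.b - star w.c) - x.d * star w.a := rfl
@[simp] theorem one_a : (1 : U5 K).a = 0 := rfl
@[simp] theorem one_b : (1 : U5 K).b = 0 := rfl
@[simp] theorem one_c : (1 : U5 K).c = 0 := rfl
@[simp] theorem one_d : (1 : U5 K).d = 0 := rfl
@[simp] theorem one_y : (1 : U5 K).y = 0 := rfl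
@[simp] theorem one_z : (1 : U5 K).z = 0 := rfl
@[simp] theorem inv_a (x : U5 K) : x⁻¹.a = -x.a := rfl
@[simp] theorem inv_b (x : U5 K) : x⁻¹.b = -x.b := rfl
@[simp] theorem inv_c (x : U5 K) : x⁻¹.c = x.a * x.b - x.c := rfl
@[simp] theorem inv_d (x : U5 K) :
    x⁻¹.d = -x.d + x.a * x.y + x.a * x.b * star x.b - x.c * star x.b := rfl
@[simp] theorem inv_y (x : U5 K) : x⁻¹.y = -x.y - x.b * star x.b := rfl
@[simp] theorem inv_z (x : U5 K) :
    x⁻¹.z = -x.z - x.a * star x.d - star x.a * x.d - x.c * star x.c := rfl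

instance instGroup : Group (U5 K) := Group.ofLeftAxioms
  (fun x y z => by ext <;> simp [U5.hy, -mul_eq_mul_left_iff, -mul_eq_mul_right_iff] <;> ring)
  (fun x => by ext <;> simp)
  (fun x => by ext <;> simp [U5.hy, U5.hz, -mul_eq_mul_left_iff, -mul_eq_mul_right_iff] <;> ring)

theorem coord_inj : Function.Injective fun x : U5 K => (x.a, x.b, x.c, x.d, x.y, x.z) :=
  fun x w h => by
    simp only [Prod.mk.injEq] at h
    exact U5.ext h.1 h.2.1 h.2.2.1 h.2.2.2.1 h.2.2.2.2.1 h.2.2.2.2.2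

instance instFinite [Finite K] : Finite (U5 K) := Finite.of_injective _ coord_inj

theorem comm_iff {x w : U5 K} : x * w = w * x ↔ x.a * w.b = w.a * x.b ∧
    x.b * star w.b = w.b * star x.b ∧
    x.a * w.y - x.c * star w.b = w.a * x.y - w.c * star x.b ∧
    -x.a * (star w.a * w.y + star w.c * w.b + star w.d) +
      x.c * (star w.a * star w.b - star w.c) - x.d * star w.a =
    -w.a * (star x.a * x.y + star x.c * x.b + star x.d) +
      w.c * (star x.a * star x.b - star x.c) - w.d * star x.a := by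
  refine ⟨fun h => ⟨?_, ?_, ?_, ?_⟩, fun h => ?_⟩
  · have := congrArg U5.c h
    simp only [mul_c] at this; linear_combination this
  · have := congrArg U5.y h
    simp only [mul_y] at this; linear_combination -this
  · have := congrArg U5.d h
    simp only [mul_d] at this; linear_combination this
  · have := congrArg U5.z h
    simp only [mul_z] at this; linear_combination this
  · ext <;> simp only [mul_a, mul_b, mul_c, mul_d, mul_y, mul_z]
    · ring
    · ring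
    · linear_combination h.1
    · linear_combination h.2.2.1
    · linear_combination -h.2.1
    · linear_combination h.2.2.2

end U5

open U5

variable {K : Type*} [Field K] [StarRing K]

/-- The commutator used in the chain lemmas. -/
def cm (g x : U5 K) : U5 K := x⁻¹ * (g * x * g⁻¹)

theorem cm_def (g x : U5 K) : x⁻¹ * (g * x * g⁻¹) = cm g x := rfl
theorem cj_eq (g x : U5 K) : g * x * g⁻¹ = x * cm g x := by simp [cm]
theorem cm_eq_one {g x : U5 K} : cm g x = 1 ↔ g * x = x * g := by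
  rw [cm, inv_mul_eq_one, eq_mul_inv_iff_mul_eq, eq_comm]

@[simp] theorem cm_a (g x : U5 K) : (cm g x).a = 0 := by simp [cm]
@[simp] theorem cm_b (g x : U5 K) : (cm g x).b = 0 := by simp [cm]
theorem cm_c (g x : U5 K) : (cm g x).c = g.a * x.b - x.a * g.b := by
  simp [cm, U5.hy, U5.hz]; ring
theorem cm_y (g x : U5 K) : (cm g x).y = x.b * star g.b - g.b * star x.b := by
  simp [cm, U5.hy, U5.hz]; ring
theorem cm_d (g x : U5 K) : (cm g x).d = g.a * x.y - g.c * star x.b - x.a * g.y + x.c * star g.b +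
    (g.a * x.b - x.a * g.b) * star g.b - x.a * (x.b * star g.b - g.b * star x.b) := by
  simp [cm, U5.hy, U5.hz]; ring
/-- The last coordinate, for `g` with `a = b = 0`. -/
theorem cm_z_phi {g : U5 K} (ha : g.a = 0) (hb : g.b = 0) (x : U5 K) : (cm g x).z =
    x.a * star g.d - star x.a * g.d + x.c * star g.c - star x.c * g.c +
      star x.a * star x.b * g.c - x.a * x.b * star g.c + x.a * star x.a * g.y := by
  simp [cm, U5.hy, U5.hz, ha, hb]; ring
/-- The last coordinate, for `g`, `x` with `b = 0`. -/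
theorem cm_z_s1 {g x : U5 K} (hg : g.b = 0) (hx : x.b = 0) : (cm g x).z =
    x.a * star g.d - star x.a * g.d + x.c * star g.c - star x.c * g.c +
      star g.a * x.d - g.a * star x.d + x.a * star x.a * g.y + g.a * star g.a * x.y -
      (x.a * star g.a + g.a * star x.a) * x.y := by
  simp [cm, U5.hy, U5.hz, hg, hx]; ring

/-- `Z(S)`. -/
def sZ (K : Type*) [Field K] [StarRing K] : Subgroup (U5 K) where
  carrier := {x | x.a = 0 ∧ x.b = 0 ∧ x.c = 0 ∧ x.d = 0 ∧ x.y = 0}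
  one_mem' := by simp
  mul_mem' := by rintro x w ⟨a, b, c, d, y⟩ ⟨a', b', c', d', y'⟩; simp [*]
  inv_mem' := by rintro x ⟨a, b, c, d, y⟩; simp [*]
/-- `Z₂(S)`. -/
def sZ2 (K : Type*) [Field K] [StarRing K] : Subgroup (U5 K) where
  carrier := {x | x.a = 0 ∧ x.b = 0 ∧ x.c = 0 ∧ x.y = 0}
  one_mem' := by simp
  mul_mem' := by rintro x w ⟨a, b, c, y⟩ ⟨a', b', c', y'⟩; simp [*]
  inv_mem' := by rintro x ⟨a, b, c, y⟩; simp [*]
/-- `Y = Z(Q₂)`. -/
def sY (K : Type*) [Field K] [StarRing K] : Subgroup (U5 K) where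
  carrier := {x | x.a = 0 ∧ x.b = 0 ∧ x.c = 0}
  one_mem' := by simp
  mul_mem' := by rintro x w ⟨a, b, c⟩ ⟨a', b', c'⟩; simp [*]
  inv_mem' := by rintro x ⟨a, b, c⟩; simp [*]
/-- `C = Q₁ ∩ Q₂`. -/
def sC (K : Type*) [Field K] [StarRing K] : Subgroup (U5 K) where
  carrier := {x | x.a = 0 ∧ x.b = 0 ∧ x.y = 0}
  one_mem' := by simp
  mul_mem' := by rintro x w ⟨a, b, c⟩ ⟨a', b', c'⟩; simp [*]
  inv_mem' := by rintro x ⟨a, b, c⟩; simp [*]
/-- `Φ = S' = Z₃(S)`. -/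
def sP (K : Type*) [Field K] [StarRing K] : Subgroup (U5 K) where
  carrier := {x | x.a = 0 ∧ x.b = 0}
  one_mem' := by simp
  mul_mem' := by rintro x w ⟨a, b⟩ ⟨a', b'⟩; simp [*]
  inv_mem' := by rintro x ⟨a, b⟩; simp [*]
/-- `Q₁ = q^{1+6}`. -/
def sQ1 (K : Type*) [Field K] [StarRing K] : Subgroup (U5 K) where
  carrier := {x | x.b = 0 ∧ x.y = 0}
  one_mem' := by simp
  mul_mem' := by rintro x w ⟨a, b⟩ ⟨a', b'⟩; simp [*]
  inv_mem' := by rintro x ⟨a, b⟩; simp [*]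
/-- `Q₂ = q^{4+4}`. -/
def sQ2 (K : Type*) [Field K] [StarRing K] : Subgroup (U5 K) where
  carrier := {x | x.a = 0}
  one_mem' := by simp
  mul_mem' := by intro x w (a : _ = _) (a' : _ = _); simp [*]
  inv_mem' := by intro x (a : _ = _); simp [*]
/-- `S₁ = Q₁ Y`. -/
def sS1 (K : Type*) [Field K] [StarRing K] : Subgroup (U5 K) where
  carrier := {x | x.b = 0}
  one_mem' := by simp
  mul_mem' := by intro x w (a : _ = _) (a' : _ = _); simp [*]
  inv_mem' := by intro x (a : _ = _); simp [*]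

theorem mem_sZ {x : U5 K} : x ∈ sZ K ↔ x.a = 0 ∧ x.b = 0 ∧ x.c = 0 ∧ x.d = 0 ∧ x.y = 0 := Iff.rfl
theorem mem_sZ2 {x : U5 K} : x ∈ sZ2 K ↔ x.a = 0 ∧ x.b = 0 ∧ x.c = 0 ∧ x.y = 0 := Iff.rfl
theorem mem_sY {x : U5 K} : x ∈ sY K ↔ x.a = 0 ∧ x.b = 0 ∧ x.c = 0 := Iff.rfl
theorem mem_sC {x : U5 K} : x ∈ sC K ↔ x.a = 0 ∧ x.b = 0 ∧ x.y = 0 := Iff.rfl
theorem mem_sP {x : U5 K} : x ∈ sP K ↔ x.a = 0 ∧ x.b = 0 := Iff.rfl
theorem mem_sQ1 {x : U5 K} : x ∈ sQ1 K ↔ x.b = 0 ∧ x.y = 0 := Iff.rfl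
theorem mem_sQ2 {x : U5 K} : x ∈ sQ2 K ↔ x.a = 0 := Iff.rfl
theorem mem_sS1 {x : U5 K} : x ∈ sS1 K ↔ x.b = 0 := Iff.rfl

theorem cm_sP (g x : U5 K) : cm g x ∈ sP K := ⟨cm_a g x, cm_b g x⟩
theorem cm_sZ2 {g : U5 K} (hg : g ∈ sP K) (x : U5 K) : cm g x ∈ sZ2 K :=
  ⟨cm_a g x, cm_b g x, by simp [cm_c, hg.1, hg.2], by simp [cm_y, hg.2]⟩
theorem cm_sZ2' (g : U5 K) {x : U5 K} (hx : x ∈ sP K) : cm g x ∈ sZ2 K :=
  ⟨cm_a g x, cm_b g x, by simp [cm_c, hx.1, hx.2], by simp [cm_y, hx.2]⟩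
theorem cm_sZ {g : U5 K} (hg : g ∈ sZ2 K) (x : U5 K) : cm g x ∈ sZ K :=
  ⟨cm_a g x, cm_b g x, by simp [cm_c, hg.1, hg.2.1], by simp [cm_d, hg.1, hg.2.1, hg.2.2.1, hg.2.2.2],
    by simp [cm_y, hg.2.1]⟩
theorem cm_sZ' (g : U5 K) {x : U5 K} (hx : x ∈ sZ2 K) : cm g x ∈ sZ K :=
  ⟨cm_a g x, cm_b g x, by simp [cm_c, hx.1, hx.2.1], by simp [cm_d, hx.1, hx.2.1, hx.2.2.1, hx.2.2.2],
    by simp [cm_y, hx.2.1]⟩
theorem comm_sZ (g : U5 K) {x : U5 K} (hx : x ∈ sZ K) : g * x = x * g := by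
  obtain ⟨a, b, c, d, y⟩ := hx
  simp [comm_iff, *]
theorem comm_sY {g x : U5 K} (hg : g ∈ sQ2 K) (hx : x ∈ sY K) : g * x = x * g := by
  obtain ⟨a, b, c⟩ := hx
  simp [comm_iff, mem_sQ2.1 hg, *]
theorem cm_sY {g x : U5 K} (hg : g ∈ sQ2 K) (hx : x ∈ sQ2 K) : cm g x ∈ sY K :=
  ⟨cm_a g x, cm_b g x, by simp [cm_c, mem_sQ2.1 hg, mem_sQ2.1 hx]⟩
theorem cm_sQ1 {g x : U5 K} (hg : g ∈ sQ1 K) (hx : x ∈ sQ1 K) : cm g x ∈ sZ K :=
  ⟨cm_a g x, cm_b g x, by simp [cm_c, hg.1, hx.1], by simp [cm_d, hg.1, hg.2, hx.1, hx.2],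
    by simp [cm_y, hg.1, hx.1]⟩
theorem cm_sPP {g x : U5 K} (hg : g ∈ sP K) (hx : x ∈ sP K) : cm g x ∈ sZ K :=
  ⟨cm_a g x, cm_b g x, by simp [cm_c, hg.1, hx.1], by simp [cm_d, hg.1, hg.2, hx.1, hx.2],
    by simp [cm_y, hg.2, hx.2]⟩

/-- An element of `Z(S)`. -/
def xz (t : K) (h : star t = -t) : U5 K := ⟨0, 0, 0, 0, 0, t, by simp, by simp [h]⟩
/-- The root element `x_d`. -/
def xd (t : K) : U5 K := ⟨0, 0, 0, t, 0, 0, by simp, by simp⟩
/-- The root element `x_a`. -/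
def xa (t : K) : U5 K := ⟨t, 0, 0, 0, 0, 0, by simp, by simp⟩
/-- The root element `x_y`. -/
def xy (t : K) (h : star t = -t) : U5 K := ⟨0, 0, 0, 0, t, 0, by simp [h], by simp⟩

variable [HF K]

theorem exists_skew : ∃ θ : K, θ ≠ 0 ∧ star θ = -θ := by
  obtain ⟨x, hx⟩ := HF.ne (K := K)
  exact ⟨x - star x, sub_ne_zero.2 hx.symm, by simp⟩

theorem exists_tr {t : K} (ht : star t = t) : ∃ y : K, star y = -y - t := by
  obtain ⟨x, hx⟩ := HF.ne (K := K)
  have h : x - star x ≠ 0 := sub_ne_zero.2 hx.symm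
  have h' : star x - x ≠ 0 := sub_ne_zero.2 hx
  refine ⟨-t * x / (x - star x), ?_⟩
  rw [star_div₀]
  simp only [star_mul', star_neg, star_sub, star_star, ht]
  field_simp
  ring

/-- Elements with prescribed coordinates. -/
theorem exists_el (a b c d : K) : ∃ x : U5 K, x.a = a ∧ x.b = b ∧ x.c = c ∧ x.d = d := by
  obtain ⟨y, hy⟩ := exists_tr (t := b * star b) (by simp [mul_comm])
  obtain ⟨z, hz⟩ := exists_tr (t := a * star d + star a * d + c * star c) (by simp; ring)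
  exact ⟨⟨a, b, c, d, y, z, hy, by rw [hz]; ring⟩, rfl, rfl, rfl, rfl⟩

theorem exists_el' (a b c d y : K) (hy : star y = -y - b * star b) :
    ∃ x : U5 K, x.a = a ∧ x.b = b ∧ x.c = c ∧ x.d = d ∧ x.y = y := by
  obtain ⟨z, hz⟩ := exists_tr (t := a * star d + star a * d + c * star c) (by simp; ring)
  exact ⟨⟨a, b, c, d, y, z, hy, by rw [hz]; ring⟩, rfl, rfl, rfl, rfl, rfl⟩

/-- Every skew element is `a d̄ - ā d`. -/
theorem exists_sk {a t : K} (ha : a ≠ 0) (ht : star t = -t) : ∃ d, a * star d - star a * d = t := by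
  obtain ⟨θ, h0, h⟩ := exists_skew (K := K)
  obtain ⟨y, hy⟩ := exists_tr (t := t / θ) (by rw [star_div₀, ht, h, neg_div_neg_eq])
  have ha' : star a ≠ 0 := star_ne_zero.2 ha
  refine ⟨θ * y / star a, ?_⟩
  rw [star_div₀, star_star, star_mul', h, hy]
  field_simp
  ring

end Cfsg.Agent.Uf
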