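import Cfsg.Agent.U5.A
import Cfsg.Agent.H4.Sp4S
import Cfsg.Agent.H6.Basic

/-! Cardinalities, standard automorphisms and general lemmas for `U5 K`. -/

set_option autoImplicit false
set_option linter.unusedSectionVars false
set_option linter.style.haveILetI false

open Equiv

namespace Cfsg.Agent.Uf

open Cfsg.Fus Cfsg.FusionSystem U5

variable {K : Type*} [Field K] [StarRing K]

/-- `q`, the order of the fixed field. -/
noncomputable def qq (K : Type*) [Field K] [StarRing K] : ℕ := Nat.card (selfAdjoint K)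

section Card
variable [Finite K] [HF K]

theorem card_skew : Nat.card (skewAdjoint K) = qq K := by
  obtain ⟨θ, h0, h⟩ := exists_skew (K := K)
  exact (Nat.card_congr ⟨fun x : selfAdjoint K => (⟨θ * x.1, by
      rw [skewAdjoint.mem_iff, star_mul', h, selfAdjoint.mem_iff.1 x.2, neg_mul]⟩ : skewAdjoint K),
    fun x => ⟨x.1 / θ, by
      rw [selfAdjoint.mem_iff, star_div₀, h, skewAdjoint.mem_iff.1 x.2, neg_div_neg_eq]⟩,
    fun x => Subtype.ext (mul_div_cancel_left₀ _ h0),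
    fun x => Subtype.ext (mul_div_cancel₀ _ h0)⟩).symm

theorem card_K : Nat.card K = qq K ^ 2 := by
  let f : K →+ selfAdjoint K := AddMonoidHom.mk' (fun x => ⟨x + star x, by
    rw [selfAdjoint.mem_iff, star_add, star_star, add_comm]⟩) fun x y => Subtype.ext (by
      simp only [star_add, AddSubgroup.coe_add]; ring)
  have h1 : Function.Surjective f := fun t => by
    obtain ⟨y, hy⟩ := exists_tr (t := -t.1) (by rw [star_neg, selfAdjoint.mem_iff.1 t.2])
    exact ⟨y, Subtype.ext (by change y + star y = _; rw [hy]; ring)⟩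
  have h2 : f.ker = skewAdjoint K := by
    ext x
    rw [AddMonoidHom.mem_ker, skewAdjoint.mem_iff, Subtype.ext_iff]
    exact ⟨fun h : x + star x = 0 => by linear_combination h,
      fun h => show x + star x = 0 by rw [h, add_neg_cancel]⟩
  rw [f.ker.card_eq_card_quotient_mul_card_addSubgroup,
    Nat.card_congr (QuotientAddGroup.quotientKerEquivOfSurjective f h1).toEquiv, h2, card_skew, sq]
  rfl

theorem one_lt_qq : 1 < qq K := by
  have h := Finite.one_lt_card (α := K)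
  rw [card_K] at h
  by_contra h1
  have : qq K = 0 ∨ qq K = 1 := by omega
  rcases this with e | e <;> simp [e] at h

theorem card_tr {t : K} (ht : star t = t) : Nat.card {y : K // star y = -y - t} = qq K := by
  obtain ⟨y, hy⟩ := exists_tr ht
  rw [← card_skew]
  exact Nat.card_congr ⟨fun x => ⟨x.1 - y, by rw [skewAdjoint.mem_iff, star_sub, x.2, hy]; ring⟩,
    fun x => ⟨x.1 + y, by rw [star_add, skewAdjoint.mem_iff.1 x.2, hy]; ring⟩,
    fun x => by simp, fun x => by simp⟩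

theorem card_U5 : Nat.card (U5 K) = qq K ^ 10 := by
  let e : U5 K ≃ Σ v : K × K × K × K, {y : K // star y = -y - v.2.1 * star v.2.1} ×
      {z : K // star z = -z - (v.1 * star v.2.2.2 + star v.1 * v.2.2.2 + v.2.2.1 * star v.2.2.1)} :=
    ⟨fun x => ⟨(x.a, x.b, x.c, x.d), ⟨x.y, x.hy⟩, ⟨x.z, by rw [x.hz]; ring⟩⟩,
      fun v => ⟨v.1.1, v.1.2.1, v.1.2.2.1, v.1.2.2.2, v.2.1.1, v.2.2.1, v.2.1.2,
        by rw [v.2.2.2]; ring⟩, fun _ => rfl, fun _ => rfl⟩
  haveI := Fintype.ofFinite K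
  rw [Nat.card_congr e, Nat.card_sigma, Finset.sum_congr rfl (g := fun _ => qq K * qq K)
    fun v _ => by rw [Nat.card_prod, card_tr (by simp [mul_comm]), card_tr (by simp; ring)]]
  simp only [Finset.sum_const, Finset.card_univ, ← Nat.card_eq_fintype_card, Nat.card_prod,
    card_K, smul_eq_mul]
  ring

theorem exists_qq (p : ℕ) [hp : Fact p.Prime] [CharP K p] : ∃ n, qq K = p ^ n := by
  haveI := Fintype.ofFinite K
  obtain ⟨n, -, hn⟩ := FiniteField.card K p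
  rw [← Nat.card_eq_fintype_card, card_K] at hn
  obtain ⟨k, -, hk⟩ := (Nat.dvd_prime_pow hp.out).1 (hn ▸ dvd_pow_self (qq K) two_ne_zero)
  exact ⟨k, hk⟩

theorem topP (p : ℕ) [Fact p.Prime] [CharP K p] : IsPGroup p (⊤ : Subgroup (U5 K)) := by
  obtain ⟨n, hn⟩ := exists_qq (K := K) p
  exact (IsPGroup.of_card (n := n * 10) (by rw [card_U5, hn, pow_mul])).to_subgroup ⊤

end Card

theorem aut_comm [Finite K] (σ τ : K ≃+* K) (x : K) : σ (τ x) = τ (σ x) := by
  haveI := Fintype.ofFinite K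
  obtain ⟨p, _⟩ := CharP.exists K
  obtain ⟨-, hp, -⟩ := FiniteField.card K p
  haveI := Fact.mk hp
  letI := ZMod.algebra K p
  have e : ∀ σ : K ≃+* K, ∃ a : K ≃ₐ[ZMod p] K, ∀ x, a x = σ x := fun σ =>
    ⟨AlgEquiv.ofRingEquiv (f := σ) fun x => by
      obtain ⟨n, rfl⟩ := ZMod.natCast_zmod_surjective x
      simp, fun _ => rfl⟩
  obtain ⟨a, ha⟩ := e σ
  obtain ⟨b, hb⟩ := e τ
  rw [← hb, ← ha, ← ha, ← hb, ← AlgEquiv.mul_apply, IsCyclic.commGroup.mul_comm a b]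
  rfl

theorem star_aut [Finite K] (σ : K ≃+* K) (x : K) : star (σ x) = σ (star x) :=
  aut_comm (starRingAut : K ≃+* K) σ x

/-- Diagonal-field automorphisms (for `s u ≠ 0`): `diag(s u, u, 1, ..)` after `σ`. -/
def gam [Finite K] (s u : K) (σ : K ≃+* K) (x : U5 K) : U5 K :=
  ⟨s * σ x.a, u * σ x.b, s * u * σ x.c, s * u * star u * σ x.d, u * star u * σ x.y,
    s * star s * u * star u * σ x.z,
    by simp only [star_mul', star_star, star_aut, x.hy, map_sub, map_neg, map_mul]; ring,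
    by simp only [star_mul', star_star, star_aut, x.hz, map_sub, map_neg, map_mul]; ring⟩

theorem gam_mul [Finite K] (s u : K) (σ : K ≃+* K) (x w : U5 K) :
    gam s u σ (x * w) = gam s u σ x * gam s u σ w := by
  ext <;> simp [gam, star_aut, -mul_eq_mul_left_iff, -mul_eq_mul_right_iff] <;> ring

/-- The Weyl element of the first parabolic, an automorphism of `Q₁`. -/
def w1 (x : U5 K) : U5 K := ⟨x.d, 0, -x.c, x.a, 0, x.z, by simp, by rw [x.hz]; simp; ring⟩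

/-- The Weyl element of the second parabolic, an automorphism of `Q₂`. -/
def w2 (x : U5 K) : U5 K := ⟨0, -x.c, x.b, star x.c * x.b + star x.d, x.z + x.a * star x.d, x.y,
  by simp [x.hz]; ring, by rw [x.hy]; simp⟩

/-- Standard fusion systems. -/
structure Std [Finite K] (p : ℕ) (F : FusionSystem (⊤ : Subgroup (U5 K))) : Prop where
  sat : F.IsSaturated p
  n1 : ∃ τ, F.Iso (sQ1 K) (sQ1 K) τ ∧ ∃ x ∈ sZ2 K, τ x ∉ sZ2 K
  n2 : ∃ τ, F.Iso (sQ2 K) (sQ2 K) τ ∧ ∃ x ∈ sP K, τ x ∉ sP K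
  aut : ∀ α, F.Iso ⊤ ⊤ α → ∃ g s u σ, s ≠ 0 ∧ u ≠ 0 ∧ ∀ x, α x = g * gam s u σ x * g⁻¹

/-- Weak closure lemma. -/
theorem wc {Γ : Type*} [Group Γ] [Finite Γ] {p : ℕ} [Fact p.Prime] (P : Sylow p Γ) {B : Subgroup Γ}
    (hB : B ≤ P) {σ : Γ} {n : ℕ} (hσ : σ ^ p ^ n = 1) {H : Subgroup Γ} (h1 : B ≤ H) (h2 : σ ∈ H) :
    ∃ h ∈ H, ∃ k : Γ, (∀ b ∈ B, k * b * k⁻¹ ∈ (P : Subgroup Γ)) ∧
      k * (h * σ * h⁻¹) * k⁻¹ ∈ (P : Subgroup Γ) := by
  obtain ⟨R, hR⟩ := ((P.isPGroup'.to_le hB).comap_subtype (K := H)).exists_le_sylow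
  obtain ⟨h, hh⟩ := H6.exists_conj_elt_mem_sylow (x := (⟨σ, h2⟩ : H)) (k := n)
    (Subtype.ext hσ) R
  obtain ⟨T, hT⟩ := (R.isPGroup'.map H.subtype).exists_le_sylow
  obtain ⟨k, hk⟩ := MulAction.exists_smul_eq Γ T P
  have key : ∀ x : H, x ∈ (R : Subgroup H) → k * x * k⁻¹ ∈ (P : Subgroup Γ) := fun x hx => by
    rw [← hk, Sylow.coe_subgroup_smul]
    exact Subgroup.smul_mem_pointwise_smul _ _ _ (hT ⟨x, hx, rfl⟩)
  exact ⟨h, h.2, k, fun b hb => key ⟨b, h1 hb⟩ (hR hb), key _ hh⟩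

variable [Finite K] {F : FusionSystem (⊤ : Subgroup (U5 K))} {E : Subgroup (U5 K)}

theorem norm_of_cm {g : U5 K} (h : ∀ x ∈ E, cm g x ∈ E) :
    g ∈ Subgroup.normalizer (E : Set (U5 K)) :=
  Subgroup.mem_normalizer_fintype fun x hx => by rw [cj_eq]; exact E.mul_mem hx (h x hx)

theorem cent_of_comm (h : F.IsCentric E) {g : U5 K} (hg : ∀ x ∈ E, x * g = g * x) : g ∈ E :=
  h.centralizerIn_le ⟨trivial, Subgroup.mem_centralizer_iff.2 hg⟩

theorem map_cm {τ : Perm (U5 K)} (hτ : F.Iso E E τ) {g x : U5 K} (hg : g ∈ E) (hx : x ∈ E) :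
    τ (cm g x) = cm (τ g) (τ x) := by
  rw [cm, cm, hτ.homOn (E.inv_mem hx) (E.mul_mem (E.mul_mem hg hx) (E.inv_mem hg)),
    hτ.homOn.map_conj hg hx, hτ.homOn.map_inv hx]

/-- Invariance under `Aut_F(E)`. -/
def Inv (F : FusionSystem (⊤ : Subgroup (U5 K))) (E A : Subgroup (U5 K)) : Prop :=
  ∀ τ, F.Iso E E τ → ∀ x ∈ A, τ x ∈ A

/-- A chain of length four. -/
def ch (A B C D : Subgroup (U5 K)) : ℕ → Subgroup (U5 K)
  | 0 => ⊥
  | 1 => A
  | 2 => B
  | 3 => C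
  | _ + 4 => D

variable [HF K] {p : ℕ} [Fact p.Prime] [CharP K p]

/-- The chain lemma (repeat subgroups for shorter chains). -/
theorem mem_of_chain (hE : F.IsEssential p E) {A B C : Subgroup (U5 K)} (hA : A ≤ E) (hB : B ≤ E)
    (hC : C ≤ E) (iA : Inv F E A) (iB : Inv F E B) (iC : Inv F E C) {g : U5 K}
    (h0 : ∀ x ∈ A, g * x = x * g) (h1 : ∀ x ∈ B, cm g x ∈ A) (h2 : ∀ x ∈ C, cm g x ∈ B)
    (h3 : ∀ x ∈ E, cm g x ∈ C) : g ∈ E := by
  refine hE.isCentric.mem_of_cj_mem_opStab (hE.isRadical (topP p)) trivial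
    ((F.iso_cj hE.le trivial (norm_of_cm fun x hx => hC (h3 x hx))).mem_opStab_of_chain (topP p)
    (C := ch A B C E) (n := 4) (fun i hi => ?_) rfl rfl (fun τ hτ i hi => ?_) fun i hi x hx => ?_)
  · interval_cases i
    exacts [bot_le, hA, hB, hC, le_rfl]
  · interval_cases i
    exacts [fun x hx => by rw [Subgroup.mem_bot.1 hx, hτ.homOn.map_one]; exact one_mem _,
      iA τ hτ, iB τ hτ, iC τ hτ, fun x hx => hτ.mem hx]
  · interval_cases i
    exacts [cm_eq_one.2 (h0 x hx), h1 x hx, h2 x hx, h3 x hx]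

theorem ess_ne_top (hF : F.IsSaturated p) (hE : F.IsEssential p E) : E ≠ ⊤ := by
  exact (hE.lt hF (topP p)).ne

end Cfsg.Agent.Uf
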