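import Mathlib

/-! An elementary substitute for Dickson's lemma. -/

set_option autoImplicit false

namespace Cfsg.Agent.Uf

open QuadraticAlgebra

theorem dk {F : Type*} [Field F] [Finite F] (h2 : (2 : F) ≠ 0) {ν : F}
    (X : QuadraticAlgebra F ν 0 → QuadraticAlgebra F ν 0 → QuadraticAlgebra F ν 0 →
      QuadraticAlgebra F ν 0 → Prop)
    (hm : ∀ {a b c d a' b' c' d'}, X a b c d → X a' b' c' d' →
      X (a * a' + b * c') (a * b' + b * d') (c * a' + d * c') (c * b' + d * d'))
    (hz : ∀ t : F, X 1 (algebraMap F _ t) 0 1) {l : QuadraticAlgebra F ν 0} (hl : l.im ≠ 0)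
    (hp : X 1 0 l 1) (hn : X 1 0 (-l) 1) (H1 : ∀ {a b c d}, X a b c d → c = 0 ∨ IsUnit c)
    (H2 : ∀ {a b d}, X a b 0 d → a.im = 0) : False := by
  let ι := algebraMap F (QuadraticAlgebra F ν 0)
  have w : ∀ {u v : QuadraticAlgebra F ν 0} (t : F), X 1 0 u 1 → X 1 0 v 1 →
      X (1 + ι t * v) (ι t) (u + v + u * ι t * v) (1 + u * ι t) := fun t hu hv => by
    convert hm hu (hm (hz t) hv) using 1 <;> ring
  let A : Option F → QuadraticAlgebra F ν 0 := fun o => o.elim (1 - l) fun t => 1 + ι t * l
  let B : Option F → QuadraticAlgebra F ν 0 := fun o => o.elim 1 fun t => ι t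
  let E : Option F → QuadraticAlgebra F ν 0 := fun o => o.elim (-l) fun t => 2 + ι t * l
  let D : Option F → QuadraticAlgebra F ν 0 := fun o => o.elim (1 + l) fun t => 1 + ι t * l
  have x1 : ∀ o, X (A o) (B o) (l * E o) (D o) := fun o => by
    cases o
    · convert w 1 hp hn using 1 <;> simp only [A, B, E, D, Option.elim, map_one] <;> ring
    · rename_i t
      have := w t hp hp
      simp only [A, B, E, D, Option.elim]
      convert this using 1 <;> ring
  have x2 : ∀ o, X (D o) (-B o) (-(l * E o)) (A o) := fun o => by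
    cases o
    · convert w (-1) hp hn using 1 <;> simp only [A, B, E, D, Option.elim, map_one, map_neg] <;> ring
    · rename_i t
      convert w (-t) hn hn using 1 <;> simp only [A, B, E, D, Option.elim, map_neg] <;> ring
  have det : ∀ o, A o * D o - B o * (l * E o) = 1 := fun o => by
    cases o <;> simp only [A, B, E, D, Option.elim] <;> ring
  have ul : IsUnit l := (H1 hp).resolve_left fun h => hl (by rw [h]; rfl)
  have inj : ∀ o o' (e : F), E o = ι e * E o' → o = o' := fun o o' e h => by
    have h1 := congrArg re h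
    have h3 := congrArg im h
    cases o <;> cases o' <;> simp [E, ι, algebraMap_eq, hl] at h1 h3 ⊢
    · rename_i t
      have h4 : e * t = -1 := mul_right_cancel₀ hl (by linear_combination -h3)
      have h5 : e = 0 := (mul_eq_zero.1 (show e * 2 = 0 by
        linear_combination -h1 - l.re * h4)).resolve_right h2
      simp [h5] at h4
    · rename_i t
      have h4 : t = -e := mul_right_cancel₀ hl (by linear_combination h3)
      exact h2 (by rw [h4] at h1; linear_combination h1)
    · rename_i t s
      have h4 : t = e * s := mul_right_cancel₀ hl (by linear_combination h3)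
      have h5 : e = 1 := mul_right_cancel₀ h2 (by rw [h4] at h1; linear_combination -h1)
      rw [h4, h5, one_mul]
  have un : ∀ o, ∃ c, l * E o * c = 1 := fun o => by
    refine ((H1 (x1 o)).resolve_left fun h => ?_).exists_right_inv
    have h0 := (ul.mul_right_eq_zero).1 h
    cases o
    · exact hl (by simpa [E] using congrArg im h0)
    · cases inj _ none 0 (by rw [h0, map_zero, zero_mul])
  choose c hc using un
  obtain ⟨o, o', hne, he⟩ : ∃ o o', o ≠ o' ∧ (A o * c o).im = (A o' * c o').im := by
    haveI := Fintype.ofFinite F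
    exact Fintype.exists_ne_map_eq_of_card_lt _ (by simp)
  let t : F := (A o' * c o' - A o * c o).re
  have ht : ι t = A o' * c o' - A o * c o := by
    ext
    · rfl
    · simp only [ι, algebraMap_im, im_sub, he, sub_self]
  have k := hm (x2 o') (hm (hz t) (x1 o))
  have k0 : -(l * E o') * (1 * A o + ι t * (l * E o)) + A o' * (0 * A o + 1 * (l * E o)) = 0 := by
    rw [ht]
    linear_combination (l * E o' * A o) * hc o - (A o' * l * E o) * hc o'
  have k1 := H2 (k0 ▸ k)
  set ε := D o' * (1 * A o + ι t * (l * E o)) + -B o' * (0 * A o + 1 * (l * E o)) with hε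
  have k2 : ι ε.re = ε := by
    ext
    · rfl
    · simp only [ι, algebraMap_im, k1]
  refine hne (inj o o' ε.re (ul.mul_left_cancel ?_))
  rw [k2, hε]
  linear_combination -(l * E o) * det o' + D o' * k0

end Cfsg.Agent.Uf
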