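import Cfsg.Agent.U5.E3

/-! The only essential subgroup of `U5 K` inside `Q₂` is `Q₂`. -/

set_option autoImplicit false
set_option linter.unusedSectionVars false
set_option linter.style.haveILetI false

open Equiv

namespace Cfsg.Agent.Uf

open Cfsg.Fus Cfsg.FusionSystem U5

namespace Ea

variable {K : Type*} [Field K] [StarRing K] [Finite K] [HF K]
  {F : FusionSystem (⊤ : Subgroup (U5 K))} {E : Subgroup (U5 K)} {τ σ : Perm (U5 K)}

theorem real_of_comm {e x : U5 K} (he : e ∈ sQ2 K) (hY : e ∉ sY K) (hx : x ∈ sQ2 K)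
    (h : x * e = e * x) : ∃ μ : selfAdjoint K, x.b = μ * e.b ∧ x.c = μ * e.c := by
  obtain ⟨-, h1, h2, h3⟩ := comm_iff.1 h
  simp only [mem_sQ2.1 he, mem_sQ2.1 hx, zero_mul, neg_zero, star_zero, zero_sub, mul_zero,
    sub_zero, zero_add, neg_inj, mul_neg] at h2 h3
  by_cases hb : e.b = 0
  · have hc : e.c ≠ 0 := fun hc => hY ⟨he, hb, hc⟩
    have hc' : star e.c ≠ 0 := star_ne_zero.2 hc
    refine ⟨⟨x.c / e.c, ?_⟩, ?_, (div_mul_cancel₀ _ hc).symm⟩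
    · rw [selfAdjoint.mem_iff, star_div₀, div_eq_div_iff hc' hc]; linear_combination -h3
    · simpa [hb, hc] using h2
  · have hb' : star e.b ≠ 0 := star_ne_zero.2 hb
    refine ⟨⟨x.b / e.b, ?_⟩, (div_mul_cancel₀ _ hb).symm, ?_⟩
    · rw [selfAdjoint.mem_iff, star_div₀, div_eq_div_iff hb' hb]; linear_combination -h1
    · change x.c = x.b / e.b * e.c
      field_simp
      exact mul_left_cancel₀ hb' (by linear_combination e.b * h2 - e.c * h1)

theorem cm_mul_inv {g w e : U5 K} (hg : g ∈ sQ2 K) (hw : w ∈ sQ2 K) (he : e ∈ sQ2 K) :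
    cm (g * w⁻¹) e = cm g e * (cm w e)⁻¹ := by
  have h1 := comm_sY hw (cm_sY hw he)
  have h2 := comm_sY hg (inv_mem (cm_sY hw he))
  have h3 : w⁻¹ * e * w = e * (cm w e)⁻¹ := by
    rw [eq_mul_inv_iff_mul_eq, mul_assoc, h1, mul_assoc, ← mul_assoc e, ← cj_eq]; group
  calc cm (g * w⁻¹) e = e⁻¹ * (g * (w⁻¹ * e * w) * g⁻¹) := by rw [cm]; group
    _ = e⁻¹ * (g * e * g⁻¹) * (g * (cm w e)⁻¹ * g⁻¹) := by rw [h3]; group
    _ = _ := by rw [h2, mul_inv_cancel_right, cm_def]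

theorem exists_shift (h : E ≤ sQ2 K) (hY : sY K ≤ E) (hτ : F.Iso E E τ) {e : U5 K} (he : e ∈ E)
    (hn : e ∉ sY K) (hc : ∀ x ∈ E, x * e = e * x) :
    ∃ g ∈ sQ2 K, cm g e ≠ 1 ∧ τ (cm g e) ∈ sY K := by
  obtain ⟨wb, wc, hw⟩ : ∃ wb wc : K, wb * e.c - wc * e.b ≠ 0 := by
    by_cases hb : e.b = 0
    · exact ⟨1, 0, by simpa using fun hc => hn ⟨h he, hb, hc⟩⟩
    · exact ⟨0, 1, by simpa using hb⟩
  choose G ga gb gc gd using fun t : K => exists_el 0 (t * wb) (t * wc) 0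
  have m : ∀ t, cm (G t) e ∈ E := fun t => hY (cm_sY (ga t) (h he))
  choose μ μb μc using fun t => real_of_comm (h he) hn (h (hτ.mem (m t))) (hc _ (hτ.mem (m t)))
  obtain ⟨t, s, e1, e2⟩ : ∃ t s, μ t = μ s ∧ t ≠ s := Function.not_injective_iff.1 fun hi => by
    have h1 := Nat.card_le_card_of_injective μ hi
    have h2 := one_lt_qq (K := K)
    rw [card_K] at h1
    change _ ≤ qq K at h1
    nlinarith
  have hg : G t * (G s)⁻¹ ∈ sQ2 K := mul_mem (ga t) (inv_mem (ga s))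
  refine ⟨_, hg, fun h1 => ?_, ?_⟩
  · obtain ⟨ν, k1, k2⟩ := real_of_comm (h he) hn hg (cm_eq_one.1 h1)
    simp only [mul_b, mul_c, inv_b, inv_c, ga, gb, gc] at k1 k2
    exact mul_ne_zero (sub_ne_zero.2 e2) hw (by linear_combination e.c * k1 - e.b * k2)
  · rw [cm_mul_inv (ga t) (ga s) (h he), hτ.homOn (m t) (inv_mem (m s)), hτ.homOn.map_inv (m s)]
    have a1 : (τ (cm (G t) e)).a = 0 := h (hτ.mem (m t))
    have a2 : (τ (cm (G s) e)).a = 0 := h (hτ.mem (m s))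
    refine ⟨by simp [a1, a2], by simp [μb, e1], by simp [a1, a2, μc, e1]⟩

/-- Quadratic action. -/
def Qd (E : Subgroup (U5 K)) (σ : Perm (U5 K)) : Prop :=
  ∀ x ∈ E, σ (x⁻¹ * σ x) = x⁻¹ * σ x

theorem Qd.conj (h : Qd E σ) (hσ : F.Iso E E σ) (hτ : F.Iso E E τ) : Qd E (τ * σ * τ⁻¹) := by
  intro x hx
  obtain ⟨y, hy, rfl⟩ := hτ.exists_eq hx
  simp only [Perm.mul_apply, Perm.coe_inv, Equiv.symm_apply_apply]
  rw [← hτ.homOn.map_inv hy, ← hτ.homOn (inv_mem hy) (hσ.mem hy), Equiv.symm_apply_apply, h y hy]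

theorem Qd.fix (h2 : (2 : K) ≠ 0) (hY : sY K ≤ E) (h : Qd E σ) (hσ : σ ∈ innS ⊤ E) {u : U5 K}
    (hu : u ∈ sY K) : σ u = u := by
  obtain ⟨g, -, -, hg⟩ := mem_innS.1 hσ
  obtain ⟨θ, h0, hθ⟩ := exists_skew (K := K)
  have m : xy θ hθ ∈ sY K := ⟨rfl, rfl, rfl⟩
  have k := h _ (hY m)
  have m2 := cm_sZ2' g (Y_P m)
  rw [hg _ (hY m), cm_def, hg _ (hY (Z2_Y m2)), mul_inv_eq_iff_eq_mul] at k
  have k1 := (comm_iff.1 k).2.2.2
  have d1 : (cm g (xy θ hθ)).d = g.a * θ := by rw [cm_d]; simp [xy]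
  simp only [d1, m2.1, m2.2.1, m2.2.2.1, m2.2.2.2, star_zero, mul_zero, zero_mul, zero_add,
    star_mul', hθ, sub_zero, neg_zero, add_zero, zero_sub] at k1
  have a0 : g.a = 0 := by
    have : 2 * θ * (g.a * star g.a) = 0 := by linear_combination k1
    simpa [h2, h0] using this
  rw [hg u (hY hu), comm_sY a0 hu, mul_inv_cancel_right]

theorem mem_Y_of_comm {u : U5 K} (hu : u ∈ sQ2 K) (h : ∀ g ∈ sQ2 K, g * u = u * g) : u ∈ sY K := by
  by_contra hn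
  obtain ⟨g, a, b, c, -⟩ := exists_el (0 : K) 1 0 0
  obtain ⟨w, a', b', c', -⟩ := exists_el (0 : K) 0 1 0
  obtain ⟨μ, k1, k2⟩ := real_of_comm hu hn a (h g a)
  obtain ⟨ν, k3, k4⟩ := real_of_comm hu hn a' (h w a')
  rw [b] at k1; rw [c] at k2; rw [b'] at k3; rw [c'] at k4
  exact one_ne_zero (α := K)
    (by linear_combination k1 + (μ * u.b : K) * k4 - (ν * u.b : K) * k2)

variable {p : ℕ} [Fact p.Prime] [CharP K p]

theorem inv_Y (hF : F.IsSaturated p) (hE : F.IsEssential p E) (h : E ≤ sQ2 K) (hY : sY K ≤ E) :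
    Inv F E (sY K) := by
  by_cases h2 : (2 : K) = 0
  · intro τ hτ x hx
    have a0 : (τ x).a = 0 := h (hτ.mem (hY hx))
    have e1 : x * x = 1 := by
      obtain ⟨a, b, c⟩ := hx
      ext <;> simp [a, b, c, ← two_mul, h2]
    have e2 : τ x * τ x = 1 := by rw [← hτ.homOn (hY hx) (hY hx), e1, hτ.homOn.map_one]
    have e3 := congrArg U5.y e2
    have e4 := congrArg U5.z e2
    refine ⟨a0, ?_, ?_⟩
    · simpa [← two_mul, h2] using e3
    · simpa [← two_mul, h2, a0] using e4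
  obtain ⟨Γ, _, _, _, P, ρ, r1, r2, -, r4, -⟩ := H4.Sp.exists_setup
    (hE.isFullyNormalized.isFullyAutomized hF (topP p)) (V := Unit) (fun _ => 0)
    (fun _ _ _ _ => rfl) (fun _ => ⟨1, one_mem _, rfl⟩) fun _ _ _ _ _ => rfl
  intro τ hτ x hx
  obtain ⟨t, ht⟩ := r2 τ hτ
  rw [← ht x (hY hx), ← inv_inv t, map_inv]
  generalize t⁻¹ = t
  by_contra hn
  have he := (r1 t).inv_mem (hY hx)
  obtain ⟨g, hg, d1, dY⟩ := exists_shift h hY (r1 t) he hn fun w hw => by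
    simpa using map_comm (r1 t).symm ((r1 t).mem hw) (hY hx) (comm_sY (h ((r1 t).mem hw)) hx)
  set e := (ρ t)⁻¹ x with hex
  set d := ρ t (cm g e) with hd
  have dE := hY dY
  let B : Subgroup Γ :=
    { carrier := {γ | ∃ g ∈ sQ2 K, ∀ x ∈ E, ρ γ x = g * x * g⁻¹}
      one_mem' := ⟨1, one_mem _, by simp⟩
      mul_mem' := by
        rintro a b ⟨g, hg, ha⟩ ⟨w, hw, hb⟩
        refine ⟨g * w, mul_mem hg hw, fun x hx => ?_⟩
        rw [map_mul, Perm.mul_apply, ha _ ((r1 b).mem hx), hb x hx]; group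
      inv_mem' := by
        rintro a ⟨g, hg, ha⟩
        refine ⟨g⁻¹, inv_mem hg, fun x hx => ?_⟩
        have := ha _ ((r1 a⁻¹).mem hx)
        rw [← Perm.mul_apply, ← map_mul, mul_inv_cancel, map_one, Perm.one_apply] at this
        rw [this]
        simp only [← this]
        rw [inv_inv, mul_assoc, eq_inv_mul_iff_mul_eq, ← mul_inv_eq_iff_eq_mul, ← this] }
  let H : Subgroup Γ :=
    { carrier := {γ | ρ γ d = d ∧ ∃ n : ℤ, ρ γ x = x * d ^ n}
      one_mem' := ⟨by simp, 0, by simp⟩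
      mul_mem' := by
        rintro a b ⟨a1, n, a2⟩ ⟨b1, m, b2⟩
        refine ⟨by rw [map_mul, Perm.mul_apply, b1, a1], n + m, ?_⟩
        rw [map_mul, Perm.mul_apply, b2, (r1 a).homOn (hY hx) (zpow_mem dE m),
          (r1 a).homOn.map_zpow dE, a1, a2, zpow_add, mul_assoc]
      inv_mem' := by
        rintro a ⟨a1, n, a2⟩
        refine ⟨by rw [map_inv, Perm.inv_eq_iff_eq, a1], -n, ?_⟩
        rw [map_inv, Perm.inv_eq_iff_eq, (r1 a).homOn (hY hx) (zpow_mem dE _),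
          (r1 a).homOn.map_zpow dE, a1, a2, zpow_neg, mul_inv_cancel_right] }
  have hB : ∀ g ∈ sQ2 K, ∃ a ∈ B, ∀ x ∈ E, ρ a x = g * x * g⁻¹ := fun g hg => by
    obtain ⟨a, ha⟩ := r2 _ (F.iso_cj le_top (Subgroup.mem_top g)
      (norm_of_cm fun x hx => hY (cm_sY hg (h hx))))
    exact ⟨a, ⟨g, hg, ha⟩, ha⟩
  have BP : B ≤ P := fun a ⟨g, _, ha⟩ =>
    (r4 a).2 (mem_innS_of_setStab (r1 a).mem_setStab (Subgroup.mem_top g) ha)
  have BQ : ∀ a ∈ B, Qd E (ρ a) := fun a ⟨g, hg, ha⟩ w hw => by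
    have m := cm_sY hg (h hw)
    rw [ha w hw, cm_def, ha _ (hY m), comm_sY hg m, mul_inv_cancel_right]
  have BH : B ≤ H := fun a ⟨g, hg, ha⟩ =>
    ⟨by rw [ha d dE, comm_sY hg dY, mul_inv_cancel_right],
      0, by rw [ha x (hY hx), comm_sY hg hx, mul_inv_cancel_right, zpow_zero, mul_one]⟩
  obtain ⟨a, aB, ha⟩ := hB g hg
  obtain ⟨n, hn'⟩ := P.isPGroup' ⟨a, BP aB⟩
  have m := cm_sY hg (h he)
  have s1 : ρ (t * a * t⁻¹) d = d := by
    simp only [map_mul, map_inv, Perm.mul_apply, hd, Perm.coe_inv, Equiv.symm_apply_apply]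
    rw [ha _ (hY m), comm_sY hg m, mul_inv_cancel_right]
  have s2 : ρ (t * a * t⁻¹) x = x * d := by
    simp only [map_mul, map_inv, Perm.mul_apply]
    rw [← hex, ha e he, cj_eq, (r1 t).homOn he (hY m), hex]
    simp [hd, hex]
  obtain ⟨b, bH, k, k1, k2⟩ := wc P BP (σ := t * a * t⁻¹) (n := n)
    (by rw [conj_pow, show a ^ p ^ n = 1 from congrArg Subtype.val hn']; simp) BH
    ⟨s1, 1, by rw [s2, zpow_one]⟩
  have cj : ∀ a k, Qd E (ρ a) → Qd E (ρ (k * a * k⁻¹)) := fun a k ha => by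
    simpa only [map_mul, map_inv] using ha.conj (r1 a) (r1 k)
  have kY : ∀ u ∈ sY K, ρ k u ∈ sY K := maps_inv fun u hu => by
    have uE := (r1 k).inv_mem (hY hu)
    refine mem_Y_of_comm (h uE) fun w hw => ?_
    obtain ⟨c, cB, hc⟩ := hB w hw
    have := (cj c k (BQ c cB)).fix h2 hY ((r4 _).1 (k1 c cB)) hu
    simp only [map_mul, map_inv, Perm.mul_apply] at this
    rw [hc _ uE, ← Perm.eq_inv_iff_eq] at this
    exact mul_inv_eq_iff_eq_mul.1 this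
  have f := (cj _ k (cj _ b (cj a t (BQ a aB)))).fix h2 hY ((r4 _).1 k2) (kY x hx)
  obtain ⟨b1, j, b2⟩ := inv_mem bH
  rw [map_mul, map_mul, Perm.mul_apply, Perm.mul_apply, map_inv ρ k, Perm.coe_inv,
    Equiv.symm_apply_apply, (ρ k).apply_eq_iff_eq, map_mul, map_mul, Perm.mul_apply,
    Perm.mul_apply, b2, (r1 _).homOn (hY hx) (zpow_mem dE _), (r1 _).homOn.map_zpow dE, s1, s2,
    ← Perm.eq_inv_iff_eq, ← map_inv, b2, mul_left_inj, mul_eq_left, hd,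
    ← (r1 t).homOn.map_one, (ρ t).apply_eq_iff_eq] at f
  exact d1 f

end Ea

open Ea

variable {K : Type*} [Field K] [StarRing K] [Finite K] [HF K] {p : ℕ} [Fact p.Prime] [CharP K p]
  {F : FusionSystem (⊤ : Subgroup (U5 K))} {E : Subgroup (U5 K)}

theorem ess_Q2 (hF : F.IsSaturated p) (hE : F.IsEssential p E) (h : E ≤ sQ2 K) : E = sQ2 K := by
  have hY : sY K ≤ E := fun g hg => cent_of_comm hE.isCentric fun x hx => comm_sY (h hx) hg
  have iY := inv_Y hF hE h hY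
  exact le_antisymm h fun g hg => mem_of_chain hE hY hY hY iY iY iY (fun x hx => comm_sY hg hx)
    (fun x hx => cm_sY hg (h (hY hx))) (fun x hx => cm_sY hg (h (hY hx)))
    fun x hx => cm_sY hg (h hx)

end Cfsg.Agent.Uf
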