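import Cfsg.Agent.U5.B
import Cfsg.Agent.H4.Sp4A

/-! Recognition of `SU₃(q)` on `Q₁/Z`: the geometry of the conjugates of `W`. -/

set_option autoImplicit false
set_option linter.unusedSectionVars false
set_option linter.style.haveILetI false

namespace Cfsg.Agent.Uf

variable {K : Type*} [Field K] [StarRing K]

/-- The hermitian form. -/
def hf (v w : K × K × K) : K := v.1 * star w.2.2 + v.2.1 * star w.2.1 + v.2.2 * star w.1
/-- The commutator form. -/
def bf (v w : K × K × K) : K := hf v w - star (hf v w)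
/-- The action of `S/Q₁`. -/
def sS (b y : K) (v : K × K × K) : K × K × K :=
  (v.1, v.2.1 - v.1 * b, v.2.2 + v.2.1 * star b + v.1 * y)
/-- The action of `gam`. -/
def gV (s u : K) (σ : K ≃+* K) (v : K × K × K) : K × K × K :=
  (s * σ v.1, s * u * σ v.2.1, s * u * star u * σ v.2.2)
/-- Membership in `W`. -/
abbrev mW (v : K × K × K) : Prop := v.1 = 0 ∧ v.2.1 = 0

theorem bf_eq (v w : K × K × K) : bf v w = v.1 * star w.2.2 + v.2.1 * star w.2.1 +
    v.2.2 * star w.1 - (star v.1 * w.2.2 + star v.2.1 * w.2.1 + star v.2.2 * w.1) := by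
  simp [bf, hf]

theorem bf_sS {b y : K} (h : star y = -y - b * star b) (v w : K × K × K) :
    bf (sS b y v) (sS b y w) = bf v w := by
  simp [bf_eq, sS, h]; ring

theorem bf_smul {r : K} (h : star r = r) (v w : K × K × K) : bf (r • v) w = r * bf v w := by
  simp [bf_eq, h]; ring
theorem bf_sub (v v' w : K × K × K) : bf (v - v') w = bf v w - bf v' w := by simp [bf_eq]; ring
theorem bf_swap (v w : K × K × K) : bf v w = -bf w v := by simp [bf_eq]; ring
theorem bf_self (v : K × K × K) : bf v v = 0 := by simp [bf_eq]; ring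
theorem bf_W {v w : K × K × K} (h : mW v) (h' : w.1 = 0) : bf v w = 0 := by
  simp [bf_eq, h.1, h.2, h']
theorem mW_eq {v : K × K × K} (h : mW v) : v = (0, 0, v.2.2) :=
  Prod.ext h.1 (Prod.ext h.2 rfl)
theorem sS_W (b y : K) {v : K × K × K} (h : mW v) : sS b y v = v := by
  rw [mW_eq h]; simp [sS]

theorem real_of {a d : K} (ha : a ≠ 0) (h : d * star a - star d * a = 0) :
    ∃ r, star r = r ∧ d = r * a := by
  have ha' : star a ≠ 0 := star_ne_zero.2 ha
  refine ⟨d / a, ?_, (div_mul_cancel₀ _ ha).symm⟩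
  rw [star_div₀, div_eq_div_iff ha' ha]
  linear_combination -h

variable [HF K]

theorem sk0 {a : K} (h : ∀ d, a * star d - star a * d = 0) : a = 0 := by
  by_contra ha
  obtain ⟨θ, h0, h1⟩ := exists_skew (K := K)
  obtain ⟨d, hd⟩ := exists_sk ha h1
  exact h0 (hd ▸ h d)

theorem mW_of_perp {v : K × K × K} (h : ∀ u : K × K × K, u.1 = 0 → bf v u = 0) : mW v :=
  ⟨sk0 fun d => by simpa [bf_eq] using h (0, 0, d) rfl,
    sk0 fun d => by simpa [bf_eq] using h (0, d, 0) rfl⟩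

theorem bf_nd {v : K × K × K} (h : ∀ u, bf v u = 0) : v = 0 := by
  have h1 := mW_of_perp fun u _ => h u
  rw [mW_eq h1, sk0 (a := v.2.2) fun d => by simpa [bf_eq] using h (d, 0, 0)]
  rfl

theorem indep {A B : K} (h : ∀ a, A * a + B * star a = 0) : A = 0 ∧ B = 0 := by
  obtain ⟨x, hx⟩ := HF.ne (K := K)
  have h1 := h 1
  have h2 : B = 0 := (mul_eq_zero.1 (show B * (star x - x) = 0 by
    rw [star_one] at h1; linear_combination h x - x * h1)).resolve_right (sub_ne_zero.2 hx)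
  exact ⟨by simpa [h2] using h1, h2⟩

theorem dec_real {f : K → K} (h1 : ∀ x y, f (x + y) = f x + f y)
    (h2 : ∀ r x, star r = r → f (r * x) = r * f x) : ∃ α β, ∀ a, f a = α * a + β * star a := by
  obtain ⟨x, hx⟩ := HF.ne (K := K)
  have h : x - star x ≠ 0 := sub_ne_zero.2 hx.symm
  have h' : star x - x ≠ 0 := sub_ne_zero.2 hx
  refine ⟨(f x - f 1 * star x) / (x - star x), (f 1 * x - f x) / (x - star x), fun a => ?_⟩
  have e : a = (x * star a - star x * a) / (x - star x) * 1 + (a - star a) / (x - star x) * x := by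
    field_simp; ring
  conv_lhs => rw [e, h1, h2 _ _ (by rw [star_div₀]; simp; field_simp; ring),
    h2 _ _ (by rw [star_div₀]; simp; field_simp; ring)]
  field_simp; ring

theorem mem_of_norm {Γ : Type*} [Group Γ] [Finite Γ] {p : ℕ} [Fact p.Prime] {P : Sylow p Γ}
    {s g : Γ} (hs : s ∈ (P : Subgroup Γ))
    (hg : g * s * g⁻¹ ∈ Subgroup.normalizer (P : Set Γ)) : g * s * g⁻¹ ∈ (P : Subgroup Γ) := by
  obtain ⟨k, hk⟩ := H4.Sp.sylow_pow P hs g⁻¹
  rw [inv_inv] at hk
  have h1 := H6.isPGroup_zpowers_of_pow hk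
  have := P.is_maximal' (H6.isPGroup_sup_of_le_normalizer h1 P.isPGroup'
    (Subgroup.zpowers_le.2 hg)) le_sup_right
  exact this.le (Subgroup.mem_sup_left (Subgroup.mem_zpowers _))

variable [Finite K] {Γ : Type*} [Group Γ] [Finite Γ] [DistribMulAction Γ (K × K × K)]
  {p : ℕ} [Fact p.Prime]

/-- The hypotheses on the automizer of `Q₁`. -/
structure Su (K : Type*) [Field K] [StarRing K] [DistribMulAction Γ (K × K × K)]
    (P : Sylow p Γ) : Prop where
  form : ∀ s ∈ (P : Subgroup Γ), ∃ b y : K, star y = -y - b * star b ∧ ∀ v, s • v = sS b y v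
  surj : ∀ b y : K, star y = -y - b * star b → ∃ s ∈ (P : Subgroup Γ), ∀ v, s • v = sS b y v
  iso : ∀ g : Γ, ∃ φ : K → K, ∀ v w : K × K × K, bf (g • v) (g • w) = φ (bf v w)
  nrm : ∀ g : Γ, (∀ v : K × K × K, mW v → mW (g • v)) → g ∈ Subgroup.normalizer (P : Set Γ) ∧
    ∃ (b y s u : K) (σ : K ≃+* K), ∀ v, g • v = sS b y (gV s u σ v)

namespace Su

variable {P : Sylow p Γ} (h : Su K P)
include h

theorem perp (g : Γ) {v w : K × K × K} (e : bf v w = 0) : bf (g • v) (g • w) = 0 := by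
  obtain ⟨φ, hφ⟩ := h.iso g
  rw [hφ, e, ← bf_self (0 : K × K × K), ← hφ, bf_self, bf_self]

theorem isom (g : Γ) {s : Γ} (hs : s ∈ (P : Subgroup Γ)) (v w : K × K × K) :
    bf ((g * s * g⁻¹) • v) ((g * s * g⁻¹) • w) = bf v w := by
  obtain ⟨φ, hφ⟩ := h.iso g
  obtain ⟨b, y, hy, e⟩ := h.form s hs
  rw [mul_smul, mul_smul, mul_smul, mul_smul, hφ, e, e, bf_sS hy, ← hφ, smul_inv_smul,
    smul_inv_smul]

theorem lin (g : Γ) {s : Γ} (hs : s ∈ (P : Subgroup Γ)) {r : K} (hr : star r = r)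
    (v : K × K × K) : (g * s * g⁻¹) • r • v = r • (g * s * g⁻¹) • v := by
  refine sub_eq_zero.1 (bf_nd fun u => ?_)
  rw [← smul_inv_smul (g * s * g⁻¹) u, bf_sub, bf_smul hr, h.isom g hs, h.isom g hs, bf_smul hr,
    sub_self]

/-- `g W` is closed under real multiples. -/
theorem scal (g : Γ) {v w : K × K × K} {r : K} (hr : star r = r) (e : g⁻¹ • v = r • g⁻¹ • w)
    (hw : mW w) : mW v := mW_of_perp fun u hu => by
  have := h.perp g (v := g⁻¹ • v) (w := g⁻¹ • u) (by
    rw [e, bf_smul hr, h.perp g⁻¹ (bf_W hw hu), mul_zero])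
  rwa [smul_inv_smul, smul_inv_smul] at this

theorem quad {g z : Γ} {θ : K} (h0 : θ ≠ 0) (hz : ∀ v, z • v = sS 0 θ v)
    (hm : g * z * g⁻¹ ∈ (P : Subgroup Γ)) {v : K × K × K} (hv : mW v) : mW (g⁻¹ • v) := by
  obtain ⟨b, y, -, e⟩ := h.form _ hm
  have k : ∀ u, sS b y u - u = g • ((0 : K), (0 : K), (g⁻¹ • u).1 * θ) := fun u => by
    rw [← e, mul_smul, mul_smul, hz, sub_eq_iff_eq_add, smul_eq_iff_eq_inv_smul,
      smul_add, inv_smul_smul]
    ext <;> simp [sS, add_comm]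
  have hb : b = 0 := by
    have k1 := k (sS b y (1, 0, 0) - (1, 0, 0))
    have k2 : (g⁻¹ • (sS b y (1, 0, 0) - (1, 0, 0)) : K × K × K).1 = 0 := by rw [k, inv_smul_smul]
    rw [k2, zero_mul, show ((0 : K), (0 : K), (0 : K)) = 0 from rfl, smul_zero] at k1
    simpa [sS] using congrArg (fun u => u.2.2) k1
  have hy : y ≠ 0 := fun hy => by
    have k1 := k (g • (1, 0, 0))
    rw [hb, hy, inv_smul_smul, eq_comm, ← eq_inv_smul_iff] at k1
    simpa [sS, h0] using congrArg (fun u => u.2.2) k1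
  have k1 := k (v.2.2 / y, 0, 0)
  rw [← inv_smul_eq_iff, show sS b y (v.2.2 / y, 0, 0) - (v.2.2 / y, 0, 0) = v by
    rw [mW_eq hv]; ext <;> simp [sS, hb, hy]] at k1
  rw [k1]; exact ⟨rfl, rfl⟩

theorem cl0 (g : Γ) {x : K × K × K} (hx : mW x) (h1 : (g⁻¹ • x).1 = 0) : mW (g⁻¹ • x) := by
  obtain ⟨θ, h0, hθ⟩ := exists_skew (K := K)
  obtain ⟨z, hz, e⟩ := h.surj 0 θ (by simp [hθ])
  obtain ⟨k, hk⟩ := H4.Sp.sylow_pow P hz g⁻¹
  rw [inv_inv] at hk
  obtain ⟨a, ha, c, c1, c2⟩ := wc P le_rfl hk (H := MulAction.stabilizer Γ x) (fun s hs => by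
    obtain ⟨b, y, -, e⟩ := h.form s hs
    rw [MulAction.mem_stabilizer_iff, e, sS_W _ _ hx]) (by
    rw [MulAction.mem_stabilizer_iff, mul_smul, mul_smul, e, ← eq_inv_smul_iff]
    ext <;> simp [sS, h1])
  have c3 : c ∈ Subgroup.normalizer (P : Set Γ) := Subgroup.mem_normalizer_fintype c1
  have c4 := (Subgroup.mem_normalizer_iff.1 c3 _).2 c2
  have := h.quad (g := a * g) h0 e (by simpa [mul_assoc] using c4) hx
  rwa [mul_inv_rev, mul_smul, (MulAction.stabilizer Γ x).inv_mem ha] at this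

omit h in
theorem stab_inv {g : Γ} (hg : ∀ v : K × K × K, mW v → mW (g • v)) (v : K × K × K) (hv : mW v) :
    mW (g⁻¹ • v) := H4.Sp.inv_mem_of_mem (A := H4.Sp.Z0 K) hg v hv

theorem cl1 {g : Γ} (hg : ¬ ∀ v : K × K × K, mW v → mW (g • v)) {l : K × K × K} (hl : mW l)
    (hl' : mW (g⁻¹ • l)) : l = 0 := by
  by_contra l0
  have d0 : l.2.2 ≠ 0 := fun e => l0 (by rw [mW_eq hl, e]; rfl)
  have d0' : (g⁻¹ • l).2.2 ≠ 0 := fun e => l0 (by
    have : g⁻¹ • l = 0 := by rw [mW_eq hl', e]; rfl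
    rwa [smul_eq_zero_iff_eq] at this)
  obtain ⟨θ, h0, hθ⟩ := exists_skew (K := K)
  by_cases h2 : (2 : K) = 0
  · obtain ⟨x, hx, hx'⟩ : ∃ x, mW x ∧ ¬ mW (g⁻¹ • x) := by
      by_contra hn
      push Not at hn
      exact hg fun v hv => by simpa using stab_inv hn v hv
    have a0 : (g⁻¹ • x).1 ≠ 0 := fun e => hx' (h.cl0 g hx e)
    obtain ⟨z, hz, e⟩ := h.surj 0 θ (by simp [hθ])
    have k : ∀ u, (g * z * g⁻¹) • u = u + g • ((0 : K), (0 : K), (g⁻¹ • u).1 * θ) := fun u => by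
      rw [mul_smul, mul_smul, e, ← eq_inv_smul_iff, smul_add, inv_smul_smul]
      ext <;> simp [sS]
    obtain ⟨r, hr, e1⟩ := real_of a0 (d := (g⁻¹ • l).2.2) (by
      simpa [bf_eq, hl'.1, hl'.2] using h.perp g⁻¹ (bf_W hl hx.1))
    have r0 : r ≠ 0 := fun e => d0' (by rw [e1, e, zero_mul])
    have m1 : mW (g • ((0 : K), (0 : K), (g⁻¹ • x).1 * θ)) := h.scal g (w := l) (r := θ / r)
      (by rw [star_div₀, hr, hθ]; congr 1; linear_combination -θ * h2) (by
        rw [inv_smul_smul, mW_eq hl', e1]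
        ext <;> simp
        field_simp) hl
    have m2 : ∀ v, mW v → mW ((g * z * g⁻¹) • v) := fun v hv => by
      have x0 : x.2.2 * star l.2.2 - star x.2.2 * l.2.2 ≠ 0 := fun e => by
        obtain ⟨t, ht, e2⟩ := real_of d0 e
        refine hx' (h.scal g⁻¹ (v := g⁻¹ • x) (w := g⁻¹ • l) ht ?_ hl')
        rw [inv_inv, smul_inv_smul, smul_inv_smul, mW_eq hx, mW_eq hl, e2]; simp
      have x1 : star (x.2.2 * star l.2.2 - star x.2.2 * l.2.2) ≠ 0 := star_ne_zero.2 x0
      have e2 : v = ((v.2.2 * star l.2.2 - star v.2.2 * l.2.2) /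
          (x.2.2 * star l.2.2 - star x.2.2 * l.2.2)) • x +
          ((x.2.2 * star v.2.2 - star x.2.2 * v.2.2) /
          (x.2.2 * star l.2.2 - star x.2.2 * l.2.2)) • l := by
        have v1 : v.1 = 0 := hv.1
        have v2 : v.2.1 = 0 := hv.2
        refine Prod.ext (by simp [v1, hx.1, hl.1]) (Prod.ext (by simp [v2, hx.2, hl.2]) ?_)
        simp only [Prod.snd_add, Prod.smul_snd, smul_eq_mul]
        rw [div_mul_eq_mul_div, div_mul_eq_mul_div, ← add_div, eq_div_iff x0]; ring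
      rw [e2, smul_add, h.lin g hz (by
        rw [star_div₀, div_eq_div_iff x1 x0]; simp; ring), h.lin g hz (by
        rw [star_div₀, div_eq_div_iff x1 x0]; simp; ring), k x, k l, hl'.1, zero_mul,
        show ((0 : K), (0 : K), (0 : K)) = 0 from rfl, smul_zero]
      exact ⟨by simp [hx.1, hl.1, m1.1], by simp [hx.2, hl.2, m1.2]⟩
    exact hx' (h.quad h0 e (mem_of_norm hz (h.nrm _ m2).1) hx)
  · push Not at hg
    obtain ⟨x, hx, hx'⟩ := hg
    have c0 : ∀ v : K × K × K, mW v → (g • v).1 = 0 → mW (g • v) := fun v hv e => by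
      simpa using h.cl0 g⁻¹ hv (by simpa using e)
    have a0 : (g • x).1 ≠ 0 := fun e => hx' (c0 x hx e)
    have a1 : star (g • x).1 ≠ 0 := star_ne_zero.2 a0
    obtain ⟨y, hy⟩ := exists_tr (K := K) (t := 1) (star_one _)
    have hB : star (bf (sS 1 y (g • x)) (g • x)) = -bf (sS 1 y (g • x)) (g • x) := by simp [bf]
    generalize hB0 : bf (sS 1 y (g • x)) (g • x) = B at hB
    obtain ⟨s, hs, e⟩ := h.surj 1 (y - B / (2 * (g • x).1 * star (g • x).1)) (by
      rw [star_sub, star_div₀, hB, hy]; simp; field_simp; ring)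
    have b1 : bf (s • g • x) (g • x) = 0 := by
      rw [e]
      simp only [bf_eq, sS, star_add, star_sub, star_mul', star_div₀, hB, star_star, star_ofNat]
        at hB0 ⊢
      field_simp
      linear_combination 2 * hB0
    have b2 : bf (s • g • x) l = 0 := by
      obtain ⟨b, y, hy, e⟩ := h.form s hs
      rw [← sS_W b y hl, e, bf_sS hy]
      simpa using h.perp g (bf_W hx hl'.1)
    have b3 : ((g⁻¹ * s⁻¹ * g)⁻¹ • x).1 = 0 := by
      by_contra hn
      simp only [mul_inv_rev, inv_inv, mul_smul] at hn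
      obtain ⟨r, hr, e1⟩ := real_of hn (d := x.2.2) (by
        have := h.perp g⁻¹ b1
        rw [inv_smul_smul, bf_swap, neg_eq_zero] at this
        simpa [bf_eq, hx.1, hx.2] using this)
      obtain ⟨r', hr', e2⟩ := real_of hn (d := (g⁻¹ • l).2.2) (by
        have := h.perp g⁻¹ b2
        rw [bf_swap, neg_eq_zero] at this
        simpa [bf_eq, hl'.1, hl'.2] using this)
      have r0 : r' ≠ 0 := fun e => d0' (by rw [e2, e, zero_mul])
      refine hx' (h.scal g (w := l) (r := r / r') (by rw [star_div₀, hr, hr']) ?_ hl)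
      rw [inv_smul_smul, mW_eq hx, mW_eq hl', e1, e2]
      ext <;> simp
      field_simp
    have b4 := h.cl0 _ hx b3
    simp only [mul_inv_rev, inv_inv, mul_smul] at b4
    have b5 := c0 (g⁻¹ • s • g • x - x) ⟨by simp [b4.1, hx.1], by simp [b4.2, hx.2]⟩ (by
      rw [smul_sub, smul_inv_smul, e]; simp [sS])
    rw [smul_sub, smul_inv_smul, e] at b5
    exact a0 (by simpa [sS] using b5.2)

theorem cl2 {g : Γ} (hg : ¬ ∀ v : K × K × K, mW v → mW (g • v)) {v : K × K × K} (hv : mW v)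
    (h1 : (g • v).1 = 0) : v = 0 := by
  have := h.cl1 hg (l := g • v) (by simpa using h.cl0 g⁻¹ hv (by simpa using h1)) (by simpa using hv)
  rwa [smul_eq_zero_iff_eq] at this

end Su

end Cfsg.Agent.Uf
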