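import Cfsg.Agent.U5.L1
import Cfsg.Agent.U5.D

/-! Recognition of `SU₃(q)` on `Q₁/Z`: normal form of the opposite subgroup. -/

set_option autoImplicit false
set_option linter.unusedSectionVars false
set_option linter.style.haveILetI false

namespace Cfsg.Agent.Uf

variable {K : Type*} [Field K] [StarRing K]

/-- The straightening map. -/
def Gm (β φ ψ : K) (v : K × K × K) : K × K × K :=
  (v.1, v.2.1 + β * star v.1, v.2.2 + β * star v.2.1 + φ * v.1 + ψ * star v.1)
/-- Its inverse. -/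
def Gi (β φ ψ : K) (v : K × K × K) : K × K × K :=
  (v.1, v.2.1 - β * star v.1, v.2.2 - β * star (v.2.1 - β * star v.1) - φ * v.1 - ψ * star v.1)
/-- Opposite transvections. -/
def zl (y κ : K) (v : K × K × K) : K × K × K := (v.1 + (y * v.2.2 + κ * star v.2.2), v.2.1, v.2.2)
/-- Monomial elements. -/
def mm (t : K) (v : K × K × K) : K × K × K := (t * v.2.2, -(star t / t) * v.2.1, v.1 / star t)

theorem Gm_Gi (β φ ψ : K) (v : K × K × K) : Gm β φ ψ (Gi β φ ψ v) = v := by
  ext <;> simp [Gm, Gi]; ring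
theorem Gm_inj {β φ ψ : K} {v w : K × K × K} (h : Gm β φ ψ v = Gm β φ ψ w) : v = w := by
  have h1 : v.1 = w.1 := by simpa [Gm] using congrArg Prod.fst h
  have h2 : v.2.1 = w.2.1 := by simpa [Gm, h1] using congrArg (fun u => u.2.1) h
  exact Prod.ext h1 (Prod.ext h2 (by simpa [Gm, h1, h2] using congrArg (fun u => u.2.2) h))
theorem Gm_add (β φ ψ : K) (v w : K × K × K) : Gm β φ ψ (v + w) = Gm β φ ψ v + Gm β φ ψ w := by
  ext <;> simp [Gm] <;> ring
theorem Gm_smul (β φ ψ : K) {r : K} (hr : star r = r) (v : K × K × K) :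
    Gm β φ ψ (r • v) = r • Gm β φ ψ v := by
  ext <;> simp [Gm, hr] <;> ring
theorem Gm_W (β φ ψ d : K) : Gm β φ ψ (0, 0, d) = (0, 0, d) := by simp [Gm]
theorem bf_Gm (β φ ψ : K) (v w : K × K × K) : bf (Gm β φ ψ v) (Gm β φ ψ w) =
    bf v w + bf (Gm β φ ψ (v.1, 0, 0)) (Gm β φ ψ (w.1, 0, 0)) := by
  simp [bf_eq, Gm]; ring

/-- Maps induced by `Γ` after straightening. -/
def In (Γ : Type*) [SMul Γ (K × K × K)] (β φ ψ : K) (f : K × K × K → K × K × K) : Prop :=
  ∃ γ : Γ, ∀ v, γ • Gm β φ ψ v = Gm β φ ψ (f v)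

variable [HF K] [Finite K] {Γ : Type*} [Group Γ] [Finite Γ] [DistribMulAction Γ (K × K × K)]
  {p : ℕ} [Fact p.Prime] {β φ ψ : K} {f f' : K × K × K → K × K × K}

theorem In.comp (h : In Γ β φ ψ f) (h' : In Γ β φ ψ f') : In Γ β φ ψ fun v => f (f' v) := by
  obtain ⟨a, ha⟩ := h
  obtain ⟨b, hb⟩ := h'
  exact ⟨a * b, fun v => by rw [mul_smul, hb, ha]⟩

theorem In.inv (h : In Γ β φ ψ f) (e : ∀ v, f (f' v) = v) : In Γ β φ ψ f' := by
  obtain ⟨a, ha⟩ := h
  exact ⟨a⁻¹, fun v => by rw [inv_smul_eq_iff, ha, e]⟩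

theorem In.congr (h : In Γ β φ ψ f) (e : ∀ v, f v = f' v) : In Γ β φ ψ f' := by
  rwa [← funext e]

theorem In.nn {y : K} (hy : star y = -y) (y0 : y ≠ 0)
    (hs : ∀ t, star t = -t → In Γ β φ ψ (sS 0 t)) (hz : In Γ β φ ψ (zl y 0)) :
    In Γ β φ ψ fun v => (y * v.2.2, v.2.1, -v.1 / y) := by
  have h1 := hs (-y⁻¹) (by simp [hy])
  refine (h1.comp (hz.comp h1)).congr fun v => ?_
  ext <;> simp [sS, zl] <;> field_simp <;> ring

theorem In.mm {y : K} (hy : star y = -y) (y0 : y ≠ 0)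
    (hs : ∀ b t, star t = -t - b * star b → In Γ β φ ψ (sS b t)) (hz : In Γ β φ ψ (zl y 0))
    {t : K} (t0 : t ≠ 0) : In Γ β φ ψ (mm t) := by
  have h1 := In.nn hy y0 (fun t ht => hs 0 t (by simp [ht])) hz
  have h2 := h1.inv (f' := fun v => (-y * v.2.2, v.2.1, v.1 / y)) fun v => by
    ext <;> simp <;> field_simp
  obtain ⟨b, hb⟩ := HF.nrm ((t + star t) / y ^ 2) (by simp [hy, add_comm])
  have t1 : star t ≠ 0 := star_ne_zero.2 t0
  have hb' : t + star t = y ^ 2 * (b * star b) := by rw [hb]; field_simp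
  have h3 : In Γ β φ ψ fun v => (v.1 + y * star b * v.2.1 + t * v.2.2, v.2.1 + y * b * v.2.2,
      v.2.2) := by
    refine (h1.comp ((hs b (-t / y ^ 2) (by simp [hy, hb]; field_simp; ring)).comp h2)).congr
      fun v => ?_
    ext <;> simp [sS] <;> field_simp <;> ring
  refine ((hs (b * y / t) (star t)⁻¹ (by
    simp [hy]; field_simp; linear_combination hb')).comp (h3.comp (hs (b * y / star t) (star t)⁻¹
      (by simp [hy]; field_simp; linear_combination hb')))).congr fun v => ?_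
  ext <;> simp [sS, Uf.mm, hy] <;> field_simp
  · linear_combination v.1 * hb'
  · linear_combination (v.2.1 * star t - v.1 * b * y) * hb'
  · linear_combination (t * star t * v.2.2 + t * v.1 - star t * v.2.1 * star b * y) * hb'

namespace Su

variable {P : Sylow p Γ} (h : Su K P)
include h

theorem graph {g : Γ} (hg : ¬ ∀ v : K × K × K, mW v → mW (g • v)) :
    ∃ s ∈ (P : Subgroup Γ), ∃ (β φ ψ : K) (e : K ≃+ K),
      ∀ d, (s * g) • ((0 : K), (0 : K), d) = Gm β φ ψ (e d, 0, 0) := by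
  let ι : K →+ K × K × K := (DistribSMul.toAddMonoidHom (K × K × K) g).comp
    ((AddMonoidHom.inr K (K × K)).comp (AddMonoidHom.inr K K))
  have hι : ∀ d, ι d = g • ((0 : K), (0 : K), d) := fun _ => rfl
  let e : K ≃+ K := AddEquiv.ofBijective ((AddMonoidHom.fst K (K × K)).comp ι)
    (Finite.injective_iff_bijective.1 ((injective_iff_map_eq_zero _).2 fun d hd =>
      congrArg (fun u => u.2.2) (h.cl2 hg (v := (0, 0, d)) ⟨rfl, rfl⟩ hd)))
  have he : ∀ d, e d = (ι d).1 := fun _ => rfl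
  have sc : ∀ r a, star r = r → ι (e.symm (r * a)) = r • ι (e.symm a) := fun r a hr => by
    have m := h.scal g⁻¹ (v := g⁻¹ • r • ι (e.symm a)) (w := (0, 0, e.symm a)) hr
      (by rw [inv_inv, smul_inv_smul, hι]) ⟨rfl, rfl⟩
    have m1 : ι (g⁻¹ • r • ι (e.symm a)).2.2 = r • ι (e.symm a) := by
      rw [hι, ← mW_eq m, smul_inv_smul]
    rw [← m1, (e.symm_apply_eq).2 (show r * a = e (g⁻¹ • r • ι (e.symm a)).2.2 by
      rw [he, m1, Prod.smul_fst, ← he, e.apply_symm_apply, smul_eq_mul])]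
  obtain ⟨α, β, h1⟩ := dec_real (f := fun a => (ι (e.symm a)).2.1) (fun x y => by simp)
    fun r x hr => by rw [sc r x hr]; rfl
  obtain ⟨φ, ψ, h2⟩ := dec_real (f := fun a => (ι (e.symm a)).2.2) (fun x y => by simp)
    fun r x hr => by rw [sc r x hr]; rfl
  obtain ⟨y, hy⟩ := exists_tr (t := α * star α) (by simp [mul_comm])
  obtain ⟨s, hs, e1⟩ := h.surj α y hy
  refine ⟨s, hs, β, φ + α * star α + y, ψ + β * star α, e, fun d => ?_⟩
  have a1 := h1 (e d)
  have a2 := h2 (e d)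
  simp only [e.symm_apply_apply] at a1 a2
  rw [mul_smul, e1, ← hι]
  ext <;> simp [sS, Gm, a1, a2, ← he] <;> ring

theorem in_sS {b y : K} (hy : star y = -y - b * star b) (hb : 2 * β * b = 0) :
    In Γ β φ ψ (sS b y) := by
  obtain ⟨s, -, e⟩ := h.surj b y hy
  refine ⟨s, fun v => ?_⟩
  have hb' : 2 * β * star b = 0 := by
    rcases mul_eq_zero.1 hb with e | e
    · rw [e, zero_mul]
    · rw [e, star_zero, mul_zero]
  rw [e]
  ext <;> simp [sS, Gm]
  · ring
  · linear_combination star v.1 * hb'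

theorem diag (hf : In Γ β φ ψ f) (h1 : ∀ d, mW (f (0, 0, d))) {u : K} (u0 : u ≠ 0)
    (h2 : ∀ c, (f (0, c, 0)).2.1 = u * c) : ∃ b y s t : K, ∀ v, Gm β φ ψ (f v) =
      sS b y (s * (Gm β φ ψ v).1, u * (Gm β φ ψ v).2.1, t * (Gm β φ ψ v).2.2) := by
  obtain ⟨γ, e⟩ := hf
  obtain ⟨-, b, y, s, t, σ, e1⟩ := h.nrm γ fun v hv => by
    rw [mW_eq hv, ← Gm_W β φ ψ, e, mW_eq (h1 _), Gm_W]; exact ⟨rfl, rfl⟩
  have k : ∀ c, s * t * σ c = u * c := fun c => by
    have e2 := (e (0, c, 0)).symm.trans (e1 _)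
    have a1 : (f (0, c, 0)).1 = 0 := by simpa [Gm, sS, gV] using congrArg Prod.fst e2
    simpa [Gm, sS, gV, a1, h2] using (congrArg (fun u => u.2.1) e2).symm
  have k1 : s * t = u := by simpa using k 1
  have k2 : ∀ c, σ c = c := fun c => mul_left_cancel₀ u0 (by rw [← k c, k1])
  exact ⟨b, y, s, u * star t, fun v => by rw [← e, e1, gV, k1, k2, k2, k2]⟩

theorem diag' {s u t : K} (hf : In Γ β φ ψ fun v => (s * v.1, u * v.2.1, t * v.2.2)) (u0 : u ≠ 0) :
    β * (u - star s) = 0 ∧ (β = 0 → ψ * (t - star s) = 0) := by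
  obtain ⟨b, y, s', t', e⟩ := h.diag hf (fun d => by simp) u0 fun c => rfl
  have a1 : s = s' := by simpa [Gm, sS] using congrArg Prod.fst (e (1, 0, 0))
  have a2 : t = t' := by simpa [Gm, sS] using congrArg (fun u => u.2.2) (e (0, 0, 1))
  subst a1 a2
  refine ⟨(indep (A := -(s * b)) fun a => ?_).2, fun hβ => (indep (A := t * φ + s * y - φ * s)
    fun a => ?_).2⟩
  · have := congrArg (fun u => u.2.1) (e (a, 0, 0))
    simp only [Gm, sS, star_mul'] at this
    linear_combination -this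
  · have := congrArg (fun u => u.2.2) (e (a, 0, 0))
    simp only [Gm, sS, star_mul', hβ, star_zero] at this
    linear_combination -this

theorem opp {g : Γ} {e : K ≃+ K} (hg : ∀ d, g • ((0 : K), (0 : K), d) = Gm β φ ψ (e d, 0, 0)) :
    (∀ a a', bf (Gm β φ ψ (a, 0, 0)) (Gm β φ ψ (a', 0, 0)) = 0) ∧
    ∃ y κ : K, star y = -y ∧ (κ = 0 → y ≠ 0) ∧ ((2 : K) = 0 → κ = 0) ∧ In Γ β φ ψ (zl y κ) := by
  have i1 : ∀ a a', bf (Gm β φ ψ (a, 0, 0)) (Gm β φ ψ (a', 0, 0)) = 0 := fun a a' => by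
    rw [← e.apply_symm_apply a, ← e.apply_symm_apply a', ← hg, ← hg]
    exact h.perp g (bf_W ⟨rfl, rfl⟩ rfl)
  have i2 : ∀ v w, bf (Gm β φ ψ v) (Gm β φ ψ w) = bf v w := fun v w => by rw [bf_Gm, i1, add_zero]
  refine ⟨i1, ?_⟩
  obtain ⟨θ, h0, hθ⟩ := exists_skew (K := K)
  obtain ⟨z, hz, ez⟩ := h.surj 0 θ (by simp [hθ])
  let χ : K × K × K → K := fun v => e ((g⁻¹ • Gm β φ ψ v).1 * θ)
  have k : ∀ v, (g * z * g⁻¹) • Gm β φ ψ v = Gm β φ ψ (v + (χ v, 0, 0)) := fun v => by
    rw [Gm_add, ← hg, mul_smul, mul_smul, ez, ← eq_inv_smul_iff, smul_add, inv_smul_smul]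
    ext <;> simp [sS]
  have c1 : ∀ v w, χ (v + w) = χ v + χ w := fun v w => by
    simp only [χ, Gm_add, smul_add, Prod.fst_add, add_mul, map_add]
  have c2 : ∀ v, χ v = χ (0, 0, v.2.2) := fun v => by
    have : χ (v.1, v.2.1, 0) = 0 := by
      simp only [χ]
      rw [sk0 (a := (g⁻¹ • Gm β φ ψ (v.1, v.2.1, 0)).1) fun d => ?_, zero_mul, map_zero]
      have := h.perp g⁻¹ (v := Gm β φ ψ (v.1, v.2.1, 0)) (w := g • ((0 : K), (0 : K), d))
        (by rw [hg, i2]; simp [bf_eq])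
      simpa [bf_eq] using this
    simpa [this] using c1 (v.1, v.2.1, 0) (0, 0, v.2.2)
  obtain ⟨y, κ, c3⟩ := dec_real (f := fun d => χ (0, 0, d)) (fun x y => by rw [← c1]; simp)
    fun r x hr => by
      have := h.lin g hz hr (Gm β φ ψ (0, 0, x))
      rw [← Gm_smul _ _ _ hr, k, k, ← Gm_smul _ _ _ hr] at this
      simpa using congrArg Prod.fst (Gm_inj this)
  have k' : ∀ v, (g * z * g⁻¹) • Gm β φ ψ v = Gm β φ ψ (zl y κ v) := fun v => by
    rw [k, c2, c3]; congr 1; ext <;> simp [zl]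
  have hy : star y = -y := by
    have := (indep (A := -(y + star y)) (B := y + star y) fun d => by
      have := h.isom g hz (Gm β φ ψ (0, 0, 1)) (Gm β φ ψ (0, 0, d))
      rw [k', k', i2, i2] at this
      simp [bf_eq, zl] at this
      linear_combination this).2
    linear_combination this
  refine ⟨y, κ, hy, fun k0 y0 => ?_, fun h2 => ?_, _, k'⟩
  · have := c2 (Gi β φ ψ (g • (1, 0, 0)))
    rw [c3, k0, y0] at this
    simp [χ, Gm_Gi, h0] at this
  · have a : ∀ d, κ * star d ^ 2 = star κ * d ^ 2 := fun d => by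
      have := h.perp g (v := z • g⁻¹ • Gm β φ ψ (0, 0, d)) (w := g⁻¹ • Gm β φ ψ (0, 0, d)) (by
        rw [ez]; simp [bf_eq, sS, hθ]
        linear_combination ((g⁻¹ • Gm β φ ψ (0, 0, d)).1 * star (g⁻¹ • Gm β φ ψ (0, 0, d)).1 * θ) * h2)
      rw [smul_inv_smul, ← mul_smul, ← mul_smul, k', i2] at this
      simp [bf_eq, zl, hy] at this
      linear_combination this - y * d * star d * h2
    obtain ⟨x, hx⟩ := HF.ne (K := K)
    have a1 : κ = star κ := by simpa using a 1
    refine (mul_eq_zero.1 (show κ * (star x - x) ^ 2 = 0 from ?_)).resolve_right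
      (pow_ne_zero 2 (sub_ne_zero.2 hx))
    have := a x
    rw [← a1] at this
    linear_combination this + κ * (x ^ 2 - x * star x) * h2

open QuadraticAlgebra in
theorem kappa (h2 : (2 : K) ≠ 0) {y κ : K} (hy : star y = -y) (hz : In Γ β φ ψ (zl y κ)) :
    κ = 0 := by
  by_contra k0
  obtain ⟨θ, h0, hθ⟩ := exists_skew (K := K)
  let ν : selfAdjoint K := ⟨θ * κ * star (θ * κ), by simp [selfAdjoint.mem_iff, IsSelfAdjoint, mul_comm]⟩
  let act : QuadraticAlgebra (selfAdjoint K) ν 0 → K → K :=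
    fun r d => r.re.1 * d + r.im.1 * (θ * κ) * star d
  have sa : ∀ r : selfAdjoint K, star r.1 = r.1 := fun r => r.2
  have a1 : ∀ r s d, act (r * s) d = act r (act s d) := fun r s d => by
    simp [act, ν, sa]; ring
  have a2 : ∀ r s d, act (r + s) d = act r d + act s d := fun r s d => by simp [act]; ring
  have a3 : ∀ r d e, act r (d + e) = act r d + act r e := fun r s d => by simp [act]; ring
  have a4 : ∀ r, (∀ d, act r d = 0) → r = 0 := fun r hr => by
    have := indep hr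
    ext
    · simpa using this.1
    · simpa [h0, k0] using this.2
  let M := fun a b c d (v : K × K × K) => (θ⁻¹ * (act c v.2.2 + act d (θ * v.1)), v.2.1,
    act a v.2.2 + act b (θ * v.1))
  have hl : In Γ β φ ψ (M 1 0 ⟨⟨θ * y, by simp [selfAdjoint.mem_iff, IsSelfAdjoint, hθ, hy]⟩, 1⟩ 1) :=
    hz.congr fun v => by ext <;> simp [M, act, zl]; field_simp; ring
  refine dk (F := selfAdjoint K) (fun e => h2 (congrArg Subtype.val e))
    (fun a b c d => In Γ β φ ψ (M a b c d)) (fun x y => (x.comp y).congr fun v => ?_)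
    (fun t => (h.in_sS (b := 0) (y := t.1 * θ) (by simp [sa, hθ]) (by simp)).congr fun v => ?_)
    one_ne_zero hl (hl.inv fun v => ?_) (fun {a b c d} x => ?_) fun {a b d} x => ?_
  · simp only [M, a1, a2, a3, mul_inv_cancel_left₀ h0]
    ext <;> simp only <;> ring
  · ext <;> simp [M, act, sS, h0, algebraMap_eq]; ring
  · ext <;> simp [M, act, h0]; field_simp; ring
  · obtain ⟨γ, e⟩ := x
    have e1 : ∀ d, (γ • ((0 : K), (0 : K), d)).1 = θ⁻¹ * act c d := fun d => by
      rw [← Gm_W β φ ψ, e]; simp [Gm, M, act]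
    by_cases hg : ∀ v : K × K × K, mW v → mW (γ • v)
    · exact Or.inl (a4 c fun d => by simpa [e1, h0] using (hg (0, 0, d) ⟨rfl, rfl⟩).1)
    right
    have N0 : c.re ^ 2 - ν * c.im ^ 2 ≠ 0 := fun N0 => by
      have b1 : c * ⟨c.re, -c.im⟩ = 0 := by
        ext1
        · simp only [re_mul, re_zero]; linear_combination N0
        · simp only [im_mul, im_zero]; ring
      have b2 := a4 ⟨c.re, -c.im⟩ fun d => congrArg (fun u => u.2.2) (h.cl2 hg
        (v := (0, 0, act ⟨c.re, -c.im⟩ d)) ⟨rfl, rfl⟩ (by rw [e1, ← a1, b1]; simp [act]))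
      have b3 : c.re = 0 := congrArg re b2
      have b4 : c.im = 0 := by simpa using congrArg im b2
      simpa using h.cl2 hg (v := (0, 0, 1)) ⟨rfl, rfl⟩ (by simp [e1, act, b3, b4])
    refine IsUnit.of_mul_eq_one ⟨c.re / (c.re ^ 2 - ν * c.im ^ 2),
      -c.im / (c.re ^ 2 - ν * c.im ^ 2)⟩ ?_
    ext1
    · simp only [re_mul, re_one]; field_simp; ring
    · simp only [im_mul, im_one]; ring
  · obtain ⟨b', y', s, t, e⟩ := h.diag x (fun d => by simp [M, act]) one_ne_zero
      fun c => by simp [M]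
    have := (indep (A := a.re.1 - t) (B := a.im.1 * (θ * κ)) fun d => by
      have := congrArg (fun u => u.2.2) (e (0, 0, d))
      simp [M, act, Gm, sS] at this
      linear_combination this).2
    simpa [h0, k0] using this

theorem main {g : Γ} (hg : ¬ ∀ v : K × K × K, mW v → mW (g • v)) :
    (∃ s ∈ (P : Subgroup Γ), ∀ v : K × K × K, mW v → ((s * g) • v).2 = 0) ∧
      ∀ t : K, t ≠ 0 → ∃ a : Γ, ∀ v, a • v = mm t v := by
  obtain ⟨s, hs, β, φ, ψ, e, h1⟩ := h.graph hg
  obtain ⟨i1, y, κ, hy, y0, k0, hz⟩ := h.opp h1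
  obtain rfl : κ = 0 := by
    by_cases h2 : (2 : K) = 0
    exacts [k0 h2, h.kappa h2 hy hz]
  have b0 : 2 * β = 0 := by
    have n := In.nn hy (y0 rfl) (fun t ht => h.in_sS (by simp [ht]) (by simp)) hz
    have := (h.diag' (s := -1) (u := 1) (t := -1) ((n.comp n).congr fun v => by
      have := y0 rfl
      ext <;> simp <;> field_simp) one_ne_zero).1
    simp only [star_neg, star_one] at this
    linear_combination this
  have m := fun t ht => In.mm hy (y0 rfl) (fun b t ht => h.in_sS ht (by rw [b0, zero_mul])) hz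
    (t := t) ht
  obtain ⟨x, hx⟩ := HF.ne (K := K)
  have x0 : x ≠ 0 := fun e => hx (by simp [e])
  have x1 : star x ≠ 0 := star_ne_zero.2 x0
  have d := h.diag' (s := x) (u := star x / x) (t := (star x)⁻¹) (((m x x0).comp
    (m 1 one_ne_zero)).congr fun v => by ext <;> simp [mm, div_eq_mul_inv, mul_comm])
    (div_ne_zero x1 x0)
  obtain rfl : β = 0 := (mul_eq_zero.1 d.1).resolve_right fun e => hx (by
    field_simp at e
    rw [(mul_eq_zero.1 (show star x * (1 - x) = 0 by linear_combination e)).resolve_left x1 |>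
      sub_eq_zero.1 |>.symm, star_one])
  obtain rfl : ψ = 0 := (mul_eq_zero.1 (d.2 rfl)).resolve_right fun e => hx (by
    field_simp at e
    rcases mul_eq_zero.1 (show (star x - 1) * (star x + 1) = 0 by linear_combination -e) with e | e
    · rw [← star_star x, sub_eq_zero.1 e]; simp
    · rw [← star_star x, eq_neg_of_add_eq_zero_left e]; simp)
  have hφ : star φ = -φ - 0 * star 0 := by
    have := (indep (A := -(φ + star φ)) (B := φ + star φ) fun a => by
      have := i1 1 a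
      simp [bf_eq, Gm] at this
      linear_combination this).2
    linear_combination this
  obtain ⟨z, hz', ez⟩ := h.surj 0 φ hφ
  have ez' : ∀ v, z • v = Gm 0 φ 0 v := fun v => by rw [ez]; ext <;> simp [sS, Gm, mul_comm]
  refine ⟨⟨z⁻¹ * s, mul_mem (inv_mem hz') hs, fun v hv => ?_⟩, fun t ht => ?_⟩
  · rw [mW_eq hv, mul_assoc, mul_smul, h1, ← ez', inv_smul_smul]; rfl
  · obtain ⟨a, ha⟩ := m t ht
    exact ⟨z⁻¹ * a * z, fun v => by rw [mul_smul, mul_smul, ez', ha, ← ez', inv_smul_smul]⟩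

end Su

end Cfsg.Agent.Uf
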