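import Cfsg.Agent.U5.B
import Cfsg.Agent.H5.Flag

/-! The matrices of `U5 K`; the normalizer in the unitary group. -/

set_option autoImplicit false
set_option linter.unusedSectionVars false
set_option linter.unusedSimpArgs false

namespace Cfsg.Agent.Uf.Rz

open Matrix U5

variable {K : Type*} [Field K] [StarRing K]

abbrev M5 (K : Type*) := Matrix (Fin 5) (Fin 5) K

theorem all5 {P : Fin 5 → Prop} : (∀ i, P i) ↔ P 0 ∧ P 1 ∧ P 2 ∧ P 3 ∧ P 4 :=
  ⟨fun h => ⟨h 0, h 1, h 2, h 3, h 4⟩, fun ⟨a, b, c, d, e⟩ i => by fin_cases i <;> assumption⟩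

theorem mul5 (M N : M5 K) (i j : Fin 5) :
    (M * N) i j = M i 0 * N 0 j + M i 1 * N 1 j + M i 2 * N 2 j + M i 3 * N 3 j + M i 4 * N 4 j := by
  rw [Matrix.mul_apply, Fin.sum_univ_five]

theorem one5 : (1 : M5 K) = !![1, 0, 0, 0, 0; 0, 1, 0, 0, 0; 0, 0, 1, 0, 0; 0, 0, 0, 1, 0; 0, 0, 0, 0, 1] := by
  ext i j
  fin_cases i <;> fin_cases j <;> rfl

def mat (x : U5 K) : M5 K :=
  !![1, x.a, x.c, x.d, x.z;
     0, 1, x.b, x.y, -(star x.a * x.y + star x.c * x.b + star x.d);
     0, 0, 1, -star x.b, star x.a * star x.b - star x.c;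
     0, 0, 0, 1, -star x.a;
     0, 0, 0, 0, 1]

theorem mat_mul (x w : U5 K) : mat (x * w) = mat x * mat w := by
  simp only [← Matrix.ext_iff, all5, mul5, one5, map_apply, of_apply, cons_val, mul_zero, zero_mul, mul_one, one_mul, add_zero, zero_add, star_zero, star_one, map_zero, map_one, true_and, and_true, star_neg, star_add, star_sub, star_mul', star_star, neg_zero, neg_neg, map_neg, map_add, map_sub, map_mul, sub_zero, zero_sub, mul_neg, neg_mul, mat, mul_a, mul_b, mul_c, mul_d, mul_y, mul_z, w.hy, x.hy]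
  refine ⟨⟨?_, ?_, ?_, ?_⟩, ⟨?_, ?_, ?_⟩, ⟨?_, ?_⟩, ?_⟩ <;> ring

theorem mat_one : mat (1 : U5 K) = 1 := by
  simp only [← Matrix.ext_iff, all5, mul5, one5, map_apply, of_apply, cons_val, mul_zero, zero_mul, mul_one, one_mul, add_zero, zero_add, star_zero, star_one, map_zero, map_one, true_and, and_true, star_neg, star_add, star_sub, star_mul', star_star, neg_zero, neg_neg, map_neg, map_add, map_sub, map_mul, sub_zero, zero_sub, mul_neg, neg_mul, mat, one_a, one_b, one_c, one_d, one_y, one_z]

def matH : U5 K →* M5 K := ⟨⟨mat, mat_one⟩, mat_mul⟩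

theorem mat_inj {x w : U5 K} (h : mat x = mat w) : x = w :=
  U5.ext (congrFun (congrFun h 0) 1) (congrFun (congrFun h 1) 2) (congrFun (congrFun h 0) 2)
    (congrFun (congrFun h 0) 3) (congrFun (congrFun h 1) 3) (congrFun (congrFun h 0) 4)

def JJ (K : Type*) [Field K] : M5 K := !![0, 0, 0, 0, 1; 0, 0, 0, 1, 0; 0, 0, 1, 0, 0; 0, 1, 0, 0, 0; 1, 0, 0, 0, 0]

theorem JJ_sq : JJ K * JJ K = 1 := by simp only [← Matrix.ext_iff, all5, mul5, one5, map_apply, of_apply, cons_val, mul_zero, zero_mul, mul_one, one_mul, add_zero, zero_add, star_zero, star_one, map_zero, map_one, true_and, and_true, star_neg, star_add, star_sub, star_mul', star_star, neg_zero, neg_neg, map_neg, map_add, map_sub, map_mul, sub_zero, zero_sub, mul_neg, neg_mul, JJ]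

/-- unitary matrices -/
def Un (M : M5 K) : Prop := M * JJ K * Mᴴ = JJ K

theorem Un.mul {M N : M5 K} (h : Un M) (h' : Un N) : Un (M * N) := by
  rw [Un, conjTranspose_mul, mul_assoc M N, mul_assoc M, ← mul_assoc _ Nᴴ, h', ← mul_assoc, h]

theorem un_one : Un (1 : M5 K) := by simp [Un]

theorem un_iff {M : M5 K} : Un M ↔ ∀ i j, M i 4 * star (M j 0) + M i 3 * star (M j 1) + M i 2 * star (M j 2) +
    M i 1 * star (M j 3) + M i 0 * star (M j 4) = JJ K i j := by
  rw [Un, ← Matrix.ext_iff]
  refine forall₂_congr fun i j => Eq.congr_left ?_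
  simp only [← Matrix.ext_iff, all5, mul5, one5, map_apply, of_apply, cons_val, mul_zero, zero_mul, mul_one, one_mul, add_zero, zero_add, star_zero, star_one, map_zero, map_one, true_and, and_true, star_neg, star_add, star_sub, star_mul', star_star, neg_zero, neg_neg, map_neg, map_add, map_sub, map_mul, sub_zero, zero_sub, mul_neg, neg_mul, JJ, conjTranspose_apply]

theorem un_mat (x : U5 K) : Un (mat x) := by
  simp only [← Matrix.ext_iff, all5, mul5, one5, map_apply, of_apply, cons_val, mul_zero, zero_mul, mul_one, one_mul, add_zero, zero_add, star_zero, star_one, map_zero, map_one, true_and, and_true, star_neg, star_add, star_sub, star_mul', star_star, neg_zero, neg_neg, map_neg, map_add, map_sub, map_mul, sub_zero, zero_sub, mul_neg, neg_mul, un_iff, mat, JJ, x.hy, x.hz]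
  refine ⟨⟨?_, ?_, ?_, ?_⟩, ⟨?_, ?_, ?_⟩, ⟨?_, ?_⟩, ?_⟩ <;> ring

theorem Un.map [Finite K] {M : M5 K} (h : Un M) (σ : K ≃+* K) : Un (M.map σ) := un_iff.2 fun i j => by
  simp only [map_apply, star_aut, ← map_mul, ← map_add, un_iff.1 h i j]
  revert i j
  simp only [← Matrix.ext_iff, all5, mul5, one5, map_apply, of_apply, cons_val, mul_zero, zero_mul, mul_one, one_mul, add_zero, zero_add, star_zero, star_one, map_zero, map_one, true_and, and_true, star_neg, star_add, star_sub, star_mul', star_star, neg_zero, neg_neg, map_neg, map_add, map_sub, map_mul, sub_zero, zero_sub, mul_neg, neg_mul, JJ]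

/-- diagonal unitary matrices -/
def DD (m s u : K) : M5 K := !![m * s * u, 0, 0, 0, 0; 0, m * u, 0, 0, 0; 0, 0, m, 0, 0; 0, 0, 0, m / star u, 0;
  0, 0, 0, 0, m / (star s * star u)]

theorem un_DD {m s u : K} (hm : m * star m = 1) (hs : s ≠ 0) (hu : u ≠ 0) : Un (DD m s u) := by
  have := star_ne_zero.2 hs
  have := star_ne_zero.2 hu
  simp only [← Matrix.ext_iff, all5, mul5, one5, map_apply, of_apply, cons_val, mul_zero, zero_mul, mul_one, one_mul, add_zero, zero_add, star_zero, star_one, map_zero, map_one, true_and, and_true, star_neg, star_add, star_sub, star_mul', star_star, neg_zero, neg_neg, map_neg, map_add, map_sub, map_mul, sub_zero, zero_sub, mul_neg, neg_mul, un_iff, DD, JJ, star_div₀]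
  refine ⟨?_, ?_, ?_, ?_, ?_⟩ <;> field_simp <;> linear_combination hm

theorem DD_mul (m s u m' s' u' : K) : DD m s u * DD m' s' u' = DD (m * m') (s * s') (u * u') := by
  simp only [← Matrix.ext_iff, all5, mul5, one5, map_apply, of_apply, cons_val, mul_zero, zero_mul, mul_one, one_mul, add_zero, zero_add, star_zero, star_one, map_zero, map_one, true_and, and_true, star_neg, star_add, star_sub, star_mul', star_star, neg_zero, neg_neg, map_neg, map_add, map_sub, map_mul, sub_zero, zero_sub, mul_neg, neg_mul, DD]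
  refine ⟨?_, ?_, ?_, ?_⟩ <;> ring

theorem DD_one : DD (1 : K) 1 1 = 1 := by simp only [← Matrix.ext_iff, all5, mul5, one5, map_apply, of_apply, cons_val, mul_zero, zero_mul, mul_one, one_mul, add_zero, zero_add, star_zero, star_one, map_zero, map_one, true_and, and_true, star_neg, star_add, star_sub, star_mul', star_star, neg_zero, neg_neg, map_neg, map_add, map_sub, map_mul, sub_zero, zero_sub, mul_neg, neg_mul, DD, div_one]

theorem DD_mat [Finite K] (m : K) {s u : K} (hs : s ≠ 0) (hu : u ≠ 0) (σ : K ≃+* K) (x : U5 K) :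
    DD m s u * (mat x).map σ = mat (gam s u σ x) * DD m s u := by
  have := star_ne_zero.2 hs
  have := star_ne_zero.2 hu
  simp only [← Matrix.ext_iff, all5, mul5, one5, map_apply, of_apply, cons_val, mul_zero, zero_mul, mul_one, one_mul, add_zero, zero_add, star_zero, star_one, map_zero, map_one, true_and, and_true, star_neg, star_add, star_sub, star_mul', star_star, neg_zero, neg_neg, map_neg, map_add, map_sub, map_mul, sub_zero, zero_sub, mul_neg, neg_mul, DD, mat, gam, star_aut]
  refine ⟨⟨?_, ?_, ?_, ?_⟩, ⟨?_, ?_, ?_⟩, ⟨?_, ?_⟩, ?_⟩ <;> field_simp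

/-- upper triangular matrices -/
def Tri (M : M5 K) : Prop := ∀ i j, j < i → M i j = 0

theorem tri_iff {M : M5 K} : Tri M ↔ M 1 0 = 0 ∧ M 2 0 = 0 ∧ M 3 0 = 0 ∧ M 4 0 = 0 ∧ M 2 1 = 0 ∧ M 3 1 = 0 ∧
    M 4 1 = 0 ∧ M 3 2 = 0 ∧ M 4 2 = 0 ∧ M 4 3 = 0 := by
  refine ⟨fun t => ?_, fun ⟨_, _, _, _, _, _, _, _, _, _⟩ i j hij => ?_⟩
  · refine ⟨?_, ?_, ?_, ?_, ?_, ?_, ?_, ?_, ?_, ?_⟩ <;> exact t _ _ (by decide)
  · fin_cases i <;> fin_cases j <;> first | assumption | exact absurd hij (by decide)

theorem tri_DD (m s u : K) : Tri (DD m s u) := by simp only [← Matrix.ext_iff, all5, mul5, one5, map_apply, of_apply, cons_val, mul_zero, zero_mul, mul_one, one_mul, add_zero, zero_add, star_zero, star_one, map_zero, map_one, true_and, and_true, star_neg, star_add, star_sub, star_mul', star_star, neg_zero, neg_neg, map_neg, map_add, map_sub, map_mul, sub_zero, zero_sub, mul_neg, neg_mul, tri_iff, DD]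

theorem Tri.det {M : M5 K} (h : Tri M) : M.det = M 0 0 * M 1 1 * M 2 2 * M 3 3 * M 4 4 := by
  rw [det_of_isUpperTriangular h, Fin.prod_univ_five]

theorem det_mat (x : U5 K) : (mat x).det = 1 := by
  rw [Tri.det (by simp only [← Matrix.ext_iff, all5, mul5, one5, map_apply, of_apply, cons_val, mul_zero, zero_mul, mul_one, one_mul, add_zero, zero_add, star_zero, star_one, map_zero, map_one, true_and, and_true, star_neg, star_add, star_sub, star_mul', star_star, neg_zero, neg_neg, map_neg, map_add, map_sub, map_mul, sub_zero, zero_sub, mul_neg, neg_mul, tri_iff, mat])]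
  simp only [← Matrix.ext_iff, all5, mul5, one5, map_apply, of_apply, cons_val, mul_zero, zero_mul, mul_one, one_mul, add_zero, zero_add, star_zero, star_one, map_zero, map_one, true_and, and_true, star_neg, star_add, star_sub, star_mul', star_star, neg_zero, neg_neg, map_neg, map_add, map_sub, map_mul, sub_zero, zero_sub, mul_neg, neg_mul, mat]

theorem det_DD (m s u : K) : (DD m s u).det = m ^ 5 * (s * u ^ 2 / (star s * star u ^ 2)) := by
  rw [(tri_DD m s u).det]
  simp only [← Matrix.ext_iff, all5, mul5, one5, map_apply, of_apply, cons_val, mul_zero, zero_mul, mul_one, one_mul, add_zero, zero_add, star_zero, star_one, map_zero, map_one, true_and, and_true, star_neg, star_add, star_sub, star_mul', star_star, neg_zero, neg_neg, map_neg, map_add, map_sub, map_mul, sub_zero, zero_sub, mul_neg, neg_mul, DD]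
  ring

theorem tri_of_norm [HF K] {M : M5 K} {σ : K ≃+* K} (h : ∀ y : U5 K, ∃ x : U5 K, mat y * M = M * (mat x).map σ) :
    Tri M := by
  obtain ⟨y0, hy0⟩ := exists_tr (K := K) (t := 1) (star_one K)
  obtain ⟨x, h1⟩ := h (xa 1)
  obtain ⟨w, h2⟩ := h ⟨0, 1, 0, 0, y0, 0, by simpa using hy0, by simp⟩
  simp only [← Matrix.ext_iff, all5, mul5, one5, map_apply, of_apply, cons_val, mul_zero, zero_mul, mul_one, one_mul, add_zero, zero_add, star_zero, star_one, map_zero, map_one, true_and, and_true, star_neg, star_add, star_sub, star_mul', star_star, neg_zero, neg_neg, map_neg, map_add, map_sub, map_mul, sub_zero, zero_sub, mul_neg, neg_mul, mat, xa] at h1 h2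
  obtain ⟨⟨a00, -⟩, -, -, ⟨a30, a31, a32, a33, -⟩, -⟩ := h1
  obtain ⟨-, ⟨b10, b11, -⟩, ⟨b20, b21, b22, -⟩, -⟩ := h2
  have a40 : M 4 0 = 0 := by linear_combination -a30
  have a10 : M 1 0 = 0 := by linear_combination a00
  have a30' : M 3 0 = 0 := by linear_combination -b20
  have a20 : M 2 0 = 0 := by rw [a30'] at b10; linear_combination b10
  have a41 : M 4 1 = 0 := by rw [a30'] at a31; linear_combination -a31
  have a31' : M 3 1 = 0 := by rw [a20] at b21; linear_combination -b21
  have a21 : M 2 1 = 0 := by rw [a10, a31'] at b11; linear_combination b11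
  have a42 : M 4 2 = 0 := by rw [a30', a31'] at a32; linear_combination -a32
  have a32' : M 3 2 = 0 := by rw [a20, a21] at b22; linear_combination -b22
  have a43 : M 4 3 = 0 := by rw [a30', a31', a32'] at a33; linear_combination -a33
  exact tri_iff.2 ⟨a10, a20, a30', a40, a21, a31', a41, a32', a42, a43⟩

theorem Tri.mul {M N : M5 K} (h : Tri M) (h' : Tri N) : Tri (M * N) ∧ ∀ i, (M * N) i i = M i i * N i i := by
  refine ⟨BlockTriangular.mul (b := id) h h', fun i => ?_⟩
  rw [Matrix.mul_apply, Finset.sum_eq_single i (fun j _ hj => ?_) (by simp)]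
  rcases lt_or_gt_of_ne hj with e | e
  · rw [h i j e, zero_mul]
  · rw [h' j i e, mul_zero]

theorem Tri.pow {M : M5 K} (h : Tri M) (n : ℕ) : Tri (M ^ n) ∧ ∀ i, (M ^ n) i i = M i i ^ n := by
  induction n with
  | zero => exact ⟨fun i j e => by rw [pow_zero, one_apply_ne e.ne'], fun i => by simp⟩
  | succ n ih => exact ⟨pow_succ M n ▸ (ih.1.mul h).1, fun i => by rw [pow_succ, (ih.1.mul h).2, ih.2, pow_succ]⟩

theorem exists_mat {M : M5 K} (h : Tri M) (hu : Un M) (h0 : M 0 0 = 1) (h1 : M 1 1 = 1) (h2 : M 2 2 = 1) :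
    ∃ x, M = mat x := by
  have e := un_iff.1 hu
  obtain ⟨z1, z2, z3, z4, z5, z6, z7, z8, z9, z10⟩ := tri_iff.1 h
  simp only [← Matrix.ext_iff, all5, mul5, one5, map_apply, of_apply, cons_val, mul_zero, zero_mul, mul_one, one_mul, add_zero, zero_add, star_zero, star_one, map_zero, map_one, true_and, and_true, star_neg, star_add, star_sub, star_mul', star_star, neg_zero, neg_neg, map_neg, map_add, map_sub, map_mul, sub_zero, zero_sub, mul_neg, neg_mul, JJ, h0, h1, h2, z1, z2, z3, z4, z5, z6, z7, z8, z9, z10] at e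
  obtain ⟨⟨e00, -⟩, ⟨e10, e11, -⟩, ⟨e20, e21⟩, ⟨e30, e31⟩, e40⟩ := e
  refine ⟨⟨M 0 1, M 1 2, M 0 2, M 0 3, M 1 3, M 0 4, by linear_combination e11, by linear_combination e00⟩, ?_⟩
  simp only [← Matrix.ext_iff, all5, mul5, one5, map_apply, of_apply, cons_val, mul_zero, zero_mul, mul_one, one_mul, add_zero, zero_add, star_zero, star_one, map_zero, map_one, true_and, and_true, star_neg, star_add, star_sub, star_mul', star_star, neg_zero, neg_neg, map_neg, map_add, map_sub, map_mul, sub_zero, zero_sub, mul_neg, neg_mul, mat, h0, h1, h2, z1, z2, z3, z4, z5, z6, z7, z8, z9, z10, e31, e40]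
  rw [e31] at e30
  exact ⟨by linear_combination e10, ⟨by linear_combination e21, by linear_combination e20 - star (M 0 1) * e21⟩,
    by linear_combination e30⟩

theorem exists_dec {M : M5 K} (h : Tri M) (hu : Un M) :
    ∃ m s u x, m * star m = 1 ∧ s ≠ 0 ∧ u ≠ 0 ∧ M = mat x * DD m s u := by
  have e := un_iff.1 hu
  obtain ⟨z1, z2, z3, z4, z5, z6, z7, z8, z9, z10⟩ := tri_iff.1 h
  have e04 := e 0 4
  have e13 := e 1 3
  have e22 := e 2 2
  simp only [← Matrix.ext_iff, all5, mul5, one5, map_apply, of_apply, cons_val, mul_zero, zero_mul, mul_one, one_mul, add_zero, zero_add, star_zero, star_one, map_zero, map_one, true_and, and_true, star_neg, star_add, star_sub, star_mul', star_star, neg_zero, neg_neg, map_neg, map_add, map_sub, map_mul, sub_zero, zero_sub, mul_neg, neg_mul, JJ, z1, z2, z3, z4, z5, z6, z7, z8, z9, z10] at e04 e13 e22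
  have n0 := left_ne_zero_of_mul_eq_one e04
  have n1 := left_ne_zero_of_mul_eq_one e13
  have n2 := left_ne_zero_of_mul_eq_one e22
  have k := h.mul (tri_DD (M 2 2)⁻¹ (M 0 0 / M 1 1)⁻¹ (M 1 1 / M 2 2)⁻¹)
  obtain ⟨x, hx⟩ := exists_mat k.1 (hu.mul (un_DD (by rw [star_inv₀, ← mul_inv, e22, inv_one])
    (inv_ne_zero (div_ne_zero n0 n1)) (inv_ne_zero (div_ne_zero n1 n2)))) (by rw [k.2]; simp only [← Matrix.ext_iff, all5, mul5, one5, map_apply, of_apply, cons_val, mul_zero, zero_mul, mul_one, one_mul, add_zero, zero_add, star_zero, star_one, map_zero, map_one, true_and, and_true, star_neg, star_add, star_sub, star_mul', star_star, neg_zero, neg_neg, map_neg, map_add, map_sub, map_mul, sub_zero, zero_sub, mul_neg, neg_mul, DD]; field_simp)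
    (by rw [k.2]; simp only [← Matrix.ext_iff, all5, mul5, one5, map_apply, of_apply, cons_val, mul_zero, zero_mul, mul_one, one_mul, add_zero, zero_add, star_zero, star_one, map_zero, map_one, true_and, and_true, star_neg, star_add, star_sub, star_mul', star_star, neg_zero, neg_neg, map_neg, map_add, map_sub, map_mul, sub_zero, zero_sub, mul_neg, neg_mul, DD]; field_simp) (by rw [k.2]; simp only [← Matrix.ext_iff, all5, mul5, one5, map_apply, of_apply, cons_val, mul_zero, zero_mul, mul_one, one_mul, add_zero, zero_add, star_zero, star_one, map_zero, map_one, true_and, and_true, star_neg, star_add, star_sub, star_mul', star_star, neg_zero, neg_neg, map_neg, map_add, map_sub, map_mul, sub_zero, zero_sub, mul_neg, neg_mul, DD]; field_simp)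
  refine ⟨M 2 2, M 0 0 / M 1 1, M 1 1 / M 2 2, x, e22, div_ne_zero n0 n1, div_ne_zero n1 n2, ?_⟩
  rw [← hx, mul_assoc, DD_mul, inv_mul_cancel₀ n2, inv_mul_cancel₀ (div_ne_zero n0 n1),
    inv_mul_cancel₀ (div_ne_zero n1 n2), DD_one, mul_one]

theorem exists_of_pow {p : ℕ} [Fact p.Prime] [CharP K p] {M : M5 K} (h : Tri M) (hu : Un M) {k : ℕ}
    (hk : M ^ p ^ k = 1) : ∃ x, M = mat x := by
  have : ∀ i, M i i = 1 := fun i => H5.Cl.eq_one_of_pow (p := p) (k := k) (by rw [← (h.pow _).2, hk, one_apply_eq])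
  exact exists_mat h hu (this 0) (this 1) (this 2)

def N1 (K : Type*) [Field K] : M5 K := !![1, 0, 0, 0, 0; 0, 0, 0, 1, 0; 0, 0, -1, 0, 0; 0, 1, 0, 0, 0; 0, 0, 0, 0, 1]
def N2 (K : Type*) [Field K] : M5 K := !![0, 1, 0, 0, 0; -1, 0, 0, 0, 0; 0, 0, 1, 0, 0; 0, 0, 0, 0, -1; 0, 0, 0, 1, 0]

theorem un_N1 : Un (N1 K) := by simp only [← Matrix.ext_iff, all5, mul5, one5, map_apply, of_apply, cons_val, mul_zero, zero_mul, mul_one, one_mul, add_zero, zero_add, star_zero, star_one, map_zero, map_one, true_and, and_true, star_neg, star_add, star_sub, star_mul', star_star, neg_zero, neg_neg, map_neg, map_add, map_sub, map_mul, sub_zero, zero_sub, mul_neg, neg_mul, un_iff, N1, JJ]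
theorem un_N2 : Un (N2 K) := by simp only [← Matrix.ext_iff, all5, mul5, one5, map_apply, of_apply, cons_val, mul_zero, zero_mul, mul_one, one_mul, add_zero, zero_add, star_zero, star_one, map_zero, map_one, true_and, and_true, star_neg, star_add, star_sub, star_mul', star_star, neg_zero, neg_neg, map_neg, map_add, map_sub, map_mul, sub_zero, zero_sub, mul_neg, neg_mul, un_iff, N2, JJ]
theorem un_JJ : Un (JJ K) := by simp only [← Matrix.ext_iff, all5, mul5, one5, map_apply, of_apply, cons_val, mul_zero, zero_mul, mul_one, one_mul, add_zero, zero_add, star_zero, star_one, map_zero, map_one, true_and, and_true, star_neg, star_add, star_sub, star_mul', star_star, neg_zero, neg_neg, map_neg, map_add, map_sub, map_mul, sub_zero, zero_sub, mul_neg, neg_mul, un_iff, JJ]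
theorem det_N1 : (N1 K).det = 1 := by simp [N1, det_succ_row_zero, Fin.sum_univ_succ, Fin.succAbove]
theorem det_N2 : (N2 K).det = 1 := by simp [N2, det_succ_row_zero, Fin.sum_univ_succ, Fin.succAbove]
theorem det_JJ : (JJ K).det = 1 := by
  simp [JJ, det_succ_row_zero, Fin.sum_univ_succ, Fin.succAbove]
  norm_num

theorem N1_mat {x : U5 K} (hx : x ∈ sQ1 K) : N1 K * mat x = mat (w1 x) * N1 K := by
  simp only [← Matrix.ext_iff, all5, mul5, one5, map_apply, of_apply, cons_val, mul_zero, zero_mul, mul_one, one_mul, add_zero, zero_add, star_zero, star_one, map_zero, map_one, true_and, and_true, star_neg, star_add, star_sub, star_mul', star_star, neg_zero, neg_neg, map_neg, map_add, map_sub, map_mul, sub_zero, zero_sub, mul_neg, neg_mul, N1, mat, w1, hx.1, hx.2]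

theorem N2_mat {x : U5 K} (hx : x ∈ sQ2 K) : N2 K * mat x = mat (w2 x) * N2 K := by
  simp only [← Matrix.ext_iff, all5, mul5, one5, map_apply, of_apply, cons_val, mul_zero, zero_mul, mul_one, one_mul, add_zero, zero_add, star_zero, star_one, map_zero, map_one, true_and, and_true, star_neg, star_add, star_sub, star_mul', star_star, neg_zero, neg_neg, map_neg, map_add, map_sub, map_mul, sub_zero, zero_sub, mul_neg, neg_mul, N2, mat, w2, mem_sQ2.1 hx]
  ring

end Cfsg.Agent.Uf.Rz
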